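import Groth.Agent.Lib.AmpleFib.CurveRel
import Groth.Agent.Lib.P1Split17.Basis

/-!
# Direct images of pluricanonical modules of families of curves
-/

universe u

open CategoryTheory Limits AlgebraicGeometry TopologicalSpace Opposite

set_option linter.style.haveILetI false
set_option backward.isDefEq.respectTransparency false

namespace Groth.Agent.AmpleFib

open Groth.Agent.M1

/-- The dimension of the sections of a module on a `k`-scheme whose direct image to `Spec k` is free. -/
theorem finrank_of_push_free {k : Type u} [Field k] {Z : Scheme.{u}} [Z.Over (Spec (CommRingCat.of k))]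
    (G : Z.Modules) {r : ℕ}
    (Θ : FlatMod.freeMod (Spec (CommRingCat.of k)) r ≅
      (Scheme.Modules.pushforward (Z ↘ Spec (CommRingCat.of k))).obj G) :
    Module.finrank k (Coh.HH Z G 0) = r := by
  let ζ := Z ↘ Spec (CommRingCat.of k)
  have hb := (P1Split.isBas_coprod (fun _ : Fin r => Coh.structureModule (Spec (CommRingCat.of k)))
    (fun _ => one ⊤) fun _ => P1Split.isGen_one ⊤).map_iso Θ
  obtain ⟨e, he⟩ : ∃ e : Fin r → Γ((Scheme.Modules.pushforward ζ).obj G, ⊤),
      P1Split.IsBas ((Scheme.Modules.pushforward ζ).obj G) ⊤ e := ⟨_, hb⟩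
  let Φ : (Fin r → k) →ₗ[k] Coh.HH Z G 0 :=
    ∑ i, (LinearMap.proj i).smulRight ((CurveCoh17.hh0 G).symm (show Γ(G, ⊤) from e i))
  have hΦ : ∀ c : Fin r → k, CurveCoh17.hh0 G (Φ c) =
      ∑ i, (show Γ(G, ⊤) from ((Scheme.ΓSpecIso (CommRingCat.of k)).inv (c i) • mres _ (le_refl ⊤) (e i) :
        Γ((Scheme.Modules.pushforward ζ).obj G, ⊤))) := fun c => by
    simp only [Φ, LinearMap.coe_sum, Finset.sum_apply, map_sum, LinearMap.smulRight_apply, LinearMap.proj_apply]
    refine Finset.sum_congr rfl fun i _ => ?_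
    refine (CurveCoh17.hh0_smul _ _).trans ?_
    rw [AddEquiv.apply_symm_apply, mres_id]
    rfl
  have hbij : Function.Bijective Φ := by
    have h1 := (he ⊤ le_rfl).comp
      (Function.Bijective.comp_left (α := Fin r)
        (ConcreteCategory.bijective_of_isIso (Scheme.ΓSpecIso (CommRingCat.of k)).inv))
    refine ⟨fun c d h => h1.1 ?_, fun z => ?_⟩
    · exact (hΦ c).symm.trans ((congrArg (CurveCoh17.hh0 G) h).trans (hΦ d))
    · obtain ⟨c, hc⟩ := h1.2 (CurveCoh17.hh0 G z)
      exact ⟨c, (CurveCoh17.hh0 G).injective ((hΦ c).trans hc)⟩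
  rw [← (LinearEquiv.ofBijective Φ hbij).finrank_eq, Module.finrank_fin_fun]

section Family

variable {C S : Scheme.{u}} (f : C ⟶ S) [IsProper f] [Smooth f] [GeometricallyConnected f]

/-- The fibres of the pluricanonical modules of a family of curves of genus `≥ 2`. -/
theorem fibre_tensorPow_omega (hdim : ∀ s : S, topologicalKrullDim ↥(f.fiber s) = 1) {g : ℕ} (hg : 2 ≤ g)
    (hgen : ∀ s : S, letI : (f.fiber s).Over (Spec (S.residueField s)) := ⟨f.fiberToSpecResidueField s⟩
      Curv2.genus (S.residueField s) (f.fiber s) = g) {n : ℕ} (hn : 2 ≤ n) (s : S) :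
    letI : (f.fiber s).Over (Spec (S.residueField s)) := ⟨f.fiberToSpecResidueField s⟩
    Subsingleton (CohIII.fiberH f (CohB1.tensorPow (Omega.sheaf f) n) s 1) ∧
      Module.finrank (S.residueField s)
        (Coh.HH (f.fiber s) ((Scheme.Modules.pullback (f.fiberι s)).obj (CohB1.tensorPow (Omega.sheaf f) n)) 0) =
          (2 * n - 1) * (g - 1) := by
  letI : (f.fiber s).Over (Spec (S.residueField s)) := ⟨f.fiberToSpecResidueField s⟩
  have sq : IsPullback (f.fiberι s) (f.fiberToSpecResidueField s) f (S.fromSpecResidueField s) :=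
    IsPullback.of_hasPullback _ _
  haveI : IsProper (f.fiberToSpecResidueField s) := MorphismProperty.of_isPullback (P := @IsProper) sq inferInstance
  haveI : IsProper ((f.fiber s) ↘ Spec (CommRingCat.of (S.residueField s))) := ‹IsProper (f.fiberToSpecResidueField s)›
  haveI : Smooth ((f.fiber s) ↘ Spec (CommRingCat.of (S.residueField s))) :=
    MorphismProperty.of_isPullback (P := @Smooth) sq inferInstance
  haveI : GeometricallyConnected ((f.fiber s) ↘ Spec (CommRingCat.of (S.residueField s))) :=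
    MorphismProperty.of_isPullback (P := @GeometricallyConnected) sq inferInstance
  haveI : IsIntegral (f.fiber s) := VB17.isIntegral_of_smooth (k := S.residueField s) (X := f.fiber s)
  haveI := AbRigid.geometricallyReduced_of_smooth ((f.fiber s) ↘ Spec (CommRingCat.of (S.residueField s)))
  have h0 := S1536.result (S.residueField s) (f.fiber s)
  have hX := VB17.curveLike (k := S.residueField s) (X := f.fiber s) (hdim s)
  haveI := hX.noetherian
  obtain ⟨hΩ, hd⟩ := deg_omega_of_smooth_connected (k := S.residueField s) (hdim s)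
  obtain ⟨e⟩ := nonempty_omega_pullback sq
  let P := CohB1.tensorPow (Omega.sheaf ((f.fiber s) ↘ Spec (CommRingCat.of (S.residueField s)))) n
  let e' : (Scheme.Modules.pullback (f.fiberι s)).obj (CohB1.tensorPow (Omega.sheaf f) n) ≅ P :=
    M2.pullTensorPowIso (f.fiberι s) (Omega.sheaf f) n ≪≫ M2.tensorPowIso e n
  have hP : PicF.IsInvertible P := Amp.isInvertible_tensorPow hΩ n
  have hdeg : Curv2.deg (S.residueField s) (f.fiber s) P 1 =
      n * (2 * (g : ℤ) - 2) := by
    rw [hX.deg_tensorPow hΩ n, hd, hgen s]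
  have hn' : (2 : ℤ) ≤ n := by exact_mod_cast hn
  have hg' : (2 : ℤ) ≤ g := by exact_mod_cast hg
  haveI h1 := hX.h1_subsingleton_of_deg (CurveCoh17.rkOne_of_invertible hX.dim hP) h0 (by
    rw [hgen s]; refine lt_of_lt_of_eq ?_ hdeg.symm; nlinarith)
  refine ⟨?_, ?_⟩
  · exact (CurveCoh17.hequiv (S.residueField s) e' 1).toEquiv.subsingleton
  · rw [(CurveCoh17.hequiv (S.residueField s) e' 0).finrank_eq]
    have hrr := hX.rr (CurveCoh17.isCoh_of_ofRank ((M2.isInvertible_iff_isFinLocFreeOfRank_one _).1 hP))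
    rw [Module.finrank_zero_of_subsingleton (M := Coh.HH (f.fiber s) P 1), h0, hgen s, hdeg] at hrr
    have h2 : (((2 * n - 1) * (g - 1) : ℕ) : ℤ) = (2 * (n : ℤ) - 1) * ((g : ℤ) - 1) := by
      rw [Nat.cast_mul, Nat.cast_sub (by omega), Nat.cast_sub (by omega)]
      push_cast
      ring
    have h3 : (n : ℤ) * (2 * (g : ℤ) - 2) + 1 - g = (2 * (n : ℤ) - 1) * ((g : ℤ) - 1) := by ring
    have : (Module.finrank (S.residueField s) (Coh.HH (f.fiber s) P 0) : ℤ) =
        (((2 * n - 1) * (g - 1) : ℕ) : ℤ) := by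
      rw [h2, ← h3]
      simpa using hrr
    exact_mod_cast this

variable {L : C.Modules}

/-- Base change in degree zero for an invertible module without fibrewise `H¹`. -/
theorem isIso_bc0_of_h1 {f : C ⟶ S} [IsProper f] [Flat f] [LocallyOfFinitePresentation f] (hL : PicF.IsInvertible L)
    (h1 : ∀ s : S, Subsingleton (CohIII.fiberH f L s 1)) {T C' : Scheme.{u}} {b : T ⟶ S} {f' : C' ⟶ T} {b' : C' ⟶ C}
    (sq : IsPullback b' f' f b) : IsIso (CohBC.bc0 f b f' b' sq.w L) := by
  haveI := CohFound.hasInjectiveResolutions_modules C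
  haveI : Coh.IsQCoh L := Twist.isQCoh_of_isInvertible hL
  have hfl : FlatMod.IsFlatOver f L := DPerf.isFlatOver_of_isFlat f (M := L) fun x =>
    KFlat.Sch.isFlat_of_isFinLocFree (M2.isFinLocFree_of_isInvertible hL) x
  refine CBC10.isIso_bc0 sq L fun z => ?_
  obtain ⟨V, M, hV, hM, -⟩ := CBC10.exists_nhd_H1 (LimShf14.isFP_of_isInvertible hL) hfl (b z) (h1 (b z))
  exact ⟨V, M, hV, hM⟩

/-- Direct images of invertible modules without fibrewise `H¹`: rank and vanishing. -/
theorem push_of_h1 {f : C ⟶ S} [IsProper f] [Flat f] [LocallyOfFinitePresentation f] [HasInjectiveResolutions C.Modules]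
    (hdim : ∀ s : S, topologicalKrullDim ↥(f.fiber s) ≤ 1) (hL : PicF.IsInvertible L)
    (h1 : ∀ s : S, Subsingleton (CohIII.fiberH f L s 1)) {r : ℕ}
    (hr : ∀ s : S, letI : (f.fiber s).Over (Spec (S.residueField s)) := ⟨f.fiberToSpecResidueField s⟩
      Module.finrank (S.residueField s) (Coh.HH (f.fiber s) ((Scheme.Modules.pullback (f.fiberι s)).obj L) 0) = r) :
    FlatMod.IsFinLocFreeOfRank r ((Coh.push f).obj L) ∧
      ∀ i : ℕ, 1 ≤ i → IsZero ((Coh.Rpush f i).obj L) := by
  haveI : Coh.IsQCoh L := Twist.isQCoh_of_isInvertible hL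
  have hfp := LimShf14.isFP_of_isInvertible hL
  have hfl : FlatMod.IsFlatOver f L := DPerf.isFlatOver_of_isFlat f (M := L) fun x =>
    KFlat.Sch.isFlat_of_isFinLocFree (M2.isFinLocFree_of_isInvertible hL) x
  have hfree : FlatMod.IsFinLocFree ((Scheme.Modules.pushforward f).obj L) :=
    CBC10.isFinLocFree_push fun s => by
      obtain ⟨V, M, hV, hM, -⟩ := CBC10.exists_nhd_H1 hfp hfl s (h1 s)
      exact ⟨V, M, hV, hM⟩
  refine ⟨fun s => ?_, fun i hi => ?_⟩
  · obtain ⟨U, m, hsU, ⟨φ⟩⟩ := hfree s
    suffices hm : m = r by subst hm; exact ⟨U, hsU, ⟨φ⟩⟩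
    letI : (f.fiber s).Over (Spec (S.residueField s)) := ⟨f.fiberToSpecResidueField s⟩
    have sq : IsPullback (f.fiberι s) (f.fiberToSpecResidueField s) f (S.fromSpecResidueField s) :=
      IsPullback.of_hasPullback _ _
    haveI := isIso_bc0_of_h1 hL h1 sq
    let a : Spec (S.residueField s) ⟶ U := IsOpenImmersion.lift U.ι (S.fromSpecResidueField s) (by
      rw [Scheme.range_fromSpecResidueField, Scheme.Opens.range_ι]
      exact Set.singleton_subset_iff.2 hsU)
    have ha : a ≫ U.ι = S.fromSpecResidueField s := IsOpenImmersion.lift_fac _ _ _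
    refine ((finrank_of_push_free (k := S.residueField s) ((Scheme.Modules.pullback (f.fiberι s)).obj L) ?_).symm.trans
      (hr s))
    exact (M2.freeModPullbackIso a m).symm ≪≫ (Scheme.Modules.pullback a).mapIso
        (φ.symm ≪≫ (Scheme.Modules.restrictFunctorIsoPullback U.ι).app _) ≪≫
      (Scheme.Modules.pullbackComp a U.ι).app _ ≪≫
      eqToIso (congrArg (fun g => (Scheme.Modules.pullback g).obj ((Scheme.Modules.pushforward f).obj L)) ha) ≪≫
      asIso (CohBC.bc0 f (S.fromSpecResidueField s) (f.fiberToSpecResidueField s) (f.fiberι s) sq.w L)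
  · have hz : IsZero (((Coh.Rpush f i).obj L).restrict (⊤ : S.Opens).ι) :=
      CBC10.isZero_restrict_of_models i ⊤ fun s _ => by
        have hs : Subsingleton (CohIII.fiberH f L s i) := by
          rcases eq_or_lt_of_le hi with rfl | h2
          · exact h1 s
          · exact CBC10.subsingleton_fiberH_of_dim (d := 1) s (by simpa using hdim s) h2
        obtain ⟨V, -, M₀, hsV⟩ := CBC10.exists_model_at f L hfp hfl (U := ⊤) (s := s) trivial
        obtain ⟨V', -, M, hs', -, -, hz', -⟩ := M₀.exists_zero_nhd inferInstance hsV i hs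
        exact ⟨V', M, hs', le_top, hz'⟩
    exact DPerf.isZero_of_cover (fun _ : Unit => (⊤ : S.Opens)) (fun x => ⟨(), trivial⟩) fun _ => hz

end Family

end Groth.Agent.AmpleFib
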