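import Groth.Agent.Lib.CurveCoh17.VeryAmple
import Groth.Agent.Lib.CurveCoh17.Integral
import Groth.Agent.Lib.RefHull26.Glue
import Groth.Agent.Lib.VB17.Proper

/-!
# Complete linear systems of degree at least `2g + 1` embed integral curves
-/

universe u

open CategoryTheory Limits AlgebraicGeometry TopologicalSpace Opposite

set_option linter.style.haveILetI false
set_option backward.isDefEq.respectTransparency false

namespace Groth.Agent.AmpleFib

open IsLocalRing Groth.Agent.M1 Groth.Agent.M2 Groth.Agent.CurveCoh17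

variable {k : Type u} [Field k] {X : Scheme.{u}} [X.Over (Spec (CommRingCat.of k))]

/-- A stalk map to a module supported at one closed point is induced by a morphism. -/
theorem exists_hom_of_stalk {G N : X.Modules} {P : X} (hN : SuppIn N ({P} : Finset X))
    (φ : G.presheaf.stalk P →ₗ[X.presheaf.stalk P] N.presheaf.stalk P) :
    ∃ ψ : G ⟶ N, ∀ a, stalkLin ψ P a = φ a := by
  classical
  let f : ∀ x : X, RefHull.StalkHom G N x := fun x => if h : x = P then h ▸ φ else 0
  have hfP : f P = φ := dif_pos rfl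
  obtain ⟨ψ, hψ⟩ := RH26.exists_hom_of_stalkFamily G N f fun V m x hx => by
    refine ⟨V, hx, le_rfl, ?_⟩
    by_cases hP : P ∈ V
    · obtain ⟨n, hn⟩ := hN.exists_section V
        (Function.update (fun y => (0 : N.presheaf.stalk y)) P (φ (G.presheaf.germ V P hP m)))
      refine ⟨n, fun y hy => ?_⟩
      by_cases hyP : y = P
      · subst hyP
        rw [hfP, hn y (Finset.mem_singleton_self y) hy, Function.update_self]
      · exact (hN.zero y (by simpa using hyP) _).trans (hN.zero y (by simpa using hyP) _).symm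
    · refine ⟨0, fun y hy => ?_⟩
      have hyP : y ∉ ({P} : Finset X) := by
        intro h
        obtain rfl := Finset.mem_singleton.1 h
        exact hP hy
      exact (hN.zero y hyP _).trans (hN.zero y hyP _).symm
  refine ⟨ψ, fun a => ?_⟩
  rw [← hfP, ← hψ P]
  rfl

/-- Additivity of the Euler characteristic along a kernel. -/
theorem euler_kernel {G N : X.Modules} (ψ : G ⟶ N) [Epi ψ] (h1 : Adm k (kernel ψ)) (h3 : Adm k N) :
    Curv2.euler k X G = Curv2.euler k X (kernel ψ) + Curv2.euler k X N :=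
  euler_add (S := ShortComplex.mk (kernel.ι ψ) ψ (kernel.condition ψ))
    { exact := ShortComplex.exact_of_f_is_kernel _ (kernelIsKernel _) } h1 h3

theorem one_notMem' {R : Type*} [CommRing R] [IsLocalRing R] : (1 : R) ∉ maximalIdeal R :=
  (Ideal.ne_top_iff_one _).1 (IsLocalRing.maximalIdeal.isMaximal R).ne_top

variable [IsAlgClosed k] [IsIntegral X] [IsProper (X ↘ Spec (CommRingCat.of k))]

/-- A nonzero functional at a closed point does not kill all sections of a module of degree `≥ 2g` inside an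
invertible module. -/
theorem exists_sec_apply_ne_zero (hX : CurveLike k X)
    (h0 : Module.finrank k (Coh.HH X (Coh.structureModule X) 0) = 1) {L : X.Modules} (hL : PicF.IsInvertible L)
    {G : X.Modules} (hG : Coh.IsCoh G) (ι : G ⟶ L) [Mono ι]
    (hdeg : 2 * (Curv2.genus k X : ℤ) ≤ Curv2.deg k X G 1) {P : X} (hP : IsClosed ({P} : Set X))
    (φ : G.presheaf.stalk P →ₗ[X.presheaf.stalk P] X.presheaf.stalk P ⧸ maximalIdeal (X.presheaf.stalk P))
    (hφ : φ ≠ 0) : ∃ t : Γ(G, (⊤ : X.Opens)), φ (G.presheaf.germ ⊤ P trivial t) ≠ 0 := by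
  classical
  haveI := hX.noetherian
  let Z := Scheme.IdealSheafData.vanishingIdeal (⟨{P}, hP⟩ : Closeds X)
  let N := ClSub.quotMod Z
  have hsupp : SuppIn N ({P} : Finset X) := suppIn_quotMod_point hP
  obtain ⟨e⟩ := exists_linearEquiv_residue hP
  obtain ⟨ψ, hψ⟩ := exists_hom_of_stalk hsupp (e.toLinearMap.comp φ)
  have hsurj : Function.Surjective φ := by
    obtain ⟨a, ha⟩ : ∃ a, φ a ≠ 0 := by
      by_contra h
      push Not at h
      exact hφ (LinearMap.ext h)
    intro q
    obtain ⟨b, hb⟩ := Ideal.Quotient.mk_surjective (φ a)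
    obtain ⟨c, rfl⟩ := Ideal.Quotient.mk_surjective q
    have hbu : IsUnit b := by
      by_contra hu
      exact ha (hb ▸ Ideal.Quotient.eq_zero_iff_mem.2 ((mem_maximalIdeal b).2 hu))
    obtain ⟨v, rfl⟩ := hbu
    refine ⟨(c * ↑v⁻¹) • a, ?_⟩
    rw [map_smul, ← hb, Algebra.smul_def, Ideal.Quotient.algebraMap_eq, ← map_mul, mul_assoc, Units.inv_mul, mul_one]
  haveI : Epi ψ := (epi_iff_stalk ψ).2 fun y b => by
    by_cases hy : y = P
    · subst hy
      obtain ⟨a, ha⟩ := hsurj (e.symm b)
      refine ⟨a, ?_⟩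
      show stalkLin ψ y a = b
      rw [hψ, LinearMap.comp_apply, ha]
      exact e.apply_symm_apply b
    · exact ⟨0, (hsupp.zero y (by simpa using hy) _).trans (hsupp.zero y (by simpa using hy) b).symm⟩
  let S : ShortComplex X.Modules := ShortComplex.mk (kernel.ι ψ) ψ (kernel.condition ψ)
  have hS : S.ShortExact := { exact := ShortComplex.exact_of_f_is_kernel _ (kernelIsKernel _) }
  have hK : Coh.IsCoh (kernel ψ) := M1.isCoh_kernel hG (isCoh_quotMod Z).1 ψ
  haveI : Mono (kernel.ι ψ ≫ ι) := inferInstance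
  have hrk : RkOne (kernel ψ) := rkOne_of_mono hX.dim hK hL (kernel.ι ψ ≫ ι)
  have hfin := hX.fin N (isCoh_quotMod Z) 0
  have hN1 : Module.finrank k (Coh.HH X N 0) = 1 := by
    rw [finrank_quotMod_point (k := k) hP]
    exact finrank_residueField hP
  have hadd : Curv2.euler k X G = Curv2.euler k X (kernel ψ) + Curv2.euler k X N :=
    euler_kernel ψ (hX.adm hK) (hsupp.adm hfin)
  rw [hsupp.euler_eq hfin, hN1, Nat.cast_one] at hadd
  have hd : Curv2.deg k X (kernel ψ) 1 = Curv2.deg k X G 1 - 1 := by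
    rw [Curv2.deg, Curv2.deg]
    linarith
  haveI := hX.h1_subsingleton_of_deg hrk h0 (by linarith)
  have hsurj0 : Function.Surjective (hmap k S.g 0) := fun w =>
    (exact_hmap_hdelta k hS 0 w).1 (Subsingleton.elim _ _)
  obtain ⟨b, hb⟩ : ∃ b : N.presheaf.stalk P, b ≠ 0 :=
    ⟨e (Ideal.Quotient.mk _ 1), fun h =>
      one_notMem' (Ideal.Quotient.eq_zero_iff_mem.1 ((map_eq_zero_iff e e.injective).1 h))⟩
  obtain ⟨s, hs⟩ := hsupp.exists_section ⊤ (Function.update (fun y => (0 : N.presheaf.stalk y)) P b)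
  obtain ⟨z, hz⟩ := hsurj0 ((hh0 N).symm s)
  refine ⟨hh0 G z, fun h => hb ?_⟩
  have h1 : stalkLin ψ P (G.presheaf.germ ⊤ P trivial (hh0 G z)) = N.presheaf.germ ⊤ P trivial (ψ.app ⊤ (hh0 G z)) :=
    germ_naturality _ _ _ _ _
  rw [← hh0_hmap (A := k), show hmap k ψ 0 z = (hh0 N).symm s from hz, AddEquiv.apply_symm_apply,
    hs P (Finset.mem_singleton_self P) trivial, Function.update_self, hψ, LinearMap.comp_apply, h, map_zero] at h1
  exact h1.symm

/-- A complete linear system of degree at least `2g + 1` on an integral proper curve is a closed immersion. -/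
theorem isClosedImmersion_of_deg (hdim : topologicalKrullDim X = 1)
    (h0 : Module.finrank k (Coh.HH X (Coh.structureModule X) 0) = 1) {L : X.Modules} (hL : PicF.IsInvertible L)
    (hdeg : 2 * (Curv2.genus k X : ℤ) + 1 ≤ Curv2.deg k X L 1) {n : ℕ}
    (r : X ⟶ CohB1.ProjSpace n k) (hr : r ≫ CohB1.ProjSpace.toSpec n k = X ↘ Spec (CommRingCat.of k))
    (τ : Curve17.pullTwist r ≅ L)
    (hspan : ∀ t : Γ(L, (⊤ : X.Opens)), ∃ c, τ.hom.app ⊤ (Curve17.vSec (X ↘ Spec (CommRingCat.of k)) r c) = t) :
    IsClosedImmersion r := by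
  have hX : CurveLike k X := VB17.curveLike (k := k) hdim
  haveI := hX.noetherian
  have hL1 := (isInvertible_iff_isFinLocFreeOfRank_one L).1 hL
  have hgermv : ∀ (R : X) c, stalkLin τ.hom R ((Curve17.pullTwist r).presheaf.germ ⊤ R trivial
        (Curve17.vSec (X ↘ Spec (CommRingCat.of k)) r c)) =
      L.presheaf.germ ⊤ R trivial (τ.hom.app ⊤ (Curve17.vSec (X ↘ Spec (CommRingCat.of k)) r c)) :=
    fun R c => germ_naturality _ _ _ _ _
  have hI : ∀ (P : X) (hP : IsClosed ({P} : Set X)), Coh.IsCoh (pointSC hP L).X₁ ∧ Mono (pointIncl hP L) ∧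
      2 * (Curv2.genus k X : ℤ) ≤ Curv2.deg k X (pointSC hP L).X₁ 1 := fun P hP => by
    have hZ : topologicalKrullDim
        ((Scheme.IdealSheafData.vanishingIdeal (⟨{P}, hP⟩ : Closeds X)).support : Set X) ≤ 0 := by
      rw [show ((Scheme.IdealSheafData.vanishingIdeal (⟨{P}, hP⟩ : Closeds X)).support : Set X) = ({P} : Set X) by simp]
      haveI : DiscreteTopology ({P} : Set X) := Subsingleton.discreteTopology
      exact topologicalKrullDim_zero_of_discreteTopology _
    obtain ⟨hrk, -, hd⟩ := hX.twist_data hL _ hZ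
    refine ⟨hrk.coh, ?_, ?_⟩
    · haveI := (twistSES hL (Scheme.IdealSheafData.vanishingIdeal (⟨{P}, hP⟩ : Closeds X))).mono_f
      exact mono_comp _ _
    · rw [finrank_quotMod_point (k := k) hP, finrank_residueField hP, Nat.cast_one] at hd
      show _ ≤ Curv2.deg k X (CohB1.tensorMod (ClSub.idealMod
        (Scheme.IdealSheafData.vanishingIdeal (⟨{P}, hP⟩ : Closeds X))) L) 1
      linarith
  have hgermι : ∀ (P : X) (hP : IsClosed ({P} : Set X)) (R : X) (t : Γ((pointSC hP L).X₁, (⊤ : X.Opens))),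
      stalkLin (pointIncl hP L) R ((pointSC hP L).X₁.presheaf.germ ⊤ R trivial t) =
        L.presheaf.germ ⊤ R trivial ((pointIncl hP L).app ⊤ t) := fun P hP R t => germ_naturality _ _ _ _ _
  -- sections of `I_P ⊗ L` give sections vanishing at `P`
  have hc : ∀ (P : X) (hP : IsClosed ({P} : Set X)) (t : Γ((pointSC hP L).X₁, (⊤ : X.Opens))),
      ∃ c, ((Curve17.pullTwist r).presheaf.germ ⊤ P trivial (Curve17.vSec (X ↘ Spec (CommRingCat.of k)) r c) :
          (Curve17.pullTwist r).presheaf.stalk P) ∈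
          maximalIdeal (X.presheaf.stalk P) • (⊤ : Submodule (X.presheaf.stalk P) ((Curve17.pullTwist r).presheaf.stalk P)) ∧
        τ.hom.app ⊤ (Curve17.vSec (X ↘ Spec (CommRingCat.of k)) r c) = (pointIncl hP L).app ⊤ t := fun P hP t => by
    obtain ⟨c, hc⟩ := hspan ((pointIncl hP L).app ⊤ t)
    refine ⟨c, (mem_smul_top_congr τ P _).1 ?_, hc⟩
    rw [hgermv, hc]
    have h := (germ_mem_iff (k := k) hL hP ((hh0 L).symm ((pointIncl hP L).app ⊤ t))).2
      ⟨(hh0 _).symm t, (hh0 L).injective (by rw [hh0_hmap, AddEquiv.apply_symm_apply, AddEquiv.apply_symm_apply])⟩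
    rwa [AddEquiv.apply_symm_apply] at h
  -- image of the point inclusion
  have hrange : ∀ (P : X) (hP : IsClosed ({P} : Set X)) (a : L.presheaf.stalk P),
      a ∈ maximalIdeal (X.presheaf.stalk P) • (⊤ : Submodule (X.presheaf.stalk P) (L.presheaf.stalk P)) ↔
        ∃ b, stalkLin (pointIncl hP L) P b = a := fun P hP a => by
    rw [← stalk_pointSC_eq_zero_iff hL hP, stalkLin_comp]
    have hid : ∀ {M : X.Modules} (z : M.presheaf.stalk P), stalkLin (𝟙 M) P z = z := fun {M} z => by
      show (stalkAb P).map (𝟙 M) z = z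
      rw [CategoryTheory.Functor.map_id]
      rfl
    constructor
    · intro h
      obtain ⟨b, hb⟩ := (exact_iff_stalk_eq_zero (pointSC hP L)).1 (twistSES hL _).exact P
        (stalkLin (tensorLUnit L).inv P a) h
      refine ⟨b, ?_⟩
      rw [stalkLin_comp]
      refine (congrArg (stalkLin (tensorLUnit L).hom P) hb).trans ?_
      rw [← stalkLin_comp, Iso.inv_hom_id, hid]
    · rintro ⟨b, rfl⟩
      rw [← stalkLin_comp, ← stalkLin_comp, Category.assoc]
      erw [Iso.hom_inv_id_assoc]
      rw [(pointSC hP L).zero]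
      show (stalkAb P).map (0 : (pointSC hP L).X₁ ⟶ _) b = 0
      rw [Functor.map_zero]
      rfl
  refine (Curve17.isClosedImmersion_iff_sep (n := n) (X ↘ Spec (CommRingCat.of k)) r hr).2
    (fun P Q hP hQ hne => Or.inl ?_) (fun P hP => ?_)
  · -- separation of points
    obtain ⟨hG, hm, hd⟩ := hI P hP
    obtain ⟨e⟩ := nonempty_stalk_equiv hL1 Q
    have hsurj : Function.Surjective (stalkLin (pointIncl hP L) Q) := fun y => by
      obtain ⟨b, hb⟩ := (exact_iff_stalk_eq_zero (pointSC hP L)).1 (twistSES hL _).exact Q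
        (stalkLin (tensorLUnit L).inv Q y) (((suppIn_quotMod_point hP).tensor L).zero Q (by simpa using hne.symm) _)
      refine ⟨b, ?_⟩
      rw [stalkLin_comp]
      refine (congrArg (stalkLin (tensorLUnit L).hom Q) hb).trans ?_
      rw [← stalkLin_comp, Iso.inv_hom_id]
      show (stalkAb Q).map (𝟙 L) y = y
      rw [CategoryTheory.Functor.map_id]
      rfl
    let φ : (pointSC hP L).X₁.presheaf.stalk Q →ₗ[X.presheaf.stalk Q]
        X.presheaf.stalk Q ⧸ maximalIdeal (X.presheaf.stalk Q) :=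
      ((Submodule.mkQ (maximalIdeal (X.presheaf.stalk Q))).comp ((LinearMap.proj 0).comp e.toLinearMap)).comp
        (stalkLin (pointIncl hP L) Q)
    have hφ : φ ≠ 0 := fun h => by
      obtain ⟨a, ha⟩ := hsurj (e.symm 1)
      have := LinearMap.congr_fun h a
      simp only [φ, LinearMap.comp_apply, ha, LinearEquiv.coe_coe, LinearEquiv.apply_symm_apply,
        LinearMap.proj_apply, Pi.one_apply, LinearMap.zero_apply] at this
      exact one_notMem' ((Submodule.Quotient.mk_eq_zero _).1 this)
    obtain ⟨t, ht⟩ := exists_sec_apply_ne_zero hX h0 hL hG (pointIncl hP L) hd hQ φ hφ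
    obtain ⟨c, hcP, hcv⟩ := hc P hP t
    refine ⟨c, hcP, fun hQm => ht ?_⟩
    have h' := (mem_smul_top_congr τ Q _).2 hQm
    rw [hgermv, hcv, ← hgermι] at h'
    have key : ∀ a ∈ maximalIdeal (X.presheaf.stalk Q) • (⊤ : Submodule (X.presheaf.stalk Q) (L.presheaf.stalk Q)),
        Submodule.mkQ (maximalIdeal (X.presheaf.stalk Q)) (e a 0) = 0 := fun a ha => by
      refine (Submodule.Quotient.mk_eq_zero _).2 ?_
      induction ha using Submodule.smul_induction_on' with
      | smul x hx b _ => rw [map_smul, Pi.smul_apply, smul_eq_mul]; exact Ideal.mul_mem_right _ _ hx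
      | add a _ b _ ha hb => rw [map_add, Pi.add_apply]; exact add_mem ha hb
    exact key _ h'
  · -- separation of tangents
    obtain ⟨hG, hm, hd⟩ := hI P hP
    intro a ha
    by_contra hno
    let m := maximalIdeal (X.presheaf.stalk P)
    let T : Submodule (X.presheaf.stalk P) ((Curve17.pullTwist r).presheaf.stalk P) :=
      Submodule.span (X.presheaf.stalk P)
        {v | ∃ c : Fin (n + 1) → k, v = (Curve17.pullTwist r).presheaf.germ ⊤ P (Opens.mem_top P)
            (Curve17.vSec (X ↘ Spec (CommRingCat.of k)) r c) ∧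
          v ∈ m • (⊤ : Submodule (X.presheaf.stalk P) ((Curve17.pullTwist r).presheaf.stalk P))} ⊔
        m ^ 2 • (⊤ : Submodule (X.presheaf.stalk P) ((Curve17.pullTwist r).presheaf.stalk P))
    have haT : a ∉ T := hno
    let ιP := stalkLin (pointIncl hP L) P
    let T' : Submodule (X.presheaf.stalk P) ((pointSC hP L).X₁.presheaf.stalk P) :=
      T.comap ((stalkLin τ.inv P).comp ιP)
    obtain ⟨b, hb⟩ := (hrange P hP _).1 ((mem_smul_top_congr τ P a).2 ha)
    have hinv : stalkLin τ.inv P (stalkLin τ.hom P a) = a := by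
      rw [← stalkLin_comp, τ.hom_inv_id]
      show (stalkAb P).map (𝟙 _) a = a
      rw [CategoryTheory.Functor.map_id]
      rfl
    have hbT : Submodule.mkQ T' b ≠ 0 := fun h => by
      have h' : b ∈ T' := (Submodule.Quotient.mk_eq_zero _).1 h
      change stalkLin τ.inv P (stalkLin (pointIncl hP L) P b) ∈ T at h'
      rw [hb, hinv] at h'
      exact haT h'
    have htor : Module.IsTorsionBySet (X.presheaf.stalk P) ((pointSC hP L).X₁.presheaf.stalk P ⧸ T') (m : Set _) := by
      intro q x
      obtain ⟨z, rfl⟩ := Submodule.mkQ_surjective T' q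
      rw [← map_smul]
      refine (Submodule.Quotient.mk_eq_zero _).2 ?_
      show stalkLin τ.inv P (stalkLin (pointIncl hP L) P ((x : X.presheaf.stalk P) • z)) ∈ T
      rw [map_smul, map_smul]
      refine Submodule.mem_sup_right ?_
      rw [pow_two, Submodule.mul_smul]
      exact Submodule.smul_mem_smul x.2 ((mem_smul_top_congr τ.symm P _).2 ((hrange P hP _).2 ⟨z, rfl⟩))
    letI : Module (X.presheaf.stalk P ⧸ m) ((pointSC hP L).X₁.presheaf.stalk P ⧸ T') := htor.module
    haveI : IsScalarTower (X.presheaf.stalk P) (X.presheaf.stalk P ⧸ m)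
        ((pointSC hP L).X₁.presheaf.stalk P ⧸ T') := htor.isScalarTower
    letI : Field (X.presheaf.stalk P ⧸ m) := Ideal.Quotient.field m
    obtain ⟨d, hdb⟩ := Module.Projective.exists_dual_ne_zero (X.presheaf.stalk P ⧸ m) hbT
    let φ := (d.restrictScalars (X.presheaf.stalk P)).comp T'.mkQ
    obtain ⟨t, ht⟩ := exists_sec_apply_ne_zero hX h0 hL hG (pointIncl hP L) hd hP φ
      (fun h => hdb (LinearMap.congr_fun h b))
    obtain ⟨c, hcP, hcv⟩ := hc P hP t
    have h2 : T'.mkQ ((pointSC hP L).X₁.presheaf.germ ⊤ P trivial t) = 0 := by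
      refine (Submodule.Quotient.mk_eq_zero _).2 ?_
      show stalkLin τ.inv P (stalkLin (pointIncl hP L) P _) ∈ T
      rw [hgermι, ← hcv, ← hgermv]
      refine Submodule.mem_sup_left (Submodule.subset_span ⟨c, ?_, ?_⟩)
      · rw [← stalkLin_comp, τ.hom_inv_id]
        show (stalkAb P).map (𝟙 _) _ = _
        rw [CategoryTheory.Functor.map_id]
        rfl
      · rw [← stalkLin_comp, τ.hom_inv_id]
        show (stalkAb P).map (𝟙 _) _ ∈ _
        rw [CategoryTheory.Functor.map_id]
        exact hcP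
    exact ht (show d (T'.mkQ _) = 0 by rw [h2, map_zero])

end Groth.Agent.AmpleFib
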