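import Groth.Agent.Lib.AmpleFib.FibVA
import Groth.Agent.Lib.FpqcDesc.Basic
import Groth.Agent.Lib.CohBC18.Field
import Groth.Agent.Lib.CurveCoh17.HZero

/-!
# Embedding sections can be detected after a faithfully flat base change
-/

universe u

open CategoryTheory Limits AlgebraicGeometry TopologicalSpace Opposite

set_option linter.style.haveILetI false
set_option backward.isDefEq.respectTransparency false

namespace Groth.Agent.AmpleFib

open Groth.Agent.VA11
open Groth.Agent.M1 (ores mres)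

/-- Sections whose pullbacks embed after a faithfully flat base change define a closed immersion. -/
theorem exists_closedImmersion_of_vaat {R R' : Type u} [CommRing R] [CommRing R'] (φ : R →+* R')
    [Flat (Spec.map (CommRingCat.ofHom φ))] [Surjective (Spec.map (CommRingCat.ofHom φ))]
    {X X' : Scheme.{u}} (q : X ⟶ Spec (CommRingCat.of R)) [IsProper q] {g : X' ⟶ X}
    {q' : X' ⟶ Spec (CommRingCat.of R')} (sq : IsPullback g q' q (Spec.map (CommRingCat.ofHom φ)))
    {L : X.Modules} (hL : PicF.IsInvertible L) {T : Type u} [Fintype T] (w : T → ProjUP.Γm L)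
    (hva : ∀ x', VAat (W := g ⁻¹ᵁ ⊤) (Coh.toGlobal q') (fun l => M2.pullSec g L (w l)) x') :
    ∃ (n : ℕ) (j : X ⟶ CohB1.ProjSpace n R), IsClosedImmersion j ∧ j ≫ CohB1.ProjSpace.toSpec n R = q ∧
      Nonempty ((Scheme.Modules.pullback j).obj (_root_.Twist.twistProjSpace n R 1) ≅ L) := by
  classical
  let φS := Spec.map (CommRingCat.ofHom φ)
  let σ := fun l => M2.pullSec g L (w l)
  haveI : Surjective g := MorphismProperty.of_isPullback (P := @Surjective) sq.flip inferInstance
  have hgw : ∀ l, gl (σ l) = g ⁻¹ᵁ gl (W := (⊤ : X.Opens)) (w l) := fun l => gl_pullSec g hL (w l)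
  obtain ⟨n, j, Dc, hj, hτ, hDc, hch⟩ := AmpleImm18.exists_map_of_sections q hL
    (fun l => gl (W := (⊤ : X.Opens)) (w l))
    (eq_top_iff.2 fun x _ => by
      obtain ⟨x', rfl⟩ := g.surjective x
      obtain ⟨l, b, -, hb, -⟩ := hva x'
      exact Opens.mem_iSup.2 ⟨l, (hgw l).le (Scheme.basicOpen_le _ b hb)⟩)
    w (fun l x => (mem_gl_iff hL (Opens.mem_top x)).symm)
    (fun l => Finset.univ.image fun i => cf (W := (⊤ : X.Opens)) (w l) (w i))
    (fun l a ha => by
      obtain ⟨i, -, rfl⟩ := Finset.mem_image.1 ha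
      exact ⟨w i, (cf_smul (W := (⊤ : X.Opens)) (w l) (w i)).symm⟩)
  choose hjpre hjS hjc using hch
  refine ⟨n, j, ?_, hj, hτ⟩
  let π := CohB1.ProjSpace.toSpec n R
  haveI : IsProper q' := MorphismProperty.of_isPullback (P := @IsProper) sq inferInstance
  let p := pullback.fst π φS
  let p₂ := pullback.snd π φS
  let rT := pullback.lift (f := π) (g := φS) (g ≫ j) q' (by rw [Category.assoc, hj]; exact sq.w)
  have hp : rT ≫ p = g ≫ j := pullback.lift_fst _ _ _
  have hq : rT ≫ p₂ = q' := pullback.lift_snd _ _ _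
  haveI : IsAffineHom φS := inferInstance
  haveI : IsAffineHom p := MorphismProperty.pullback_fst (P := @IsAffineHom) _ _ inferInstance
  have hpre : ∀ l, rT ⁻¹ᵁ (p ⁻¹ᵁ Dc l) = gl (σ l) := fun l => by
    rw [← Scheme.Hom.comp_preimage, hp, Scheme.Hom.comp_preimage, hjpre, hgw]
  haveI : IsImmersion rT := by
    refine isImmersion_of_vaat σ hva rT (fun l => p ⁻¹ᵁ Dc l) (fun l => (hDc l).preimage p) hpre
      (fun l c => ⟨p₂.appLE ⊤ (p ⁻¹ᵁ Dc l) le_top ((Scheme.ΓSpecIso (CommRingCat.of R')).inv c), ?_⟩)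
      (fun l i => ?_)
    · have hc : ∀ {h' : X' ⟶ Spec (CommRingCat.of R')} (_ : h' = q') (h : gl (σ l) ≤ h' ⁻¹ᵁ ⊤),
          h'.appLE ⊤ (gl (σ l)) h ((Scheme.ΓSpecIso (CommRingCat.of R')).inv c) =
            ores (gl_le (σ l)) (Coh.toGlobal q' c) := by
        rintro h' rfl h; rfl
      show rT.appLE _ _ _ (p₂.appLE ⊤ _ _ _) = _
      rw [← CommRingCat.comp_apply, Scheme.Hom.appLE_comp_appLE]
      exact hc hq _
    · obtain ⟨d, hd⟩ := hjS l (cf (W := (⊤ : X.Opens)) (w l) (w i))
        (Finset.mem_image.2 ⟨i, Finset.mem_univ _, rfl⟩)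
      refine ⟨p.appLE (Dc l) (p ⁻¹ᵁ Dc l) le_rfl d, ?_⟩
      have hc : ∀ {U : (CohB1.ProjSpace n R).Opens} {h' h'' : X' ⟶ _} (_ : h' = h'') (e e') (d),
          h'.appLE U (gl (σ l)) e d = h''.appLE U (gl (σ l)) e' d := by
        rintro U h' _ rfl e e' d; rfl
      show rT.appLE _ _ _ (p.appLE _ _ _ d) = cf (σ l) (σ i)
      rw [← CommRingCat.comp_apply, Scheme.Hom.appLE_comp_appLE]
      refine (hc hp _ ((hgw l).le.trans (by rw [Scheme.Hom.comp_preimage, hjpre])) d).trans ?_
      rw [← Scheme.Hom.appLE_comp_appLE g j (Dc l) _ (gl (σ l)) (hjpre l).ge (hgw l).le]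
      show g.appLE _ _ _ (j.appLE _ _ _ d) = _
      refine (congrArg _ hd).trans ?_
      exact (cf_pullSec g hL (W := (⊤ : X.Opens)) (w l) (w i)).symm
  haveI : IsProper (rT ≫ p₂) := hq ▸ inferInstance
  haveI : UniversallyClosed rT := UniversallyClosed.of_comp_of_isSeparated rT p₂
  have hcl : IsClosedImmersion rT := IsClosedImmersion.of_isPreimmersion rT rT.isClosedMap.isClosed_range
  have sq' : IsPullback g rT j p := by
    refine IsPullback.of_bot ?_ hp.symm (IsPullback.of_hasPullback π φS)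
    rw [hj, show rT ≫ pullback.snd π φS = q' from hq]
    exact sq
  haveI := FpqcDesc.descendsAlong_isClosedImmersion.{u}
  refine MorphismProperty.of_isPullback_of_descendsAlong (P := @IsClosedImmersion)
    (Q := @Surjective ⊓ @Flat ⊓ @QuasiCompact) sq'.flip ?_ hcl
  exact ⟨⟨MorphismProperty.pullback_fst (P := @Surjective) _ _ inferInstance,
    MorphismProperty.pullback_fst (P := @Flat) _ _ inferInstance⟩,
    MorphismProperty.pullback_fst (P := @QuasiCompact) _ _ inferInstance⟩

open CohBC18 in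
/-- After an extension of the ground field the sections are spanned by pullbacks of sections. -/
theorem bc_section_induction {k : Type u} [Field k] (X : Scheme.{u}) [X.Over (Spec (CommRingCat.of k))]
    [CompactSpace X] [QuasiSeparatedSpace X] (k' : Type u) [Field k'] [Algebra k k'] (M : X.Modules)
    (hM : Coh.IsQCoh M)
    {p : Γ((Scheme.Modules.pullback (Curv2.bcFst k X k')).obj M, Curv2.bcFst k X k' ⁻¹ᵁ ⊤) → Prop}
    (h0 : p 0) (hadd : ∀ a b, p a → p b → p (a + b))
    (hgen : ∀ (a : k') (m : Γ(M, ⊤)),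
      p (ores (le_top : Curv2.bcFst k X k' ⁻¹ᵁ ⊤ ≤ ⊤) (Coh.toGlobal (Curv2.bcSnd k X k') a) •
        M2.pullSec (Curv2.bcFst k X k') M m))
    (t : Γ((Scheme.Modules.pullback (Curv2.bcFst k X k')).obj M, Curv2.bcFst k X k' ⁻¹ᵁ ⊤)) : p t := by
  let b := Module.Free.chooseBasis k k'
  obtain ⟨z, hz⟩ := (bijective_fam_bc (k := k) X k' M hM b 0).2
    ((CohFound.hc0 ((CohFound.abF X).obj (M'' (k := k) X k' M)) ⊤).symm t)
  have key : ∀ z, p (CohFound.hc0 ((CohFound.abF X).obj (M'' (k := k) X k' M)) ⊤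
      (fam (fun i => psi (k := k) X k' M (b i)) 0 ⊤ z)) := fun z => by
    induction z using Finsupp.induction_linear with
    | zero => rw [map_zero, map_zero]; exact h0
    | add x y hx hy => rw [map_add, map_add]; exact hadd _ _ hx hy
    | single i x =>
      rw [fam_single, CohFound.hc0_mp, psi_app]
      exact hgen _ _
  have h := key z
  rw [hz, AddEquiv.apply_symm_apply] at h
  exact h

end Groth.Agent.AmpleFib
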