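import Groth.Agent.Lib.AmpleFib.FibVA
import Groth.Agent.Lib.CurveOm17.AnyField
import Groth.Agent.Lib.AbRigid.SmoothGI
import Groth.Agent.Lib.VB17.Setup
import Groth.Agent.S1536
import Groth.Agent.S1611

/-!
# Very ampleness for smooth relative curves
-/

universe u

open CategoryTheory Limits AlgebraicGeometry TopologicalSpace Opposite

set_option linter.style.haveILetI false
set_option backward.isDefEq.respectTransparency false

namespace Groth.Agent.AmpleFib

open Groth.Agent.VA11

section Field

variable {k : Type u} [Field k] {X : Scheme.{u}} [X.Over (Spec (CommRingCat.of k))]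
  [IsProper (X ↘ Spec (CommRingCat.of k))] [Smooth (X ↘ Spec (CommRingCat.of k))]
  [GeometricallyConnected (X ↘ Spec (CommRingCat.of k))]

omit [IsProper (X ↘ Spec (CommRingCat.of k))] in
/-- Geometrically connected proper smooth schemes over a field are geometrically integral. -/
theorem geometricallyIntegral_of_smooth_connected [IsProper (X ↘ Spec (CommRingCat.of k))] :
    GeometricallyIntegral (X ↘ Spec (CommRingCat.of k)) := by
  refine ⟨fun L _ x W p₁ p₂ hW => ?_⟩
  letI : W.Over (Spec (CommRingCat.of L)) := ⟨p₂⟩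
  haveI : IsProper (W ↘ Spec (CommRingCat.of L)) := MorphismProperty.of_isPullback (P := @IsProper) hW inferInstance
  haveI : Smooth (W ↘ Spec (CommRingCat.of L)) := MorphismProperty.of_isPullback (P := @Smooth) hW inferInstance
  haveI : GeometricallyConnected (W ↘ Spec (CommRingCat.of L)) :=
    MorphismProperty.of_isPullback (P := @GeometricallyConnected) hW inferInstance
  exact VB17.isIntegral_of_smooth (k := L) (X := W)

/-- On a smooth proper geometrically connected curve, degree `≥ 2g + 1` gives very ample without `H¹`. -/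
theorem veryAmplePn_and_h1_of_deg (hdim : topologicalKrullDim X = 1) {L : X.Modules} (hL : PicF.IsInvertible L)
    (hdeg : 2 * (Curv2.genus k X : ℤ) + 1 ≤ Curv2.deg k X L 1) :
    RelAmple.IsRelVeryAmplePn (X ↘ Spec (CommRingCat.of k)) L ∧ Subsingleton (Coh.HH X L 1) := by
  haveI := geometricallyIntegral_of_smooth_connected (k := k) (X := X)
  haveI : IsIntegral X := VB17.isIntegral_of_smooth (k := k) (X := X)
  haveI := AbRigid.geometricallyReduced_of_smooth (X ↘ Spec (CommRingCat.of k))
  have h0 := S1536.result k X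
  have hX : CurveCoh17.CurveLike k X := VB17.curveLike (k := k) hdim
  haveI := hX.noetherian
  refine ⟨?_, hX.h1_subsingleton_of_deg (CurveCoh17.rkOne_of_invertible hX.dim hL) h0 (by linarith)⟩
  obtain ⟨n, r, hr, hrq, ⟨τ⟩⟩ := S1611.result k X hdim h0 L hL hdeg
  refine isRelVeryAmplePn_of_vaat (X ↘ Spec (CommRingCat.of k)) hL
    (fun l : ULift.{u} (Fin (n + 1)) => coordSec r τ l.down) fun x => ?_
  refine vaat_relabel (W := (X ↘ Spec (CommRingCat.of k)) ⁻¹ᵁ ⊤) (coordSec r τ) ULift.down ULift.down_surjective ?_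
  refine (vaat_coordSec r τ hL (ρ := Coh.toGlobal (X ↘ Spec (CommRingCat.of k))) (fun c => by rw [hrq]; rfl) x).mono
    fun l hl => ⟨l, le_rfl, hl, fun c => ?_, fun i => ?_⟩
  · rw [M1.ores_ores]
    exact base_mem_ratSub (ρ := ((X ↘ Spec (CommRingCat.of k)).app ⊤).hom)
      (W := (X ↘ Spec (CommRingCat.of k)) ⁻¹ᵁ ⊤) (σ := coordSec r τ) (e := l)
      ((Scheme.ΓSpecIso (CommRingCat.of k)).inv c)
  · rw [M1.ores_id]
    exact cf_mem_ratSub i

omit [IsProper (X ↘ Spec (CommRingCat.of k))] in
/-- The degree of the canonical module over any field. -/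
theorem deg_omega_of_smooth_connected [IsProper (X ↘ Spec (CommRingCat.of k))] (hdim : topologicalKrullDim X = 1) :
    PicF.IsInvertible (Omega.sheaf (X ↘ Spec (CommRingCat.of k))) ∧
    Curv2.deg k X (Omega.sheaf (X ↘ Spec (CommRingCat.of k))) 1 = 2 * (Curv2.genus k X : ℤ) - 2 := by
  haveI : IsIntegral X := VB17.isIntegral_of_smooth (k := k) (X := X)
  haveI := AbRigid.geometricallyReduced_of_smooth (X ↘ Spec (CommRingCat.of k))
  obtain ⟨-, -, hΩ, hdeg, -⟩ := CurveOm17.exists_isDualizing_omega' hdim (S1536.result k X)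
    (Omega12.isUniversal_dOmega (f := X ↘ Spec (CommRingCat.of k)))
  exact ⟨hΩ, hdeg⟩

end Field

/-- Differentials commute with base change. -/
theorem nonempty_omega_pullback {X S X' S' : Scheme.{u}} {f : X ⟶ S} {g : S' ⟶ S} {g' : X' ⟶ X} {f' : X' ⟶ S'}
    [QuasiSeparated f] [QuasiSeparated f'] (sq : IsPullback g' f' f g) :
    Nonempty ((Scheme.Modules.pullback g').obj (Omega.sheaf f) ≅ Omega.sheaf f') := by
  obtain ⟨c, hc, -⟩ := Omega12.existsUnique_diffCompat (f' := f') (h := g') sq.w.symm
    (Omega12.isUniversal_dOmega (f := f)) (OmegaSh.dOmega f')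
  haveI := Omega12.isIso_diffCompat_of_isPullback sq (Omega12.isUniversal_dOmega (f := f))
    (Omega12.isUniversal_dOmega (f := f')) c hc
  exact ⟨asIso c⟩

/-- A finite locally free module that is invertible on every fibre is invertible. -/
theorem isInvertible_of_fibres {X S : Scheme.{u}} (f : X ⟶ S) {M : X.Modules} (hM : FlatMod.IsFinLocFree M)
    (h : ∀ s, PicF.IsInvertible ((Scheme.Modules.pullback (f.fiberι s)).obj M)) : PicF.IsInvertible M := by
  rw [M2.isInvertible_iff_isFinLocFreeOfRank_one]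
  intro x
  obtain ⟨U, n, hxU, ⟨i⟩⟩ := hM x
  suffices hn : n = 1 by subst hn; exact ⟨U, hxU, ⟨i⟩⟩
  let ι := f.fiberι (f x)
  obtain ⟨z, hz⟩ : x ∈ Set.range ι := by
    rw [Scheme.Hom.range_fiberι]; rfl
  obtain ⟨D, hzD, ⟨e⟩⟩ := (M2.isInvertible_iff_isFinLocFreeOfRank_one _).1 (h (f x)) z
  let B : (f.fiber (f x)).Opens := D ⊓ ι ⁻¹ᵁ U
  haveI : Nonempty (B : Scheme.{u}) := ⟨⟨z, hzD, (hz.symm ▸ hxU : ι z ∈ U)⟩⟩
  let a : (B : Scheme.{u}) ⟶ U := IsOpenImmersion.lift U.ι (B.ι ≫ ι) (by
    rw [Scheme.Opens.range_ι]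
    rintro _ ⟨b, rfl⟩
    exact b.2.2)
  have ha : a ≫ U.ι = B.ι ≫ ι := IsOpenImmersion.lift_fac _ _ _
  let b : (B : Scheme.{u}) ⟶ D := (f.fiber (f x)).homOfLE inf_le_left
  have hb : b ≫ D.ι = B.ι := Scheme.homOfLE_ι _ _
  exact ModLimH13.rank_unique
    ((M2.freeModPullbackIso a n).symm ≪≫ (Scheme.Modules.pullback a).mapIso
        (i.symm ≪≫ (Scheme.Modules.restrictFunctorIsoPullback U.ι).app M) ≪≫
      (Scheme.Modules.pullbackComp a U.ι).app M ≪≫
      eqToIso (congrArg (fun g => (Scheme.Modules.pullback g).obj M) (ha.trans (hb ▸ rfl : B.ι ≫ ι = (b ≫ D.ι) ≫ ι))) ≪≫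
      ((Scheme.Modules.pullbackComp (b ≫ D.ι) ι).app M).symm ≪≫
      ((Scheme.Modules.pullbackComp b D.ι).app _).symm ≪≫
      (Scheme.Modules.pullback b).mapIso (((Scheme.Modules.restrictFunctorIsoPullback D.ι).app _).symm ≪≫ e) ≪≫
      M2.freeModPullbackIso b 1)

/-- For a smooth proper family of geometrically connected curves the differentials form an invertible module. -/
theorem isInvertible_omega {X S : Scheme.{u}} (f : X ⟶ S) [IsProper f] [Smooth f] [GeometricallyConnected f]
    (hdim : ∀ s : S, topologicalKrullDim ↥(f.fiber s) = 1) : PicF.IsInvertible (Omega.sheaf f) := by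
  refine isInvertible_of_fibres f
    (Omega12.isFinLocFree_receptacle_of_smooth _ (Omega12.isUniversal_dOmega (f := f))) fun s => ?_
  letI : (f.fiber s).Over (Spec (S.residueField s)) := ⟨f.fiberToSpecResidueField s⟩
  have sq : IsPullback (f.fiberι s) (f.fiberToSpecResidueField s) f (S.fromSpecResidueField s) :=
    IsPullback.of_hasPullback _ _
  haveI : IsProper ((f.fiber s) ↘ Spec (CommRingCat.of (S.residueField s))) :=
    MorphismProperty.of_isPullback (P := @IsProper) sq inferInstance
  haveI : Smooth ((f.fiber s) ↘ Spec (CommRingCat.of (S.residueField s))) :=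
    MorphismProperty.of_isPullback (P := @Smooth) sq inferInstance
  haveI : GeometricallyConnected ((f.fiber s) ↘ Spec (CommRingCat.of (S.residueField s))) :=
    MorphismProperty.of_isPullback (P := @GeometricallyConnected) sq inferInstance
  haveI : IsProper (f.fiberToSpecResidueField s) := MorphismProperty.of_isPullback (P := @IsProper) sq inferInstance
  obtain ⟨e⟩ := nonempty_omega_pullback sq
  exact Twist.isInvertible_of_iso e.symm (deg_omega_of_smooth_connected (k := S.residueField s) (hdim s)).1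

/-- Fibrewise degree `≥ 2g + 1` gives relative very ampleness for smooth families of curves. -/
theorem isRelVeryAmple_of_deg {X S : Scheme.{u}} (f : X ⟶ S) [IsProper f] [Smooth f] [GeometricallyConnected f]
    (hdim : ∀ s : S, topologicalKrullDim ↥(f.fiber s) = 1) {L : X.Modules} (hL : PicF.IsInvertible L)
    (hdeg : ∀ s : S, letI : (f.fiber s).Over (Spec (S.residueField s)) := ⟨f.fiberToSpecResidueField s⟩
      2 * (Curv2.genus (S.residueField s) (f.fiber s) : ℤ) + 1 ≤
        Curv2.deg (S.residueField s) (f.fiber s) ((Scheme.Modules.pullback (f.fiberι s)).obj L) 1) :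
    RelProj.IsRelVeryAmple f L := by
  have key : ∀ s : S, ∃ U : S.Opens, IsAffineOpen U ∧ s ∈ U ∧
      RelProj.IsRelVeryAmple (f ∣_ U) (L.restrict (f ⁻¹ᵁ U).ι) := fun s => by
    letI : (f.fiber s).Over (Spec (S.residueField s)) := ⟨f.fiberToSpecResidueField s⟩
    have sq : IsPullback (f.fiberι s) (f.fiberToSpecResidueField s) f (S.fromSpecResidueField s) :=
      IsPullback.of_hasPullback _ _
    haveI : IsProper ((f.fiber s) ↘ Spec (CommRingCat.of (S.residueField s))) :=
      MorphismProperty.of_isPullback (P := @IsProper) sq inferInstance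
    haveI : Smooth ((f.fiber s) ↘ Spec (CommRingCat.of (S.residueField s))) :=
      MorphismProperty.of_isPullback (P := @Smooth) sq inferInstance
    haveI : GeometricallyConnected ((f.fiber s) ↘ Spec (CommRingCat.of (S.residueField s))) :=
      MorphismProperty.of_isPullback (P := @GeometricallyConnected) sq inferInstance
    obtain ⟨hva, h1⟩ := veryAmplePn_and_h1_of_deg (k := S.residueField s) (hdim s)
      (PicLoc.isInvertible_pullback (f.fiberι s) hL) (hdeg s)
    exact exists_nhd_isRelVeryAmple' f hL s hva h1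
  choose U hU hsU hva using key
  exact VA11.isRelVeryAmple_of_cover hL U (eq_top_iff.2 fun s _ => Opens.mem_iSup.2 ⟨s, hsU s⟩) hva

end Groth.Agent.AmpleFib
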