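import Groth.Agent.Lib.AmpleFib.CurvePush
import Groth.Prelude.Def_ega3

/-!
Fibrewise degree `> 2g - 2` kills the fibrewise `H¹` on a smooth family of curves.
-/

set_option autoImplicit false
set_option linter.style.haveILetI false
set_option backward.isDefEq.respectTransparency false

universe u

open CategoryTheory CategoryTheory.Limits AlgebraicGeometry TopologicalSpace Opposite

noncomputable section

namespace Groth.Agent.AmpleFib

variable {C S : Scheme.{u}} (f : C ⟶ S) [IsProper f] [Smooth f] [GeometricallyConnected f]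

theorem subsingleton_fiberH_one_of_deg (hdim : ∀ s : S, topologicalKrullDim ↥(f.fiber s) = 1)
    {L : C.Modules} (hL : PicF.IsInvertible L) (s : S)
    (hdeg : ((CohIII.fiberRank f L 0 s : ℤ) - CohIII.fiberRank f L 1 s) -
        (1 - (CohIII.fiberRank f (Coh.structureModule C) 1 s : ℤ)) >
      2 * (CohIII.fiberRank f (Coh.structureModule C) 1 s : ℤ) - 2) :
    Subsingleton (CohIII.fiberH f L s 1) := by
  letI : (f.fiber s).Over (Spec (S.residueField s)) := ⟨f.fiberToSpecResidueField s⟩
  have sq : IsPullback (f.fiberι s) (f.fiberToSpecResidueField s) f (S.fromSpecResidueField s) :=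
    IsPullback.of_hasPullback _ _
  haveI : IsProper (f.fiberToSpecResidueField s) := MorphismProperty.of_isPullback (P := @IsProper) sq inferInstance
  haveI : IsProper ((f.fiber s) ↘ Spec (CommRingCat.of (S.residueField s))) := ‹IsProper (f.fiberToSpecResidueField s)›
  haveI : Smooth ((f.fiber s) ↘ Spec (CommRingCat.of (S.residueField s))) :=
    MorphismProperty.of_isPullback (P := @Smooth) sq inferInstance
  haveI : GeometricallyConnected ((f.fiber s) ↘ Spec (CommRingCat.of (S.residueField s))) :=
    MorphismProperty.of_isPullback (P := @GeometricallyConnected) sq inferInstance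
  haveI : IsIntegral (f.fiber s) := VB17.isIntegral_of_smooth (k := S.residueField s) (X := f.fiber s)
  haveI := AbRigid.geometricallyReduced_of_smooth ((f.fiber s) ↘ Spec (CommRingCat.of (S.residueField s)))
  have h0 := S1536.result (S.residueField s) (f.fiber s)
  have hX := VB17.curveLike (k := S.residueField s) (X := f.fiber s) (hdim s)
  haveI := hX.noetherian
  have hP : PicF.IsInvertible ((Scheme.Modules.pullback (f.fiberι s)).obj L) := PicLoc.isInvertible_pullback _ hL
  have hg : CohIII.fiberRank f (Coh.structureModule C) 1 s = Curv2.genus (S.residueField s) (f.fiber s) :=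
    (CurveCoh17.hequiv (S.residueField s) (Twist.pullbackUnitIso (f.fiberι s)) 1).finrank_eq
  have hrr := hX.rr (CurveCoh17.isCoh_of_ofRank ((M2.isInvertible_iff_isFinLocFreeOfRank_one _).1 hP))
  rw [h0] at hrr
  have hdeg' : ((Module.finrank (S.residueField s) (Coh.HH (f.fiber s) ((Scheme.Modules.pullback (f.fiberι s)).obj L) 0) : ℤ) -
      Module.finrank (S.residueField s) (Coh.HH (f.fiber s) ((Scheme.Modules.pullback (f.fiberι s)).obj L) 1)) -
      (1 - (Curv2.genus (S.residueField s) (f.fiber s) : ℤ)) > 2 * (Curv2.genus (S.residueField s) (f.fiber s) : ℤ) - 2 := by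
    rw [← hg]
    exact hdeg
  exact hX.h1_subsingleton_of_deg (CurveCoh17.rkOne_of_invertible hX.dim hP) h0 (by simp at hrr ⊢; linarith)

theorem push_of_deg [HasInjectiveResolutions C.Modules] (hdim : ∀ s : S, topologicalKrullDim ↥(f.fiber s) = 1)
    {L : C.Modules} (hL : PicF.IsInvertible L) (h1 : ∀ s : S, Subsingleton (CohIII.fiberH f L s 1)) :
    IsZero ((Coh.Rpush f 1).obj L) ∧ FlatMod.IsFinLocFree ((Coh.push f).obj L) := by
  haveI : Coh.IsQCoh L := Twist.isQCoh_of_isInvertible hL
  have hfp := LimShf14.isFP_of_isInvertible hL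
  have hfl : FlatMod.IsFlatOver f L := DPerf.isFlatOver_of_isFlat f (M := L) fun x =>
    KFlat.Sch.isFlat_of_isFinLocFree (M2.isFinLocFree_of_isInvertible hL) x
  refine ⟨?_, CBC10.isFinLocFree_push fun s => by
      obtain ⟨V, M, hV, hM, -⟩ := CBC10.exists_nhd_H1 hfp hfl s (h1 s)
      exact ⟨V, M, hV, hM⟩⟩
  have hz : IsZero (((Coh.Rpush f 1).obj L).restrict (⊤ : S.Opens).ι) :=
    CBC10.isZero_restrict_of_models 1 ⊤ fun s _ => by
      obtain ⟨V, -, M₀, hsV⟩ := CBC10.exists_model_at f L hfp hfl (U := ⊤) (s := s) trivial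
      obtain ⟨V', -, M, hs', -, -, hz', -⟩ := M₀.exists_zero_nhd inferInstance hsV 1 (h1 s)
      exact ⟨V', M, hs', le_top, hz'⟩
  exact DPerf.isZero_of_cover (fun _ : Unit => (⊤ : S.Opens)) (fun x => ⟨(), trivial⟩) fun _ => hz

end Groth.Agent.AmpleFib
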