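import Groth.Agent.Lib.AmpleFib.PnVA
import Groth.Agent.Lib.AmpleImm18.Core
import Groth.Agent.S2803

/-!
# A proper morphism that is a closed immersion on a fibre is one near it
-/

universe u

open CategoryTheory Limits AlgebraicGeometry TopologicalSpace Opposite

set_option linter.style.haveILetI false
set_option backward.isDefEq.respectTransparency false

namespace Groth.Agent.AmpleFib

open Groth.Agent.VA11
open Groth.Agent.M1 (ores mres)

variable {X P S Z : Scheme.{u}}

/-- Sections separating points define an immersion when their ratios lie in the coordinate rings. -/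
theorem isImmersion_of_vaat {T : Type u} [CommRing T] {κ : Type u} {M : Z.Modules} {W : Z.Opens}
    {ρ : T →+* Γ(Z, W)} (σ : κ → Γ(M, W)) (hva : ∀ z, VAat ρ σ z) (r : Z ⟶ P) (D : κ → P.Opens)
    (hD : ∀ e, IsAffineOpen (D e)) (hpre : ∀ e, r ⁻¹ᵁ D e = gl (σ e))
    (hρ : ∀ e c, ores (gl_le (σ e)) (ρ c) ∈ (r.appLE (D e) (gl (σ e)) (hpre e).ge).hom.range)
    (hcf : ∀ e k, cf (σ e) (σ k) ∈ (r.appLE (D e) (gl (σ e)) (hpre e).ge).hom.range) :
    IsImmersion r := by
  have hrat : ∀ e, ∀ a ∈ ratSub ρ σ e, a ∈ (r.appLE (D e) (gl (σ e)) (hpre e).ge).hom.range := fun e a ha =>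
    map_ratSub_le (RingHom.id _) _ (hρ e) (hcf e) ha
  choose e b hb hzb hA hfr using hva
  have hβ : ∀ z, ∃ β : Γ(P, D (e z)), r.appLE (D (e z)) (gl (σ (e z))) (hpre _).ge β = b z :=
    fun z => hrat _ _ (hb z)
  choose β hβ using hβ
  have hW : ∀ z, r ⁻¹ᵁ P.basicOpen (β z) = Z.basicOpen (b z) := fun z => by
    rw [← hβ z]
    show _ = Z.basicOpen (Z.presheaf.map (homOfLE (hpre _).ge).op (r.app _ (β z)))
    rw [Scheme.basicOpen_res, ← Scheme.preimage_basicOpen, right_eq_inf]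
    exact (r.preimage_mono (P.basicOpen_le _)).trans (hpre _).le
  refine AmpleImm18.isImmersion_of_charts r (fun z : Z => P.basicOpen (β z))
    (fun z => (hD _).basicOpen _) (fun z => Z.basicOpen (b z)) hA
    (eq_top_iff.2 fun z _ => Opens.mem_iSup.2 ⟨z, hzb z⟩) hW fun z => eq_top_iff.2 fun t _ => ?_
  obtain ⟨k, a, ha, hk⟩ : t ∈ fracs (ores (Z.basicOpen_le (b z))).hom (ratSub ρ σ (e z)) (b z) (hb z) :=
    hfr z ▸ Subring.mem_top t
  obtain ⟨α, rfl⟩ := hrat _ _ ha
  let θ := r.appLE (P.basicOpen (β z)) (Z.basicOpen (b z)) (hW z).ge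
  let η : Γ(P, D (e z)) ⟶ Γ(P, P.basicOpen (β z)) := ores (P.basicOpen_le (β z))
  have hnat : ∀ d, θ (η d) = ores (Z.basicOpen_le (b z)) (r.appLE (D (e z)) (gl (σ (e z))) (hpre _).ge d) :=
    fun d => by
      show r.appLE _ _ _ (P.presheaf.map (homOfLE (P.basicOpen_le (β z))).op d) =
        Z.presheaf.map (homOfLE (Z.basicOpen_le (b z))).op (r.appLE (D (e z)) (gl (σ (e z))) _ d)
      rw [← CommRingCat.comp_apply, ← CommRingCat.comp_apply, Scheme.Hom.map_appLE, Scheme.Hom.appLE_map]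
  have hu : IsUnit (η (β z)) := P.toRingedSpace.isUnit_res_basicOpen (β z)
  refine ⟨η α * ↑(hu.pow k).unit⁻¹, ?_⟩
  show θ (η α * _) = t
  have h1 : θ (η α) = t * θ (η (β z)) ^ k := by
    rw [hnat, hnat, hβ]
    exact hk.symm
  rw [map_mul, h1, mul_assoc, ← map_pow, ← map_mul]
  conv_lhs => rw [IsUnit.mul_val_inv]
  rw [map_one, mul_one]

/-- A proper morphism over a proper scheme that is a closed immersion on the fibre over `y` is an immersion over a
neighbourhood of `y`. -/
theorem exists_nhd_isImmersion {T : Scheme.{u}} (r : X ⟶ P) (π : P ⟶ S) [IsProper π] [IsProper (r ≫ π)]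
    (φ : T ⟶ S) [IsPreimmersion φ] (t : T) (ι : Z ⟶ X) (ζ : Z ⟶ T) (sq : IsPullback ι ζ (r ≫ π) φ)
    (hcl : IsClosedImmersion (pullback.lift (f := π) (g := φ) (ι ≫ r) ζ (by rw [Category.assoc, sq.w]))) :
    ∃ U : S.Opens, φ t ∈ U ∧ ∀ {X' : Scheme.{u}} (j : X' ⟶ X) [IsImmersion j],
      (∀ x, π (r (j x)) ∈ U) → IsImmersion (j ≫ r) := by
  haveI : LocallyOfFiniteType r := locallyOfFiniteType_of_comp r π
  haveI : UniversallyClosed r := UniversallyClosed.of_comp_of_isSeparated r π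
  let rT := pullback.lift (f := π) (g := φ) (ι ≫ r) ζ (by rw [Category.assoc, sq.w])
  haveI : IsClosedImmersion rT := hcl
  have sq' : IsPullback ι rT r (pullback.fst π φ) := by
    refine IsPullback.of_bot ?_ (pullback.lift_fst _ _ _).symm (IsPullback.of_hasPullback π φ)
    rwa [pullback.lift_snd]
  have key : ∀ z : P, π z = φ t → ∃ U : P.Opens, z ∈ U ∧ IsClosedImmersion (r ∣_ U) := fun z hz => by
    refine (S2803.result r z).2 ⟨?_, ⊤, trivial, inferInstance⟩
    obtain ⟨z', rfl, -⟩ := Scheme.Pullback.exists_preimage_pullback z t hz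
    let p := pullback.fst π φ
    have hbij : Function.Bijective (p.residueFieldMap z') := by
      refine ⟨(p.residueFieldMap z').hom.injective, fun c => ?_⟩
      obtain ⟨d, rfl⟩ := Scheme.residue_surjective _ z' c
      obtain ⟨d', rfl⟩ := p.stalkMap_surjective z' d
      exact ⟨P.residue _ d', by rw [← CommRingCat.comp_apply, Scheme.residue_residueFieldMap]; rfl⟩
    haveI : IsIso (p.residueFieldMap z') := (ConcreteCategory.isIso_iff_bijective _).2 hbij
    let a : Spec (P.residueField (p z')) ⟶ pullback π φ :=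
      inv (Spec.map (p.residueFieldMap z')) ≫ (pullback π φ).fromSpecResidueField z'
    have ha : a ≫ p = P.fromSpecResidueField (p z') := by
      rw [Category.assoc, ← Scheme.Hom.SpecMap_residueFieldMap_fromSpecResidueField, IsIso.inv_hom_id_assoc]
    have hfib : IsPullback (r.fiberι (p z')) (r.fiberToSpecResidueField (p z')) r (a ≫ p) := by
      rw [ha]; exact IsPullback.of_hasPullback _ _
    let b : r.fiber (p z') ⟶ Z := sq'.lift (r.fiberι (p z')) (r.fiberToSpecResidueField (p z') ≫ a)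
      (by rw [Category.assoc]; exact hfib.w)
    have hleft : IsPullback b (r.fiberToSpecResidueField (p z')) rT a :=
      IsPullback.of_right (by rw [sq'.lift_fst]; exact hfib) (sq'.lift_snd _ _ _) sq'
    haveI : IsClosedImmersion (r.fiberToSpecResidueField (p z')) :=
      MorphismProperty.of_isPullback (P := @IsClosedImmersion) hleft hcl
    rw [or_iff_not_imp_left, not_isEmpty_iff]
    intro hne
    haveI : Surjective (r.fiberToSpecResidueField (p z')) :=
      ⟨fun w => ⟨hne.some, Subsingleton.elim _ _⟩⟩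
    exact isIso_of_isClosedImmersion_of_surjective _
  let Ω : P.Opens := ⨆ V : {V : P.Opens // IsClosedImmersion (r ∣_ V)}, V.1
  haveI hΩ : IsClosedImmersion (r ∣_ Ω) := by
    refine (IsZariskiLocalAtTarget.iff_of_iSup_eq_top (P := @IsClosedImmersion)
      (fun V : {V : P.Opens // IsClosedImmersion (r ∣_ V)} => Ω.ι ⁻¹ᵁ V.1) ?_).2 fun V => ?_
    · rw [← Scheme.Hom.preimage_iSup]
      exact Scheme.Opens.ι_preimage_self Ω
    · refine (MorphismProperty.arrow_mk_iso_iff @IsClosedImmersion (morphismRestrictRestrict r Ω _)).2 ?_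
      rw [Scheme.Hom.image_preimage_eq_opensRange_inf, Scheme.Opens.opensRange_ι,
        inf_eq_right.2 (le_iSup (fun V : {V : P.Opens // IsClosedImmersion (r ∣_ V)} => V.1) V)]
      exact V.2
  let C : Set S := π '' (Ω : Set P)ᶜ
  have hC : IsClosed C := π.isClosedMap _ Ω.isOpen.isClosed_compl
  refine ⟨⟨Cᶜ, hC.isOpen_compl⟩, ?_, fun {X'} j hj hjU => ?_⟩
  · rintro ⟨z, hz, hzt⟩
    obtain ⟨U, hzU, hU⟩ := key z hzt
    exact hz (le_iSup (fun V : {V : P.Opens // IsClosedImmersion (r ∣_ V)} => V.1) ⟨U, hU⟩ hzU)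
  · have hrange : Set.range j ⊆ Set.range (r ⁻¹ᵁ Ω).ι := by
      rintro _ ⟨x, rfl⟩
      rw [Scheme.Opens.range_ι]
      by_contra h
      exact hjU x ⟨_, h, rfl⟩
    have hj' : IsOpenImmersion.lift (r ⁻¹ᵁ Ω).ι j hrange ≫ (r ⁻¹ᵁ Ω).ι = j := IsOpenImmersion.lift_fac _ _ _
    haveI : IsImmersion (IsOpenImmersion.lift (r ⁻¹ᵁ Ω).ι j hrange ≫ (r ⁻¹ᵁ Ω).ι) := hj'.symm ▸ hj
    haveI : IsImmersion (IsOpenImmersion.lift (r ⁻¹ᵁ Ω).ι j hrange) := IsImmersion.of_comp _ (r ⁻¹ᵁ Ω).ι
    rw [← hj', Category.assoc, ← morphismRestrict_ι]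
    infer_instance

end Groth.Agent.AmpleFib
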