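import Groth.Agent.Lib.AmpleFib.Lift
import Groth.Agent.Lib.AmpleFib.Emb

/-!
# Very ampleness spreads from a fibre with vanishing first cohomology
-/

universe u

open CategoryTheory Limits AlgebraicGeometry TopologicalSpace Opposite

set_option linter.style.haveILetI false
set_option backward.isDefEq.respectTransparency false

namespace Groth.Agent.AmpleFib

open Groth.Agent.VA11
open Groth.Agent.M1 (ores mres)
open Groth.Agent.ModLimH13 (res')

variable {X S X' : Scheme.{u}}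

/-- Generating locus of a pulled back section. -/
theorem gl_res' (g : X' ⟶ X) {L : X.Modules} (hL : PicF.IsInvertible L) {W : X.Opens} {W' : X'.Opens}
    (e : W' ≤ g ⁻¹ᵁ W) (s : Γ(L, W)) : gl (res' g L e s) = g ⁻¹ᵁ gl s ⊓ W' := by
  rw [res', gl_mres, gl_pullSec g hL]

/-- Ratios of pulled back sections. -/
theorem cf_res' (g : X' ⟶ X) {L : X.Modules} {W : X.Opens} {W' : X'.Opens}
    (e : W' ≤ g ⁻¹ᵁ W) (s t : Γ(L, W)) (h : gl (res' g L e s) ≤ g ⁻¹ᵁ gl s) :
    g.appLE (gl s) (gl (res' g L e s)) h (cf s t) = cf (res' g L e s) (res' g L e t) := by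
  refine ores_eq_cf ?_
  rw [ModLimH13.mres_res', ModLimH13.mres_res']
  have hh := congrArg (res' g L h) (cf_smul s t)
  rwa [ModLimH13.res'_smul, ModLimH13.res'_mres, ModLimH13.res'_mres] at hh

/-- Rescaling the sections by units of the base keeps the separation property. -/
theorem vaat_smul {R : Type u} [CommRing R] {L : X.Modules} {W : X.Opens} {κ : Type u} {ρ : R →+* Γ(X, W)}
    {σ : κ → Γ(L, W)} (hL : PicF.IsInvertible L) (c : κ → Rˣ) {x : X} (h : VAat ρ σ x) :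
    VAat ρ (fun k => ρ (c k) • σ k) x := by
  refine h.mono fun e he => ?_
  have hgl : gl (ρ (c e) • σ e) = gl (σ e) := by
    apply le_antisymm <;> refine le_gl (gl_le _) ?_
    · have h1 := isGen_gl (ρ (c e) • σ e)
      rw [M1.mres_smul] at h1
      have h2 := isGen_smul_unit h1 (((Units.isUnit (c e)⁻¹).map ρ).map (M1.ores (gl_le (ρ (c e) • σ e))).hom)
      rw [smul_smul, ← map_mul, ← map_mul, Units.inv_mul, map_one, map_one, one_smul] at h2
      exact h2
    · rw [M1.mres_smul]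
      exact isGen_smul_unit (isGen_gl (σ e)) (((Units.isUnit (c e)).map ρ).map (M1.ores (gl_le (σ e))).hom)
  refine ⟨e, hgl.le, hgl.ge he, fun r => ?_, fun k => ?_⟩
  · rw [M1.ores_ores]
    exact base_mem_ratSub (σ := fun k => ρ (c k) • σ k) (e := e) r
  · have h0 := mul_mem (base_mem_ratSub (ρ := ρ) (σ := fun k => ρ (c k) • σ k) (e := e) ((c e : R) * ↑(c k)⁻¹))
      (cf_mem_ratSub (ρ := ρ) (σ := fun k => ρ (c k) • σ k) (e := e) k)
    convert h0 using 1
    refine ores_cf_eq hgl.le ?_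
    have h1 := cf_smul (ρ (c e) • σ e) (ρ (c k) • σ k)
    rw [M1.mres_smul, M1.mres_smul] at h1
    have h2 := congrArg ((M1.ores (gl_le (ρ (c e) • σ e))).hom (ρ ↑(c k)⁻¹) • ·) h1
    simp only [smul_smul] at h2
    rw [← map_mul (M1.ores (gl_le (ρ (c e) • σ e))).hom (ρ ↑(c k)⁻¹) (ρ (c k)), ← map_mul ρ, Units.inv_mul,
      map_one, map_one, one_smul] at h2
    refine Eq.trans ?_ h2
    congr 1
    simp only [map_mul]
    ring

set_option maxHeartbeats 1000000 in
/-- A very ample fibre with vanishing first cohomology gives relative very ampleness nearby (finite presentation). -/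
theorem exists_nhd_isRelVeryAmple' (f : X ⟶ S) [IsProper f] [LocallyOfFinitePresentation f] [Flat f]
    {L : X.Modules} (hL : PicF.IsInvertible L) (y : S)
    (hva : RelAmple.IsRelVeryAmplePn (f.fiberToSpecResidueField y) ((Scheme.Modules.pullback (f.fiberι y)).obj L))
    (h1 : Subsingleton (CohIII.fiberH f L y 1)) :
    ∃ U : S.Opens, IsAffineOpen U ∧ y ∈ U ∧ RelProj.IsRelVeryAmple (f ∣_ U) (L.restrict (f ⁻¹ᵁ U).ι) := by
  classical
  let ι := f.fiberι y
  let ζ := f.fiberToSpecResidueField y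
  let φ := S.fromSpecResidueField y
  have sq₀ : IsPullback ι ζ f φ := IsPullback.of_hasPullback f φ
  haveI : IsProper ζ := MorphismProperty.of_isPullback (P := @IsProper) sq₀ inferInstance
  have hLZ : PicF.IsInvertible ((Scheme.Modules.pullback ι).obj L) := PicLoc.isInvertible_pullback ι hL
  obtain ⟨V, hV, eW, hyV, hlift⟩ := exists_lift f hL y h1
  obtain ⟨m, σ, hσ⟩ := exists_vaat_of_pn ζ hLZ hva
  choose b s e hb hs using fun l => hlift (σ l)
  obtain ⟨pt⟩ : Nonempty (Spec (S.residueField y)) := inferInstance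
  have hpt : φ pt = y := by
    have h := Set.mem_range_self (f := φ) pt
    rwa [Scheme.range_fromSpecResidueField] at h
  have hu : ∀ l, IsUnit (φ.appLE V ⊤ eW (b l)) := fun l => by
    have e' : (⊤ : (Spec (S.residueField y)).Opens) ≤ φ ⁻¹ᵁ S.basicOpen (b l) := fun q _ => by
      show φ q ∈ S.basicOpen (b l)
      rw [show q = pt from Subsingleton.elim _ _, hpt]
      exact hb l
    rw [← φ.map_appLE e' (homOfLE (S.basicOpen_le (b l))).op, CommRingCat.comp_apply]
    exact (S.toRingedSpace.isUnit_res_basicOpen (b l)).map _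
  let σ' := fun l => res' ι L (e l) (s l)
  have hσ' : ∀ z, VAat (ζ.app ⊤).hom σ' z := fun z => by
    have h := vaat_smul hLZ (fun l => (hu l).unit) (hσ z)
    convert h using 1
    exact funext fun l => (hs l).symm
  have hcov : ∀ x, f x = y → ∃ l, x ∈ gl (s l) := fun x hx => by
    obtain ⟨z, rfl⟩ : x ∈ Set.range ι := by rw [Scheme.Hom.range_fiberι]; exact hx
    obtain ⟨l, b', -, hz, -⟩ := hσ' z
    exact ⟨l, ((gl_res' ι hL (e l) (s l)).le ((Scheme.basicOpen_le _ b') hz)).1⟩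
  let O : X.Opens := ⨆ l, gl (s l)
  have hC : IsClosed (f '' (O : Set X)ᶜ) := f.isClosedMap _ O.isOpen.isClosed_compl
  have hy' : y ∈ V ⊓ ⟨(f '' (O : Set X)ᶜ)ᶜ, hC.isOpen_compl⟩ := by
    refine ⟨hyV, ?_⟩
    rintro ⟨x, hx, hxy⟩
    exact hx (Opens.mem_iSup.2 (hcov x hxy))
  obtain ⟨D, hD, hyD, hDle⟩ := exists_isAffineOpen_mem_and_subset hy'
  haveI : IsAffine (D : Scheme) := hD
  let X₁ : X.Opens := f ⁻¹ᵁ D
  have hX₁ : X₁ ≤ O := fun x hx => by
    by_contra h
    exact (hDle hx).2 ⟨x, h, rfl⟩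
  have e₁ : (⊤ : (X₁ : Scheme).Opens) ≤ X₁.ι ⁻¹ᵁ (f ⁻¹ᵁ V) := fun x _ => (hDle x.2).1
  let L₁ := (Scheme.Modules.pullback X₁.ι).obj L
  have hL₁ : PicF.IsInvertible L₁ := PicLoc.isInvertible_pullback _ hL
  let w : ULift.{u} (Fin (m + 1)) → ProjUP.Γm L₁ := fun l => res' X₁.ι L e₁ (s l)
  have hgw : ∀ l, gl (W := (⊤ : (X₁ : Scheme).Opens)) (w l) = X₁.ι ⁻¹ᵁ gl (s l) := fun l =>
    (gl_res' X₁.ι hL e₁ (s l)).trans (inf_top_eq _)
  obtain ⟨n, j, Dc, hj, ⟨τ⟩, hDc, hch⟩ := AmpleImm18.exists_map_of_sections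
    ((f ∣_ D) ≫ (D : Scheme).isoSpec.hom) hL₁ (fun l => gl (W := (⊤ : (X₁ : Scheme).Opens)) (w l))
    (eq_top_iff.2 fun x _ => by
      obtain ⟨l, hl⟩ := Opens.mem_iSup.1 (hX₁ x.2)
      exact Opens.mem_iSup.2 ⟨l, (hgw l).ge hl⟩)
    w (fun l x => (mem_gl_iff hL₁ (Opens.mem_top x)).symm)
    (fun l => Finset.univ.image fun k => cf (W := (⊤ : (X₁ : Scheme).Opens)) (w l) (w k))
    (fun l a ha => by
      obtain ⟨k, -, rfl⟩ := Finset.mem_image.1 ha
      exact ⟨w k, (cf_smul (W := (⊤ : (X₁ : Scheme).Opens)) (w l) (w k)).symm⟩)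
  choose hjpre hjS hjc using hch
  let π := CohB1.ProjSpace.toSpec n Γ((D : Scheme), ⊤) ≫ (D : Scheme).isoSpec.inv
  have hjπ : j ≫ π = f ∣_ D := by
    refine ((Category.assoc _ _ _).symm.trans (congrArg (· ≫ (D : Scheme).isoSpec.inv) hj)).trans ?_
    rw [Category.assoc, Iso.hom_inv_id, Category.comp_id]
  haveI : IsProper (f ∣_ D) :=
    MorphismProperty.of_isPullback (P := @IsProper) (isPullback_morphismRestrict f D).flip inferInstance
  haveI : IsProper (j ≫ π) := hjπ ▸ inferInstance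
  let φ' : Spec (S.residueField y) ⟶ (D : Scheme) := IsOpenImmersion.lift D.ι φ (by
    rw [Scheme.range_fromSpecResidueField, Scheme.Opens.range_ι]
    exact Set.singleton_subset_iff.2 hyD)
  have hφ' : φ' ≫ D.ι = φ := IsOpenImmersion.lift_fac _ _ _
  haveI : IsPreimmersion (φ' ≫ D.ι) := hφ'.symm ▸ inferInstance
  haveI : IsPreimmersion φ' := IsPreimmersion.of_comp φ' D.ι
  let ι' : f.fiber y ⟶ (X₁ : Scheme) := IsOpenImmersion.lift X₁.ι ι (by
    rw [Scheme.Hom.range_fiberι, Scheme.Opens.range_ι]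
    intro x hx
    show f x ∈ D
    rw [show f x = y from hx]
    exact hyD)
  have hι' : ι' ≫ X₁.ι = ι := IsOpenImmersion.lift_fac _ _ _
  have sq : IsPullback ι' ζ (j ≫ π) φ' := by
    rw [hjπ]
    refine IsPullback.of_right ?_ ?_ (isPullback_morphismRestrict f D).flip
    · rw [hι', hφ']; exact sq₀
    · rw [← cancel_mono D.ι, Category.assoc, Category.assoc, morphismRestrict_ι, hφ', ← Category.assoc, hι']
      exact sq₀.w
  haveI : IsAffineHom φ' := isAffineHom_of_isAffine φ'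
  haveI : IsAffineHom (pullback.fst π φ') := MorphismProperty.pullback_fst (P := @IsAffineHom) _ _ inferInstance
  let rT := pullback.lift (f := π) (g := φ') (ι' ≫ j) ζ (by rw [Category.assoc, sq.w])
  let p := pullback.fst π φ'
  let q := pullback.snd π φ'
  have hp : rT ≫ p = ι' ≫ j := pullback.lift_fst _ _ _
  have hq : rT ≫ q = ζ := pullback.lift_snd _ _ _
  have hpre : ∀ l, rT ⁻¹ᵁ (p ⁻¹ᵁ Dc l) = gl (σ' l) := fun l => by
    rw [← Scheme.Hom.comp_preimage, hp, Scheme.Hom.comp_preimage, hjpre, hgw, ← Scheme.Hom.comp_preimage, hι']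
    exact (inf_top_eq _).symm.trans (gl_res' ι hL (e l) (s l)).symm
  haveI : IsImmersion rT := by
    refine isImmersion_of_vaat σ' hσ' rT (fun l => p ⁻¹ᵁ Dc l) (fun l => (hDc l).preimage p) hpre
      (fun l c => ⟨q.appLE ⊤ (p ⁻¹ᵁ Dc l) le_top c, ?_⟩) (fun l k => ?_)
    · have hc : ∀ {g : f.fiber y ⟶ Spec (S.residueField y)} (_ : g = ζ) (h : gl (σ' l) ≤ g ⁻¹ᵁ ⊤),
          g.appLE ⊤ (gl (σ' l)) h c = ores (gl_le (σ' l)) (ζ.app ⊤ c) := by
        rintro g rfl h; rfl
      show rT.appLE _ _ _ (q.appLE ⊤ _ _ c) = _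
      rw [← CommRingCat.comp_apply, Scheme.Hom.appLE_comp_appLE]
      exact hc hq _
    · obtain ⟨d, hd⟩ := hjS l (cf (W := (⊤ : (X₁ : Scheme).Opens)) (w l) (w k))
        (Finset.mem_image.2 ⟨k, Finset.mem_univ _, rfl⟩)
      refine ⟨p.appLE (Dc l) (p ⁻¹ᵁ Dc l) le_rfl d, ?_⟩
      have hz : gl (σ' l) ≤ ι ⁻¹ᵁ gl (s l) := ((gl_res' ι hL (e l) (s l)).le).trans inf_le_left
      have hz' : gl (σ' l) ≤ ι' ⁻¹ᵁ gl (W := (⊤ : (X₁ : Scheme).Opens)) (w l) := by
        rw [hgw, ← Scheme.Hom.comp_preimage, hι']; exact hz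
      have hc : ∀ {U : CohB1.ProjSpace n Γ((D : Scheme), ⊤) |>.Opens} {g g' : f.fiber y ⟶ _} (_ : g = g') (h h') (d),
          g.appLE U (gl (σ' l)) h d = g'.appLE U (gl (σ' l)) h' d := by
        rintro U g _ rfl h h' d; rfl
      have hc' : ∀ {g g' : f.fiber y ⟶ X} (_ : g = g') (h h') (d),
          g.appLE (gl (s l)) (gl (σ' l)) h d = g'.appLE (gl (s l)) (gl (σ' l)) h' d := by
        rintro g _ rfl h h' d; rfl
      show rT.appLE _ _ _ (p.appLE _ _ _ d) = cf (σ' l) (res' ι L (e k) (s k))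
      rw [← CommRingCat.comp_apply, Scheme.Hom.appLE_comp_appLE]
      refine (hc hp _ (hz'.trans (by rw [Scheme.Hom.comp_preimage, hjpre])) d).trans ?_
      rw [← Scheme.Hom.appLE_comp_appLE ι' j (Dc l) _ (gl (σ' l)) (hjpre l).ge hz']
      show ι'.appLE _ _ _ (j.appLE _ _ _ d) = _
      refine (congrArg _ hd).trans ?_
      refine (congrArg _ (cf_res' X₁.ι e₁ (s l) (s k) (hgw l).le).symm).trans ?_
      rw [← CommRingCat.comp_apply, Scheme.Hom.appLE_comp_appLE]
      exact (hc' hι' _ hz _).trans (cf_res' ι (e l) (s l) (s k) hz)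
  have hcl : IsClosedImmersion rT := by
    haveI : IsProper (rT ≫ q) := hq ▸ inferInstance
    haveI : IsSeparated q := inferInstance
    haveI : UniversallyClosed rT := UniversallyClosed.of_comp_of_isSeparated rT q
    exact IsClosedImmersion.of_isPreimmersion rT rT.isClosedMap.isClosed_range
  obtain ⟨U₀, hptU, hU₀⟩ := exists_nhd_isImmersion j π φ' pt ι' ζ sq hcl
  obtain ⟨U, hU, hyU, hUle⟩ := exists_isAffineOpen_mem_and_subset (x := y) (U := D.ι ''ᵁ U₀)
    ⟨φ' pt, hptU, (Scheme.Hom.comp_apply φ' D.ι pt).symm.trans ((congrArg (fun g => g pt) hφ').trans hpt)⟩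
  haveI : IsAffine (U : Scheme) := hU
  have hUD : U ≤ D := fun x hx => by
    obtain ⟨d, -, rfl⟩ := hUle hx
    exact d.2
  refine ⟨U, hU, hyU, ?_⟩
  let k : (f ⁻¹ᵁ U : X.Opens).toScheme ⟶ (X₁ : Scheme) := X.homOfLE (f.preimage_mono hUD)
  haveI : IsImmersion k := inferInstance
  let r := k ≫ j
  haveI : IsImmersion r := hU₀ k fun x => by
    rw [← Scheme.Hom.comp_apply j π, hjπ]
    obtain ⟨d, hd, hde⟩ := hUle (show f x.1 ∈ U from x.2)
    have : (f ∣_ D) (k x) = d := D.ι.isOpenEmbedding.injective (Eq.trans ?_ hde.symm)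
    · rw [this]; exact hd
    · exact ((Scheme.Hom.comp_apply (f ∣_ D) D.ι (k x)).symm.trans
        (congrArg (fun g => g (k x)) (morphismRestrict_ι f D))).trans (congrArg f
          ((Scheme.Hom.comp_apply k X₁.ι x).symm.trans (congrArg (fun g => g x) (Scheme.homOfLE_ι X _))))
  let τ' : (Scheme.Modules.pullback r).obj (_root_.Twist.twistProjSpace n Γ((D : Scheme), ⊤) 1) ≅
      L.restrict (f ⁻¹ᵁ U).ι :=
    ((Scheme.Modules.pullbackComp k j).app _).symm ≪≫ (Scheme.Modules.pullback k).mapIso τ ≪≫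
      (Scheme.Modules.pullbackComp k X₁.ι).app L ≪≫
      eqToIso (congrArg (fun g => (Scheme.Modules.pullback g).obj L) (Scheme.homOfLE_ι X _)) ≪≫
      ((Scheme.Modules.restrictFunctorIsoPullback _).app L).symm
  have hLU : PicF.IsInvertible (L.restrict (f ⁻¹ᵁ U).ι) := M2.isInvertible_restrict hL _
  let ρ₂ : Γ((D : Scheme), ⊤) →+* Γ((f ⁻¹ᵁ U : X.Opens).toScheme, ⊤) :=
    (r ≫ CohB1.ProjSpace.toSpec n Γ((D : Scheme), ⊤)).appTop.hom.comp
      (Scheme.ΓSpecIso (CommRingCat.of Γ((D : Scheme), ⊤))).inv.hom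
  refine isRelVeryAmple_of_vaat (f ∣_ U) (fun l : ULift.{u} (Fin (n + 1)) => coordSec r τ' l.down) fun x => ?_
  refine vaat_relabel (W := (f ∣_ U) ⁻¹ᵁ ⊤) (coordSec r τ') ULift.down ULift.down_surjective ?_
  refine (vaat_coordSec r τ' hLU (ρ := ρ₂) (fun c => rfl) x).mono fun l hl => ?_
  refine ⟨l, le_rfl, hl, fun c => ?_, fun i => ?_⟩
  · have hr : r ≫ CohB1.ProjSpace.toSpec n Γ((D : Scheme), ⊤) =
        (f ∣_ U) ≫ S.homOfLE hUD ≫ (D : Scheme).isoSpec.hom := by
      refine ((Category.assoc k j _).trans (congrArg (k ≫ ·) hj)).trans ?_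
      rw [← Category.assoc k, ← Category.assoc (f ∣_ U)]
      congr 1
      rw [← cancel_mono D.ι]
      simp [k, X₁]
    have h0 := base_mem_ratSub (ρ := ((f ∣_ U).app ⊤).hom) (W := (f ∣_ U) ⁻¹ᵁ ⊤)
      (σ := coordSec r τ') (e := l) ((S.homOfLE hUD ≫ (D : Scheme).isoSpec.hom).appTop
        ((Scheme.ΓSpecIso (CommRingCat.of Γ((D : Scheme), ⊤))).inv c))
    convert h0 using 1
    rw [M1.ores_ores]
    show ores _ ((r ≫ CohB1.ProjSpace.toSpec n Γ((D : Scheme), ⊤)).appTop _) = _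
    rw [hr]
    rfl
  · rw [M1.ores_id]
    exact cf_mem_ratSub i

/-- A very ample fibre with vanishing first cohomology gives relative very ampleness nearby. -/
theorem exists_nhd_isRelVeryAmple [IsLocallyNoetherian S] (f : X ⟶ S) [IsProper f] [Flat f] {L : X.Modules}
    (hL : PicF.IsInvertible L) (y : S)
    (hva : RelAmple.IsRelVeryAmplePn (f.fiberToSpecResidueField y) ((Scheme.Modules.pullback (f.fiberι y)).obj L))
    (h1 : Subsingleton (CohIII.fiberH f L y 1)) :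
    ∃ U : S.Opens, IsAffineOpen U ∧ y ∈ U ∧ RelProj.IsRelVeryAmple (f ∣_ U) (L.restrict (f ⁻¹ᵁ U).ι) :=
  haveI : LocallyOfFinitePresentation f := LocallyOfFinitePresentation.iff_locallyOfFiniteType.2 inferInstance
  exists_nhd_isRelVeryAmple' f hL y hva h1

end Groth.Agent.AmpleFib
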