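import Groth.Agent.Lib.AmpleFib.VAPn
import Groth.Agent.Lib.Twist.UniversalExist
import Groth.Agent.Lib.ModM1.FT

/-!
# An immersion into projective space over an affine base gives the separation criterion
-/

universe u

open CategoryTheory Limits AlgebraicGeometry TopologicalSpace Opposite

set_option linter.style.haveILetI false
set_option backward.isDefEq.respectTransparency false

namespace Groth.Agent.AmpleFib

open Groth.Agent.VA11
open Groth.Agent.M1 (ores mres)

variable {R : Type u} [CommRing R] {X : Scheme.{u}} {n : ℕ}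

theorem X_mem_one (i : Fin (n + 1)) :
    (MvPolynomial.X i : MvPolynomial (Fin (n + 1)) R) ∈ CohB1.polyGrading n R 1 :=
  MvPolynomial.isHomogeneous_X R i

variable (r : X ⟶ CohB1.ProjSpace n R) {L : X.Modules}
  (τ : (Scheme.Modules.pullback r).obj (_root_.Twist.twistProjSpace n R 1) ≅ L)

/-- The `i`-th coordinate section. -/
noncomputable def coordSec (i : Fin (n + 1)) : Γ(L, ⊤) :=
  τ.hom.app ⊤ (ProjUP.sec (CohB1.polyGrading n R) r (X_mem_one i))

/-- The coordinate sections generate on the preimages of the standard charts. -/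
theorem gl_coordSec (hL : PicF.IsInvertible L) (i : Fin (n + 1)) :
    gl (coordSec r τ i) = r ⁻¹ᵁ Proj.basicOpen (CohB1.polyGrading n R) (MvPolynomial.X i) := by
  let 𝒜 := CohB1.polyGrading n R
  ext y
  rw [SetLike.mem_coe, SetLike.mem_coe, mem_gl_iff hL (Opens.mem_top y), coordSec,
    Amp.gen_map_iso τ (U := ⊤) trivial]
  constructor
  · intro hy
    obtain ⟨l, hl⟩ := Opens.mem_iSup.1 ((ProjSpace.iSup_basicOpen n R).ge (Opens.mem_top (r y)))
    have hl' : y ∈ r ⁻¹ᵁ Proj.basicOpen 𝒜 (MvPolynomial.X l) := hl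
    have h1 := congrArg (Amp.gm _ y hl')
      (ProjUP.sec_eq_ev_smul 𝒜 r (X_mem_one l) (X_mem_one i) _ le_rfl)
    rw [Amp.gm_smul] at h1
    replace h1 := (M1.germ_mres _ _ hl' _).symm.trans h1
    have hy1 := (congrArg Amp.Gen h1).mp hy
    have hy2 := ((ProjUP.isGen_sec 𝒜 r (X_mem_one l)).stalk hl' |> fun hg => Amp.Gen.ne_zero_smul
      (g := Amp.gm _ y hl' _) hg _).1 hy1
    rw [← Scheme.mem_basicOpen, ProjUP.basicOpen_ev 𝒜 (X_mem_one l) r _ le_rfl (X_mem_one i)] at hy2
    exact hy2.2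
  · intro hy
    have h1 := (ProjUP.isGen_sec 𝒜 r (X_mem_one i)).stalk hy
    rw [M1.germ_mres] at h1
    exact h1

/-- The ratios of the coordinate sections are the pulled back ratios of the coordinates. -/
theorem cf_coordSec (hL : PicF.IsInvertible L) (i k : Fin (n + 1)) :
    ProjUP.ev (CohB1.polyGrading n R) (X_mem_one i) r (gl (coordSec r τ i)) (gl_coordSec r τ hL i).le
        (MvPolynomial.X k) = cf (coordSec r τ i) (coordSec r τ k) := by
  have h := congrArg (τ.hom.app _) (ProjUP.sec_eq_ev_smul (CohB1.polyGrading n R) r (X_mem_one i) (X_mem_one k)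
    (gl (coordSec r τ i)) (gl_coordSec r τ hL i).le)
  rw [Scheme.Modules.Hom.app_smul] at h
  have hres : ∀ z : Γ((Scheme.Modules.pullback r).obj (_root_.Twist.twistProjSpace n R 1), ⊤),
      τ.hom.app (gl (coordSec r τ i)) (mres _ (le_top : gl (coordSec r τ i) ≤ ⊤) z) =
        mres L le_top (τ.hom.app ⊤ z) := fun z => M1.app_mres τ.hom le_top z
  have := ores_cf_eq (s := coordSec r τ i) (t := coordSec r τ k) le_rfl
    ((hres _).symm.trans (h.trans (congrArg (_ • ·) (hres _)))).symm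
  rw [M1.ores_id] at this
  exact this.symm

/-- An immersion into projective space satisfies the separation criterion with its coordinate sections. -/
theorem vaat_coordSec [IsImmersion r] (hL : PicF.IsInvertible L) {ρ : R →+* Γ(X, ⊤)}
    (hρ : ∀ c, (r ≫ CohB1.ProjSpace.toSpec n R).appTop ((Scheme.ΓSpecIso (CommRingCat.of R)).inv c) = ρ c)
    (x : X) : VAat ρ (coordSec r τ) x := by
  let 𝒜 := CohB1.polyGrading n R
  let P := CohB1.ProjSpace n R
  obtain ⟨l, hl⟩ := Opens.mem_iSup.1 ((ProjSpace.iSup_basicOpen n R).ge (Opens.mem_top (r x)))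
  let D : P.Opens := Proj.basicOpen 𝒜 (MvPolynomial.X l)
  have hD : IsAffineOpen D := Proj.isAffineOpen_basicOpen 𝒜 _ (X_mem_one l) one_pos
  let O : P.Opens := r.coborderRange
  have hxO : r x ∈ O := subset_coborder ⟨x, rfl⟩
  obtain ⟨β, hβO, hxβ⟩ := hD.exists_basicOpen_le (V := O) ⟨r x, hxO⟩ hl
  let W := P.basicOpen β
  have hW : IsAffineOpen W := hD.basicOpen β
  have hWO : IsAffineOpen (O.ι ⁻¹ᵁ W) :=
    hW.preimage_of_isOpenImmersion O.ι (by rw [Scheme.Opens.opensRange_ι]; exact hβO)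
  let ev := ProjUP.ev 𝒜 (X_mem_one l) r (gl (coordSec r τ l)) (gl_coordSec r τ hL l).le
  have hev : ∀ δ : Γ(P, D), r.appLE D (gl (coordSec r τ l)) (gl_coordSec r τ hL l).le δ ∈
      ratSub ρ (coordSec r τ) l := fun δ => by
    haveI : IsIso (Proj.awayToSection 𝒜 (MvPolynomial.X l : MvPolynomial (Fin (n + 1)) R)) := by
      rw [← Proj.basicOpenIsoAway_hom 𝒜 _ (X_mem_one l) Nat.one_pos]; infer_instance
    obtain ⟨z, rfl⟩ := (ConcreteCategory.bijective_of_isIso
      (Proj.awayToSection 𝒜 (MvPolynomial.X l : MvPolynomial (Fin (n + 1)) R))).2 δ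
    obtain ⟨a, rfl⟩ := EGA2.dehom_surjective 𝒜 (X_mem_one l) z
    show ev a ∈ _
    induction a using MvPolynomial.induction_on with
    | C c =>
      have e : ev (algebraMap R _ c) = _ :=
        ProjUP.ev_algebraMap 𝒜 (X_mem_one l) r (gl (coordSec r τ l)) (gl_coordSec r τ hL l).le c
      rw [← MvPolynomial.algebraMap_eq, e]
      exact (hρ c) ▸ base_mem_ratSub (ρ := ρ) (σ := coordSec r τ) (e := l) c
    | add a b ha hb => rw [map_add]; exact add_mem ha hb
    | mul_X a k ha =>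
      rw [map_mul]
      refine mul_mem ha ?_
      show ProjUP.ev 𝒜 _ r _ _ _ ∈ _
      rw [cf_coordSec r τ hL l k]
      exact cf_mem_ratSub _
  let G := gl (coordSec r τ l)
  let b := r.appLE D G (gl_coordSec r τ hL l).le β
  have hbW : X.basicOpen b = r ⁻¹ᵁ W := by
    show X.basicOpen (X.presheaf.map (homOfLE (gl_coordSec r τ hL l).le).op (r.app D β)) = _
    rw [Scheme.basicOpen_res, ← Scheme.preimage_basicOpen, inf_eq_right]
    exact ((r.preimage_mono (P.basicOpen_le β)).trans (gl_coordSec r τ hL l).ge)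
  have hpre : r ⁻¹ᵁ W = r.liftCoborder ⁻¹ᵁ (O.ι ⁻¹ᵁ W) := by
    rw [← Scheme.Hom.comp_preimage, r.liftCoborder_ι]
  refine ⟨l, b, hev β, hbW.ge hxβ, ?_, eq_top_iff.2 fun c _ => ?_⟩
  · rw [hbW, hpre]
    exact hWO.preimage _
  · have hsurj : Function.Surjective (r.appLE W (X.basicOpen b) hbW.le) := by
      have key : ∀ (g : X ⟶ P) (_ : g = r.liftCoborder ≫ O.ι) (Ub : X.Opens) (h : Ub = g ⁻¹ᵁ W),
          Function.Surjective (g.appLE W Ub h.le) := by
        rintro g rfl Ub rfl
        rw [Scheme.Hom.appLE_eq_app, Scheme.Hom.comp_app]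
        refine Function.Surjective.comp (g := r.liftCoborder.app _) ?_
          (f := O.ι.app W) ?_
        · exact r.liftCoborder.app_surjective _ hWO
        · haveI : IsIso (O.ι.app W) := Scheme.Hom.isIso_app O.ι W
            (by rw [Scheme.Opens.opensRange_ι]; exact hβO)
          exact (ConcreteCategory.bijective_of_isIso (O.ι.app W)).2
      exact key r r.liftCoborder_ι.symm _ hbW
    obtain ⟨γ, hγ⟩ := hsurj c
    letI : Algebra Γ(P, D) Γ(P, W) := (ores (P.basicOpen_le β)).hom.toAlgebra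
    haveI : IsLocalization.Away β Γ(P, W) := hD.isLocalization_basicOpen β
    obtain ⟨k, δ, hδ⟩ := IsLocalization.Away.surj β γ
    refine ⟨k, r.appLE D G (gl_coordSec r τ hL l).le δ, hev δ, ?_⟩
    have hnat : ∀ z, r.appLE W (X.basicOpen b) hbW.le (ores (P.basicOpen_le β) z) =
        ores (X.basicOpen_le b) (r.appLE D G (gl_coordSec r τ hL l).le z) := fun z => by
      show r.appLE W _ hbW.le (P.presheaf.map (homOfLE (P.basicOpen_le β)).op z) =
        X.presheaf.map (homOfLE (X.basicOpen_le b)).op (r.appLE D G _ z)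
      rw [← CommRingCat.comp_apply, ← CommRingCat.comp_apply, Scheme.Hom.map_appLE, Scheme.Hom.appLE_map]
    have hδ' : γ * ores (P.basicOpen_le β) β ^ k = ores (P.basicOpen_le β) δ := hδ
    show c * ores (X.basicOpen_le b) b ^ k = _
    rw [← hγ, ← hnat, ← map_pow, ← map_mul, ← hnat]
    exact congrArg _ hδ'


/-- Relabelling a family along a surjection. -/
theorem vaat_relabel {T : Type u} [CommRing T] {κ : Type*} {κ' : Type*} {W : X.Opens} {ρ : T →+* Γ(X, W)}
    (σ : κ → Γ(L, W)) (g : κ' → κ) (hg : Function.Surjective g) {x : X} (h : VAat ρ σ x) :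
    VAat ρ (fun k => σ (g k)) x := by
  unfold VAat at h ⊢
  obtain ⟨e, b, hb, hx, hA, hfr⟩ := h
  obtain ⟨e', rfl⟩ := hg e
  have heq : ratSub ρ σ (g e') = ratSub ρ (fun k => σ (g k)) e' := by
    unfold ratSub
    congr 2
    exact (Function.Surjective.range_comp hg (fun k => cf (σ (g e')) (σ k))).symm
  revert hb hfr
  rw [heq]
  intro hb hfr
  exact ⟨e', b, hb, hx, hA, hfr⟩

section Convert

variable {S : Scheme.{u}} [IsAffine S] (f : X ⟶ S)

omit [IsAffine S] in
/-- Sections give a morphism from a free module into the direct image. -/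
theorem exists_secs_eq {κ : Type u} (σ : κ → Γ(L, f ⁻¹ᵁ ⊤)) :
    ∃ φ : (M1.fr κ : S.Modules) ⟶ (Scheme.Modules.pushforward f).obj L,
      ∀ k, ∃ m, secs φ ⊤ m = σ k := by
  refine ⟨M1.freeHom (fun k => (show Γ((Scheme.Modules.pushforward f).obj L, ⊤) from σ k)),
    fun k => ⟨(M1.ιF k).app ⊤ (M1.one ⊤), ?_⟩⟩
  have h := congrArg (fun g : Coh.structureModule S ⟶ (Scheme.Modules.pushforward f).obj L => g.app ⊤ (M1.one ⊤))
    (M1.ιF_freeHom (fun k => (show Γ((Scheme.Modules.pushforward f).obj L, ⊤) from σ k)) k)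
  exact h.trans (M1.secHom_app_one _)

/-- Separating sections over an affine base give relative very ampleness. -/
theorem isRelVeryAmple_of_vaat {κ : Type u} (σ : κ → Γ(L, f ⁻¹ᵁ ⊤)) (hva : ∀ x, VAat (f.app ⊤).hom σ x) :
    RelProj.IsRelVeryAmple f L := by
  obtain ⟨φ, hφ⟩ := exists_secs_eq f σ
  choose m hm using hφ
  refine isRelVeryAmple_of_vamp (M1.isQCoh_fr S κ) φ fun x => ⟨⊤, isAffineOpen_top S, ?_⟩
  refine (hva x).mono fun e he => ⟨m e, (gl_congr (hm e)).le, (gl_congr (hm e)).ge he, fun c => ?_, fun k => ?_⟩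
  · rw [M1.ores_ores]
    exact base_mem_ratSub c
  · rw [cf_ores_congr (hm e) (hm k)]
    exact cf_mem_ratSub _

/-- An immersion into projective space over the ring of functions gives separating sections. -/
theorem exists_vaat_of_projSpace (hL : PicF.IsInvertible L) {n : ℕ} (r : X ⟶ CohB1.ProjSpace n Γ(S, ⊤))
    [IsImmersion r] (τ : (Scheme.Modules.pullback r).obj (_root_.Twist.twistProjSpace n Γ(S, ⊤) 1) ≅ L)
    (hbase : r ≫ CohB1.ProjSpace.toSpec n Γ(S, ⊤) = f ≫ S.isoSpec.hom) :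
    ∃ (m : ℕ) (σ : ULift.{u} (Fin (m + 1)) → Γ(L, f ⁻¹ᵁ ⊤)), ∀ x, VAat (f.app ⊤).hom σ x := by
  refine ⟨n, fun l => coordSec r τ l.down, fun x => ?_⟩
  have hva : VAat (f.app ⊤).hom (W := f ⁻¹ᵁ ⊤) (coordSec r τ) x :=
    vaat_coordSec r τ hL (ρ := (f.app ⊤).hom) (fun c => by
      rw [hbase]; exact toGlobal_isoSpec f c) x
  exact vaat_relabel (coordSec r τ) ULift.down ULift.down_surjective hva

set_option maxHeartbeats 400000 in
/-- An immersion into projective space over an affine base gives separating sections. -/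
theorem exists_vaat_of_pn (hL : PicF.IsInvertible L) (h : RelAmple.IsRelVeryAmplePn f L) :
    ∃ (m : ℕ) (σ : ULift.{u} (Fin (m + 1)) → Γ(L, f ⁻¹ᵁ ⊤)), ∀ x, VAat (f.app ⊤).hom σ x := by
  obtain ⟨n, i, hi, hif, ⟨e⟩⟩ := h
  haveI := hi
  let o := ProjSpace.overMap n S.isoSpec.inv
  haveI : IsIso o := by
    have h := ProjSpace.isPullback_overMap n S.isoSpec.inv
    exact h.isIso_fst_of_isIso
  let w := (ProjSpace.overSpecIso n Γ(S, ⊤)).hom ≫ o
  let r : X ⟶ CohB1.ProjSpace n Γ(S, ⊤) := i ≫ inv w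
  haveI : IsImmersion r := inferInstance
  have hiw : r ≫ w = i := by simp [r]
  clear_value r
  have h1 : r ≫ CohB1.ProjSpace.toSpec n Γ(S, ⊤) ≫ S.isoSpec.inv = f := by
    refine Eq.trans ?_ ((congrArg (· ≫ CohB1.ProjSpaceOver.toBase n S) hiw).trans hif)
    simp only [Category.assoc, w]
    change _ = r ≫ _ ≫ o ≫ CohB1.ProjSpaceOver.toBase n S
    rw [(ProjSpace.isPullback_overMap n S.isoSpec.inv).w]
    exact congrArg (r ≫ ·) (ProjSpace.overSpecIso_hom_toBase_assoc n _ _).symm
  have hbase : r ≫ CohB1.ProjSpace.toSpec n Γ(S, ⊤) = f ≫ S.isoSpec.hom := by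
    conv_rhs => rw [← h1]
    rw [Category.assoc, Category.assoc, Iso.inv_hom_id, Category.comp_id]
  obtain ⟨σ'⟩ := AmpleImm18.nonempty_pullback_map_twist n Γ(S, ⊤)
  let fY := pullback.fst (CohB1.ProjSpace.toSpec n (ULift.{u} ℤ)) (specULiftZIsTerminal.from S)
  have e0 : r ≫ ProjSpace.map n (ProjSpace.fromZ Γ(S, ⊤)) = i ≫ fY := by
    rw [← hiw, ← ProjSpace.overSpecIso_hom_fst]
    simp [o, w, fY, ProjSpace.overMap]
    rfl
  let τ : (Scheme.Modules.pullback r).obj (_root_.Twist.twistProjSpace n Γ(S, ⊤) 1) ≅ L :=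
    (Scheme.Modules.pullback r).mapIso σ'.symm ≪≫
      (Scheme.Modules.pullbackComp r (ProjSpace.map n (ProjSpace.fromZ Γ(S, ⊤)))).app _ ≪≫
      eqToIso (congrArg (fun g => (Scheme.Modules.pullback g).obj _) e0) ≪≫
      ((Scheme.Modules.pullbackComp i fY).app _).symm ≪≫ e.symm
  exact exists_vaat_of_projSpace f hL r τ hbase

/-- An immersion into projective space over an affine base gives relative very ampleness. -/
theorem isRelVeryAmple_of_pn (hL : PicF.IsInvertible L) (h : RelAmple.IsRelVeryAmplePn f L) :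
    RelProj.IsRelVeryAmple f L :=
  let ⟨_, σ, hσ⟩ := exists_vaat_of_pn f hL h
  isRelVeryAmple_of_vaat f σ hσ

end Convert

/-- Products with generating sections keep the separation property. -/
theorem vaat_prodSec {T : Type u} [CommRing T] {κ : Type u} {μ : Type u} {L' : X.Modules} {W : X.Opens}
    (hL : PicF.IsInvertible L) (hL' : PicF.IsInvertible L') {ρ : T →+* Γ(X, W)} (σ : κ → Γ(L, W))
    (s : μ → Γ(L', W)) {x : X} (h : VAat ρ σ x) (hs : ∃ j, x ∈ gl (s j)) :
    VAat ρ (fun p : κ × μ => prodSec (σ p.1) (s p.2)) x := by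
  obtain ⟨j, hj⟩ := hs
  refine h.mono fun l hl => ?_
  have hgl : gl (prodSec (σ l) (s j)) = gl (σ l) ⊓ gl (s j) := gl_prodSec hL hL' _ _
  refine ⟨(l, j), hgl.le.trans inf_le_left, hgl.ge ⟨hl, hj⟩, fun r => ?_, fun k => ?_⟩
  · rw [M1.ores_ores]
    exact base_mem_ratSub (σ := fun p : κ × μ => prodSec (σ p.1) (s p.2)) (e := (l, j)) r
  · have h0 := cf_mem_ratSub (ρ := ρ) (σ := fun p : κ × μ => prodSec (σ p.1) (s p.2)) (e := (l, j)) (k, j)
    convert h0 using 1
    refine (ores_eq_cf ?_)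
    simp only [mres_prodSec]
    rw [← cf_smul_res (σ l) (σ k) (hgl.le.trans inf_le_left)]
    exact (M2.tsec_smul_left _ _ _).symm

/-- Immersions into projective space restrict along opens of the base. -/
theorem isRelVeryAmplePn_baseChange {S S' X' : Scheme.{u}} {f : X ⟶ S} {g : S' ⟶ S} {g' : X' ⟶ X}
    {f' : X' ⟶ S'} [IsOpenImmersion g] [IsOpenImmersion g'] (w : g' ≫ f = f' ≫ g)
    (h : RelAmple.IsRelVeryAmplePn f L) : RelAmple.IsRelVeryAmplePn f' (L.restrict g') := by
  obtain ⟨n, i, hi, hif, ⟨e⟩⟩ := h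
  haveI := hi
  let hpb := ProjSpace.isPullback_overMap n g
  let a : X' ⟶ CohB1.ProjSpaceOver n S' :=
    hpb.lift (g' ≫ i) f' (by rw [Category.assoc]; exact (congrArg _ hif).trans w)
  have ha : a ≫ ProjSpace.overMap n g = g' ≫ i := hpb.lift_fst _ _ _
  haveI : IsOpenImmersion (ProjSpace.overMap n g) :=
    MorphismProperty.of_isPullback (P := @IsOpenImmersion) hpb.flip inferInstance
  haveI : IsImmersion (a ≫ ProjSpace.overMap n g) := by rw [ha]; infer_instance
  haveI : IsImmersion a := IsImmersion.of_comp a (ProjSpace.overMap n g)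
  let πU := pullback.fst (CohB1.ProjSpace.toSpec n (ULift.{u} ℤ)) (specULiftZIsTerminal.from S')
  let π := pullback.fst (CohB1.ProjSpace.toSpec n (ULift.{u} ℤ)) (specULiftZIsTerminal.from S)
  have hπ : a ≫ πU = (g' ≫ i) ≫ π := by
    rw [← ha, Category.assoc]
    exact congrArg (a ≫ ·) ((pullback.lift_fst _ _ _).trans (Category.comp_id _)).symm
  exact ⟨n, a, inferInstance, hpb.lift_snd _ _ _, ⟨((Scheme.Modules.restrictFunctorIsoPullback _).app L) ≪≫
    (Scheme.Modules.pullback _).mapIso e ≪≫ (Scheme.Modules.pullbackComp g' i).app _ ≪≫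
    (Scheme.Modules.pullbackComp (g' ≫ i) π).app _ ≪≫
    eqToIso (congrArg (fun z => (Scheme.Modules.pullback z).obj _) hπ.symm) ≪≫
    ((Scheme.Modules.pullbackComp a πU).app _).symm⟩⟩

end Groth.Agent.AmpleFib
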