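import Groth.Agent.Lib.AmpleFib.VAPn
import Groth.Agent.Lib.AmpleFib.PnVA
import Groth.Agent.Lib.VeryAmple11.AmplePow

/-!
# An ample module whose powers are generated by products of sections is very ample
-/

universe u v

open CategoryTheory Limits AlgebraicGeometry TopologicalSpace Opposite

set_option linter.style.haveILetI false
set_option backward.isDefEq.respectTransparency false

namespace Groth.Agent.AmpleFib

open Groth.Agent.VA11
open Groth.Agent.M1 (ores mres)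

variable {X S : Scheme.{u}} {L L' : X.Modules} {W : X.Opens}

/-- Change of the separating family: the new ratios at one section, against a section with the same
locus, contain the old ones. -/
theorem vaat_of_cf {R : Type u} [CommRing R] {κ μ : Type v} {ρ : R →+* Γ(X, W)} {τ : κ → Γ(L', W)}
    {σ : μ → Γ(L, W)} {x : X} (h : VAat ρ τ x) (i : μ) (hxi : x ∈ gl (σ i)) (P : Γ(L', W))
    (hP : gl P = gl (σ i)) (hk : ∀ k, ores hP.ge (cf P (τ k)) ∈ ratSub ρ σ i) : VAat ρ σ x := by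
  obtain ⟨e, b, hb, hxb, hA, hfr⟩ := h
  let O : X.Opens := gl (τ e) ⊓ gl (σ i)
  let r1 := ores (inf_le_left : O ≤ gl (τ e))
  let r2 := ores (inf_le_right : O ≤ gl (σ i))
  obtain ⟨b', hb', hxb', hle, hA', hfr'⟩ :=
    exists_shrink hb hxb hA hfr (O := O) ⟨X.basicOpen_le b hxb, hxi⟩
  let c : Γ(X, gl (σ i)) := ores hP.ge (cf P (τ e))
  have hc : c ∈ ratSub ρ σ i := hk e
  have hcO : X.basicOpen c = O := by
    show X.basicOpen (ores hP.ge (cf P (τ e))) = O
    rw [basicOpen_ores, ← gl_inf_gl, hP, ← inf_assoc, inf_idem, inf_comm]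
  have key : ∀ a ∈ ratSub ρ τ e, r1 a ∈ fracs r2.hom (ratSub ρ σ i) c hc := fun a ha =>
    map_ratSub_le r1.hom (fracs r2.hom (ratSub ρ σ i) c hc)
      (fun r => ⟨0, _, base_mem_ratSub r, by
        rw [pow_zero, mul_one]
        show r1 _ = r2 _
        simp only [r1, r2, M1.ores_ores]⟩)
      (fun k => ⟨1, _, hk k, by
        rw [pow_one]
        show r1 _ * r2 _ = r2 _
        simp only [r1, r2, c, M1.ores_ores]
        exact ores_cf_mul P (τ e) (τ k) (inf_le_right.trans hP.ge) inf_le_left⟩) ha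
  obtain ⟨m, b₂, hb₂, hm⟩ := key b' hb'
  have hu : IsUnit (r2 c) := by
    have h : IsUnit (ores (X.basicOpen_le c) c) := X.toRingedSpace.isUnit_res_basicOpen c
    have h' := h.map (ores hcO.ge).hom
    rwa [show (ores hcO.ge).hom (ores (X.basicOpen_le c) c) = r2 c from M1.ores_ores _ _ _] at h'
  have hbe : X.basicOpen (b₂ * c) = X.basicOpen b' := by
    rw [Scheme.basicOpen_mul, hcO]
    have h1 : X.basicOpen (r2 b₂) = O ⊓ X.basicOpen b₂ := basicOpen_ores _ _
    have h2 : X.basicOpen (r1 b') = O ⊓ X.basicOpen b' := basicOpen_ores _ _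
    have hm' : r1 b' * r2 c ^ m = r2 b₂ := hm
    rw [inf_comm, ← h1, ← hm', Scheme.basicOpen_mul, X.basicOpen_of_isUnit (hu.pow m), h2, inf_comm O,
      inf_assoc, inf_idem, inf_eq_left]
    exact hle
  refine ⟨i, b₂ * c, mul_mem hb₂ hc, hbe ▸ hxb', hbe ▸ hA', ?_⟩
  rw [eq_top_iff]
  intro t _
  obtain ⟨k, a, ha, hk'⟩ : ores hbe.ge t ∈ fracs (ores (X.basicOpen_le b')).hom (ratSub ρ τ e) b' hb' :=
    hfr' ▸ Subring.mem_top _
  obtain ⟨j, a', ha', hj⟩ := key a ha
  refine ⟨k + j, a' * c ^ (m * k) * b₂ ^ j * c ^ k,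
    mul_mem (mul_mem (mul_mem ha' (pow_mem hc _)) (pow_mem hb₂ _)) (pow_mem hc _), ?_⟩
  apply ores_injective hbe.ge hbe.le
  show ores hbe.ge _ = ores hbe.ge _
  have hm' : r1 b' * r2 c ^ m = r2 b₂ := hm
  have hj' : r1 a * r2 c ^ j = r2 a' := hj
  have hk'' : ores hbe.ge t * ores (X.basicOpen_le b') b' ^ k = ores (X.basicOpen_le b') a := hk'
  have e1 := congrArg (ores hle) hm'
  have e2 := congrArg (ores hle) hj'
  simp only [r1, r2, O, map_mul, map_pow, M1.ores_ores] at e1 e2 hk'' ⊢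
  rw [← e2, ← hk'', ← e1]
  ring

/-- The coefficient of a section against a power of one section is in the ring of ratios. -/
theorem pow_coeff_mem {R : Type u} [CommRing R] {ρ : R →+* Γ(X, (⊤ : X.Opens))} (hL : PicF.IsInvertible L)
    (hng : ∀ n : ℕ, 1 ≤ n → AddSubgroup.closure {t | ∃ (m : (CohB1.tensorPow L n).val.obj (op ⊤))
      (s : L.val.obj (op ⊤)), t = SecTwist.tmul (CohB1.tensorPow L n) L ⊤ m s} = ⊤)
    (i : Γ(L, (⊤ : X.Opens))) : ∀ (n : ℕ) (t : Γ(CohB1.tensorPow L (n + 1), (⊤ : X.Opens))),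
      ores (gl_pw hL i n).ge (cf (Amp.pw i (n + 1)) t) ∈
        ratSub ρ (id : Γ(L, (⊤ : X.Opens)) → Γ(L, (⊤ : X.Opens))) i := by
  intro n
  induction n with
  | zero =>
    intro t
    have h0 : ores (gl_pw hL i 0).ge (cf (Amp.pw i 1) t) •
        mres (CohB1.tensorMod (Coh.structureModule X) L) (gl_le i) (M2.tsec _ L (M1.one ⊤) i) =
        mres (CohB1.tensorMod (Coh.structureModule X) L) (gl_le i) t := cf_smul_res _ t (gl_pw hL i 0).ge
    have h := congrArg ((actHom L).app (gl i)) h0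
    rw [Scheme.Modules.Hom.app_smul, M1.app_mres, M1.app_mres] at h
    rw [actHom_tsec,
      show (show Γ(X, ⊤) from M1.one (⊤ : X.Opens)) = 1 from rfl, one_smul] at h
    exact ores_eq_cf h ▸ cf_mem_ratSub (σ := (id : Γ(L, (⊤ : X.Opens)) → Γ(L, (⊤ : X.Opens)))) _
  | succ n ih =>
    intro t
    have hmem : t ∈ AddSubgroup.closure {t | ∃ (m : (CohB1.tensorPow L (n + 1)).val.obj (op ⊤))
        (s : L.val.obj (op ⊤)), t = SecTwist.tmul (CohB1.tensorPow L (n + 1)) L ⊤ m s} :=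
      (hng (n + 1) (by omega)).symm ▸ AddSubgroup.mem_top t
    let φ : Γ(CohB1.tensorPow L (n + 2), (⊤ : X.Opens)) →+ Γ(X, gl i) :=
      AddMonoidHom.mk' (fun t => ores (gl_pw hL i (n + 1)).ge (cf (Amp.pw i (n + 2)) t))
        (fun a b => (congrArg _ (cf_add _ a b)).trans (map_add _ _ _))
    suffices h : AddSubgroup.closure _ ≤
        (ratSub ρ (id : Γ(L, (⊤ : X.Opens)) → Γ(L, (⊤ : X.Opens))) i).toAddSubgroup.comap φ from h hmem
    rw [AddSubgroup.closure_le]
    rintro _ ⟨m, s, rfl⟩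
    rw [SetLike.mem_coe, AddSubgroup.mem_comap, Amp.tmul_eq_tsec]
    show ores (gl_pw hL i (n + 1)).ge (cf (prodSec (Amp.pw i (n + 1)) i) (prodSec m s)) ∈ _
    rw [cf_prodSec (Amp.isInvertible_tensorPow hL (n + 1)) hL]
    erw [map_mul, M1.ores_ores, M1.ores_ores]
    show _ * _ ∈ ratSub ρ (id : Γ(L, (⊤ : X.Opens)) → Γ(L, (⊤ : X.Opens))) i
    refine mul_mem (ih m) ?_
    rw [M1.ores_id]
    exact cf_mem_ratSub (σ := (id : Γ(L, (⊤ : X.Opens)) → Γ(L, (⊤ : X.Opens)))) _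

/-- The generating locus of a sum. -/
theorem gl_add_le (a b : Γ(L, W)) : gl (a + b) ≤ gl a ⊔ gl b := fun x hx => by
  have h1 : cf (a + b) a + cf (a + b) b = 1 := by rw [← cf_add, cf_self]
  have h2 := congrArg (X.presheaf.germ (gl (a + b)) x hx) h1
  rw [map_add, map_one] at h2
  rcases IsLocalRing.isUnit_or_isUnit_of_add_one h2 with h | h
  · exact Or.inl ((gl_inf_gl (a + b) a).ge ((Scheme.mem_basicOpen X _ x hx).2 h)).2
  · exact Or.inr ((gl_inf_gl (a + b) b).ge ((Scheme.mem_basicOpen X _ x hx).2 h)).2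

/-- The zero section generates nowhere. -/
theorem not_mem_gl_zero {x : X} : x ∉ gl (0 : Γ(L, W)) := fun hx => by
  have h1 : cf (0 : Γ(L, W)) 0 + cf (0 : Γ(L, W)) 0 = cf (0 : Γ(L, W)) 0 := by rw [← cf_add, add_zero]
  rw [cf_self, add_eq_left] at h1
  have h2 := congrArg (X.presheaf.germ (gl (0 : Γ(L, W))) x hx) h1
  rw [map_one, map_zero] at h2
  exact one_ne_zero h2

/-- The generating locus of the opposite section. -/
theorem gl_neg_le (a : Γ(L, W)) : gl (-a) ≤ gl a := fun x hx => by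
  have h1 : cf (-a) (-a) + cf (-a) a = cf (-a) 0 := by rw [← cf_add, neg_add_cancel]
  have h0 : cf (-a) 0 + cf (-a) 0 = cf (-a) 0 := by rw [← cf_add, add_zero]
  rw [add_eq_left] at h0
  rw [cf_self, h0, add_eq_zero_iff_eq_neg] at h1
  exact ((gl_inf_gl (-a) a).ge ((Scheme.mem_basicOpen X _ x hx).2 ((IsUnit.of_mul_eq_one _
    (show X.presheaf.germ _ x hx (cf (-a) a) * X.presheaf.germ _ x hx (cf (-a) a) = 1 by
      rw [← map_mul, show cf (-a) a * cf (-a) a = 1 by rw [← neg_eq_iff_eq_neg.2 h1]; ring, map_one]))))).2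

/-- Sections generating a power come from sections generating the module. -/
theorem exists_gl_of_pow (hL : PicF.IsInvertible L)
    (hng : ∀ n : ℕ, 1 ≤ n → AddSubgroup.closure {t | ∃ (m : (CohB1.tensorPow L n).val.obj (op ⊤))
      (s : L.val.obj (op ⊤)), t = SecTwist.tmul (CohB1.tensorPow L n) L ⊤ m s} = ⊤) :
    ∀ (n : ℕ) (t : Γ(CohB1.tensorPow L (n + 1), (⊤ : X.Opens))) (x : X), x ∈ gl t →
      ∃ i : Γ(L, (⊤ : X.Opens)), x ∈ gl i
  | 0, t, x, hx => ⟨_, (gl_app_iso (M2.tensorPowOne L) t).ge hx⟩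
  | n + 1, t, x, hx => by
    have hmem : t ∈ AddSubgroup.closure {t | ∃ (m : (CohB1.tensorPow L (n + 1)).val.obj (op ⊤))
        (s : L.val.obj (op ⊤)), t = SecTwist.tmul (CohB1.tensorPow L (n + 1)) L ⊤ m s} :=
      (hng (n + 1) (by omega)).symm ▸ AddSubgroup.mem_top t
    induction hmem using AddSubgroup.closure_induction with
    | mem t ht =>
      obtain ⟨m, s, rfl⟩ := ht
      exact ⟨s, gl_prodSec_le_right (Amp.isInvertible_tensorPow hL (n + 1)) hL m s hx⟩
    | zero => exact absurd hx not_mem_gl_zero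
    | add a b _ _ ha hb => exact (gl_add_le _ _ hx).elim ha hb
    | neg a _ ha => exact ha (gl_neg_le _ hx)

/-- An ample module whose powers are generated by products of sections of the module is very ample. -/
theorem isRelVeryAmplePn_of_gen [IsAffine S] (f : X ⟶ S) [LocallyOfFiniteType f] [QuasiCompact f]
    (hLa : CohB1.IsAmple L)
    (hng : ∀ n : ℕ, 1 ≤ n → AddSubgroup.closure {t | ∃ (m : (CohB1.tensorPow L n).val.obj (op ⊤))
      (s : L.val.obj (op ⊤)), t = SecTwist.tmul (CohB1.tensorPow L n) L ⊤ m s} = ⊤) :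
    RelAmple.IsRelVeryAmplePn f L := by
  have hL := hLa.1
  obtain ⟨N, hN, hva⟩ := exists_vamp_pow f hLa
  obtain ⟨n, rfl⟩ : ∃ n, N = n + 1 := ⟨N - 1, by omega⟩
  obtain ⟨E, φ, -, hva⟩ := exists_va_of_isRelVeryAmple hva
  refine isRelVeryAmplePn_of_isRelVeryAmple f hL
    (isRelVeryAmple_of_vaat f (κ := Γ(L, f ⁻¹ᵁ ⊤)) id fun x => ?_)
  have h := hva ⊤ (isAffineOpen_top S) x trivial
  obtain ⟨e, b, hb, hxb, -⟩ := id h
  have hxe : x ∈ gl (secs φ ⊤ e) := X.basicOpen_le b hxb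
  obtain ⟨i, hi⟩ : ∃ i : Γ(L, (⊤ : X.Opens)), x ∈ gl i := exists_gl_of_pow hL hng n _ x hxe
  exact vaat_of_cf h i hi (Amp.pw i (n + 1)) (gl_pw hL i n) fun k =>
    pow_coeff_mem (ρ := (f.app ⊤).hom) hL hng i n (secs φ ⊤ k)

end Groth.Agent.AmpleFib
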