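import Groth.Agent.Lib.AmpleFib.Spread
import Groth.Agent.Lib.RelAmple18.Ops

/-!
# Relative ampleness and limits
-/

universe u

open CategoryTheory CategoryTheory.Limits AlgebraicGeometry Opposite TopologicalSpace

set_option backward.isDefEq.respectTransparency false
set_option linter.style.haveILetI false

namespace Groth.Agent.AmpleFib

open Groth.Agent.RA

theorem isAmple_pullback_of_isPullback {A B C P Q : Scheme.{u}} {f : A ⟶ C} {g : B ⟶ C} {p : P ⟶ A} {p' : P ⟶ B}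
    {q : Q ⟶ A} {q' : Q ⟶ B} (hP : IsPullback p p' f g) (hQ : IsPullback q q' f g) {L : A.Modules}
    (h : CohB1.IsAmple ((Scheme.Modules.pullback q).obj L)) : CohB1.IsAmple ((Scheme.Modules.pullback p).obj L) :=
  isAmple_pullback_of_iso L p q (hP.isoIsPullback _ _ hQ) (hP.isoIsPullback_hom_fst _ _ hQ) h

variable {I : Type u} [SmallCategory I] [IsCofiltered I] {D : I ⥤ Scheme.{u}} {c : Cone D} (hc : IsLimit c)
  [∀ (i j : I) (f : i ⟶ j), IsAffineHom (D.map f)] {i₀ : I}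
  {X₀ Y₀ : Scheme.{u}} (f₀ : X₀ ⟶ Y₀) (g₀ : Y₀ ⟶ D.obj i₀) [QuasiCompact f₀] [QuasiSeparated (f₀ ≫ g₀)]
  [CompactSpace (D.obj i₀)] [QuasiSeparated g₀]
  {L₀ : X₀.Modules} (hL₀ : PicF.IsInvertible L₀)

include hc in
/-- Ampleness over an affine open of the base of the limit comes from a stage. -/
theorem exists_stage_isAmple {X : Scheme.{u}} (W : Y₀.Opens) (hW : IsAffineOpen W)
    {u : X ⟶ f₀ ⁻¹ᵁ W} {v : X ⟶ c.pt}
    (hX : IsPullback u v ((f₀ ⁻¹ᵁ W).ι ≫ f₀ ≫ g₀) (c.π.app i₀))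
    (h : CohB1.IsAmple ((Scheme.Modules.pullback (u ≫ (f₀ ⁻¹ᵁ W).ι)).obj L₀))
    (hL₀ : PicF.IsInvertible L₀) :
    ∃ (k : Over i₀), ∀ ⦃l : Over i₀⦄ (_ : l ⟶ k),
      CohB1.IsAmple ((Scheme.Modules.pullback
        (pullback.fst ((f₀ ⁻¹ᵁ W).ι ≫ f₀ ≫ g₀) (D.map l.hom) ≫ (f₀ ⁻¹ᵁ W).ι)).obj L₀) := by
  let m := (f₀ ⁻¹ᵁ W).ι ≫ f₀ ≫ g₀
  let F := Over.forget i₀
  let t := Descend.overT D i₀
  haveI : ∀ l, IsAffineHom (t.app l) := fun l => inferInstanceAs (IsAffineHom (D.map l.hom))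
  haveI : CompactSpace (f₀ ⁻¹ᵁ W : X₀.Opens) :=
    isCompact_iff_compactSpace.mp (QuasiCompact.isCompact_preimage _ W.isOpen hW.isCompact)
  haveI : QuasiSeparated f₀ := QuasiSeparated.of_comp f₀ g₀
  haveI : IsAffine (W : Scheme) := hW
  haveI : QuasiSeparated (f₀ ∣_ W) :=
    MorphismProperty.of_isPullback (P := @QuasiSeparated) (isPullback_morphismRestrict f₀ W).flip inferInstance
  haveI : QuasiSeparatedSpace (f₀ ⁻¹ᵁ W : X₀.Opens) := quasiSeparatedSpace_of_quasiSeparated (f₀ ∣_ W)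
  have hq : ∀ l, (c.whisker F).π.app l ≫ t.app l = c.π.app i₀ := fun l => c.w l.hom
  let e := Descend.pbCone (F ⋙ D) t m (c.whisker F) hq hX
  have he : IsLimit e := Descend.pbIsLimit (F ⋙ D) t m (c.whisker F) hq hX
    ((Functor.Initial.isLimitWhiskerEquiv F c).symm hc)
  haveI : ∀ (k l : Over i₀) (a : k ⟶ l), IsAffineHom ((Descend.pbDiagram (F ⋙ D) t m).map a) := fun k l a =>
    inferInstance
  let o : Over i₀ := Over.mk (𝟙 i₀)
  have ho : CohB1.IsAmple ((Scheme.Modules.pullback (e.π.app o)).obj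
      ((Scheme.Modules.pullback (pullback.fst m (t.app o) ≫ (f₀ ⁻¹ᵁ W).ι)).obj L₀)) := by
    rw [isAmple_pullback_comp_iff, isAmple_pullback_congr (show e.π.app o ≫ pullback.fst m (t.app o) ≫
      (f₀ ⁻¹ᵁ W).ι = u ≫ (f₀ ⁻¹ᵁ W).ι by simp [e])]
    exact h
  obtain ⟨k, a, hk⟩ := exists_isAmple_stage he (PicLoc.isInvertible_pullback _ hL₀) ho
  rw [isAmple_pullback_comp_iff] at hk
  refine ⟨k, fun l b => ?_⟩
  have h2 := Amp.isAmple_pullback_of_isAffineHom ((Descend.pbDiagram (F ⋙ D) t m).map b) hk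
  rw [isAmple_pullback_comp_iff] at h2
  refine (isAmple_pullback_congr ?_).1 h2
  simp [Descend.pbDiagram, t, Descend.overT, m]

include hc hL₀ in
/-- Relative ampleness on the limit comes from a stage. -/
theorem exists_stage_isRelAmple [QuasiCompact g₀]
    {X Y : Scheme.{u}} (f : X ⟶ Y) (g : Y ⟶ c.pt) (qY : Y ⟶ Y₀) (qX : X ⟶ X₀)
    (hY : IsPullback qY g g₀ (c.π.app i₀)) (hX : IsPullback qX f f₀ qY)
    (h : RelAmple.IsRelAmple f ((Scheme.Modules.pullback qX).obj L₀)) :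
    ∃ (j : I) (φ : j ⟶ i₀) (Xj Yj : Scheme.{u}) (fj : Xj ⟶ Yj) (gj : Yj ⟶ D.obj j) (pY : Yj ⟶ Y₀)
      (pX : Xj ⟶ X₀), IsPullback pY gj g₀ (D.map φ) ∧ IsPullback pX fj f₀ pY ∧
        RelAmple.IsRelAmple fj ((Scheme.Modules.pullback pX).obj L₀) := by
  classical
  haveI : QuasiCompact f := MorphismProperty.of_isPullback (P := @QuasiCompact) hX inferInstance
  haveI : CompactSpace Y₀ := QuasiCompact.compactSpace_of_compactSpace g₀
  haveI : IsAffineHom (c.π.app i₀) := isAffineHom_π_app _ c hc i₀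
  haveI : IsAffineHom qY := MorphismProperty.of_isPullback (P := @IsAffineHom) hY.flip inferInstance
  obtain ⟨s, hs⟩ := isCompact_univ.elim_finite_subcover (fun W : Y₀.affineOpens => (W.1 : Set Y₀))
    (fun W => W.1.isOpen) fun y _ => by
      obtain ⟨W, hW, hy, -⟩ := exists_isAffineOpen_mem_and_subset (show y ∈ (⊤ : Y₀.Opens) from trivial)
      exact Set.mem_iUnion.2 ⟨⟨W, hW⟩, hy⟩
  have hst : ∀ W : Y₀.affineOpens, ∃ k : Over i₀, ∀ ⦃l : Over i₀⦄ (_ : l ⟶ k),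
      CohB1.IsAmple ((Scheme.Modules.pullback
        (pullback.fst ((f₀ ⁻¹ᵁ W.1).ι ≫ f₀ ≫ g₀) (D.map l.hom) ≫ (f₀ ⁻¹ᵁ W.1).ι)).obj L₀) := fun W => by
    refine exists_stage_isAmple hc f₀ g₀ W.1 W.2 (u := qX ∣_ (f₀ ⁻¹ᵁ W.1)) (v := (qX ⁻¹ᵁ (f₀ ⁻¹ᵁ W.1)).ι ≫ f ≫ g)
      ((isPullback_morphismRestrict qX (f₀ ⁻¹ᵁ W.1)).paste_vert (hX.paste_vert hY)) ?_ hL₀
    rw [isAmple_pullback_congr (morphismRestrict_ι qX _), ← isAmple_pullback_comp_iff,
      ← isAmple_restrict_iff_pullback, isAmple_iff_ampleOn_top]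
    refine (ampleOn_restrict_iff (qX ⁻¹ᵁ (f₀ ⁻¹ᵁ W.1)) ⊤).2 ?_
    rw [Scheme.Opens.ι_image_top, ← Scheme.Hom.comp_preimage, hX.w, Scheme.Hom.comp_preimage]
    exact (isRelAmple_def f).1 h _ (W.2.preimage qY)
  choose k hk using hst
  obtain ⟨l, hl⟩ := IsCofiltered.inf_objs_exists (s.image k)
  let Yj := pullback g₀ (D.map l.hom)
  let pY : Yj ⟶ Y₀ := pullback.fst _ _
  haveI : IsAffineHom pY := MorphismProperty.pullback_fst _ _ inferInstance
  refine ⟨l.left, l.hom, pullback f₀ pY, Yj, pullback.snd _ _, pullback.snd _ _, pY, pullback.fst _ _,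
    IsPullback.of_hasPullback _ _, IsPullback.of_hasPullback _ _, ?_⟩
  refine isRelAmple_of_local (pullback.snd f₀ pY) fun y => ?_
  obtain ⟨W, hWs, hyW⟩ := Set.mem_iUnion₂.1 (hs (Set.mem_univ (pY y)))
  refine ⟨pY ⁻¹ᵁ W.1, W.2.preimage pY, hyW, ?_⟩
  rw [← Scheme.Hom.comp_preimage, ← pullback.condition, Scheme.Hom.comp_preimage]
  have hb := hk W ((hl (Finset.mem_image_of_mem k hWs)).some)
  let p := pullback.fst f₀ pY
  have hsq := (isPullback_morphismRestrict p (f₀ ⁻¹ᵁ W.1)).paste_vert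
    ((IsPullback.of_hasPullback f₀ pY).paste_vert (IsPullback.of_hasPullback g₀ (D.map l.hom)))
  have h2 := isAmple_pullback_of_isPullback hsq (IsPullback.of_hasPullback _ _)
    (L := (Scheme.Modules.pullback (f₀ ⁻¹ᵁ W.1).ι).obj L₀) ((isAmple_pullback_comp_iff _ _).2 hb)
  rw [isAmple_pullback_comp_iff, isAmple_pullback_congr (morphismRestrict_ι p _), ← isAmple_pullback_comp_iff,
    ← isAmple_restrict_iff_pullback, isAmple_iff_ampleOn_top] at h2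
  have h3 := (ampleOn_restrict_iff (p ⁻¹ᵁ (f₀ ⁻¹ᵁ W.1)) ⊤).1 h2
  rwa [Scheme.Opens.ι_image_top] at h3

end Groth.Agent.AmpleFib
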