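import Groth.Agent.Lib.AmpleFib.PointLimit
import Groth.Agent.Lib.AmpleFib.RelLimit
import Groth.Agent.Lib.ConsH13.Topo
import Groth.Agent.S1152

/-!
# The locus of fibres with relatively ample module is ind-constructible
-/

universe u

open CategoryTheory CategoryTheory.Limits AlgebraicGeometry Opposite

set_option backward.isDefEq.respectTransparency false
set_option linter.style.haveILetI false

namespace Groth.Agent.AmpleFib

theorem isRelAmple_iso_congr {A B : Scheme.{u}} {f : A ⟶ B} [QuasiCompact f] {M N : A.Modules} (e : M ≅ N)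
    (h : RelAmple.IsRelAmple f M) : RelAmple.IsRelAmple f N :=
  (RA.isRelAmple_def f).2 fun V hV =>
    Amp.isAmple_of_iso ((Scheme.Modules.restrictFunctor (f ⁻¹ᵁ V).ι).mapIso e) ((RA.isRelAmple_def f).1 h V hV)

theorem isRelAmple_of_iso_comp {A A' B : Scheme.{u}} (e : A ≅ A') {f : A ⟶ B} {f' : A' ⟶ B} [QuasiCompact f']
    (he : e.hom ≫ f' = f) {M : A'.Modules} (h : RelAmple.IsRelAmple f' M) :
    RelAmple.IsRelAmple f ((Scheme.Modules.pullback e.hom).obj M) :=
  RA.isRelAmple_of_isPullback (IsPullback.of_horiz_isIso ⟨by rw [he, Category.comp_id]⟩ :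
    IsPullback e.hom f f' (𝟙 B)) h

variable {X Y S : Scheme.{u}} (f : X ⟶ Y) (g : Y ⟶ S) [QuasiCompact f] {L : X.Modules} (hL : PicF.IsInvertible L)

/-- Relative ampleness of the fibre over a point of the base is insensitive to faithfully flat extensions. -/
theorem isRelAmple_pt_iff (hL : PicF.IsInvertible L) {T T' : Scheme.{u}} (t : T ⟶ S) (t' : T' ⟶ S) (u : T' ⟶ T) (hu : u ≫ t = t')
    [QuasiCompact u] [Flat u] [Surjective u] {YT XT YT' XT' : Scheme.{u}} {pY : YT ⟶ Y} {gT : YT ⟶ T} {fT : XT ⟶ YT}
    {pX : XT ⟶ X} {pY' : YT' ⟶ Y} {gT' : YT' ⟶ T'} {fT' : XT' ⟶ YT'} {pX' : XT' ⟶ X}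
    (hY : IsPullback pY gT g t) (hX : IsPullback pX fT f pY) (hY' : IsPullback pY' gT' g t')
    (hX' : IsPullback pX' fT' f pY') :
    RelAmple.IsRelAmple fT' ((Scheme.Modules.pullback pX').obj L) ↔
      RelAmple.IsRelAmple fT ((Scheme.Modules.pullback pX).obj L) := by
  have wY : pY' ≫ g = (gT' ≫ u) ≫ t := by rw [hY'.w, Category.assoc, hu]
  let v : YT' ⟶ YT := hY.lift pY' (gT' ≫ u) wY
  have hv : IsPullback v gT' gT u := by
    refine IsPullback.of_right ?_ (hY.lift_snd _ _ wY) hY
    rw [hY.lift_fst, hu]; exact hY'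
  have wX : pX' ≫ f = (fT' ≫ v) ≫ pY := by rw [hX'.w, Category.assoc, hY.lift_fst]
  let w : XT' ⟶ XT := hX.lift pX' (fT' ≫ v) wX
  have hw : IsPullback w fT' fT v := by
    refine IsPullback.of_right ?_ (hX.lift_snd _ _ wX) hX
    rw [hX.lift_fst, hY.lift_fst]; exact hX'
  haveI : QuasiCompact fT := MorphismProperty.of_isPullback (P := @QuasiCompact) hX inferInstance
  haveI : QuasiCompact fT' := MorphismProperty.of_isPullback (P := @QuasiCompact) hw inferInstance
  let e : (Scheme.Modules.pullback w).obj ((Scheme.Modules.pullback pX).obj L) ≅ (Scheme.Modules.pullback pX').obj L :=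
    (Scheme.Modules.pullbackComp w pX).app L ≪≫
      eqToIso (congrArg (fun q => (Scheme.Modules.pullback q).obj L) (hX.lift_fst _ _ wX))
  constructor
  · intro h
    haveI : QuasiCompact v := MorphismProperty.of_isPullback (P := @QuasiCompact) hv.flip inferInstance
    haveI : Flat v := MorphismProperty.of_isPullback (P := @Flat) hv.flip inferInstance
    haveI : Surjective v := MorphismProperty.of_isPullback (P := @Surjective) hv.flip inferInstance
    refine AmpleDesc12.isRelAmple_of_isRelAmple_baseChange fT _ (PicLoc.isInvertible_pullback _ hL) v ?_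
    let i := hw.isoPullback
    have h2 := isRelAmple_of_iso_comp i.symm (f := pullback.snd fT v) (f' := fT') (hw.isoPullback_inv_snd)
      (isRelAmple_iso_congr e.symm h)
    refine isRelAmple_iso_congr ((Scheme.Modules.pullbackComp i.inv w).app _ ≪≫
      eqToIso (congrArg (fun q => (Scheme.Modules.pullback q).obj ((Scheme.Modules.pullback pX).obj L))
        hw.isoPullback_inv_fst)) h2
  · intro h
    exact isRelAmple_iso_congr e (RA.isRelAmple_of_isPullback hw h)

/-- The fibre property at an arbitrary field-valued point. -/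
def AmpAt (L : X.Modules) {T : Scheme.{u}} (t : T ⟶ S) : Prop :=
  RelAmple.IsRelAmple (pullback.snd f (pullback.fst g t)) ((Scheme.Modules.pullback (pullback.fst f (pullback.fst g t))).obj L)

include hL in
theorem ampAt_iff {T T' : Scheme.{u}} (t : T ⟶ S) (t' : T' ⟶ S) (u : T' ⟶ T) (hu : u ≫ t = t')
    [QuasiCompact u] [Flat u] [Surjective u] : AmpAt f g L t' ↔ AmpAt f g L t :=
  isRelAmple_pt_iff f g hL t t' u hu (IsPullback.of_hasPullback _ _) (IsPullback.of_hasPullback _ _)
    (IsPullback.of_hasPullback _ _) (IsPullback.of_hasPullback _ _)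

include hL in
/-- The fibre in the form of the statement. -/
theorem ampAt_fibre (s : S) :
    AmpAt f g L (S.fromSpecResidueField s) ↔ RelAmple.IsRelAmple
      (pullback.lift (pullback.fst (f ≫ g) (S.fromSpecResidueField s) ≫ f) (pullback.snd (f ≫ g) (S.fromSpecResidueField s))
        ((Category.assoc _ _ _).trans pullback.condition) :
      pullback (f ≫ g) (S.fromSpecResidueField s) ⟶ pullback g (S.fromSpecResidueField s))
      ((Scheme.Modules.pullback (pullback.fst (f ≫ g) (S.fromSpecResidueField s))).obj L) := by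
  refine (isRelAmple_pt_iff f g hL (S.fromSpecResidueField s) (S.fromSpecResidueField s) (𝟙 _) (Category.id_comp _)
    (IsPullback.of_hasPullback _ _) ?_ (IsPullback.of_hasPullback _ _) (IsPullback.of_hasPullback _ _))
  refine IsPullback.of_bot ?_ (pullback.lift_fst _ _ _).symm (IsPullback.of_hasPullback g _)
  rw [pullback.lift_snd]
  exact IsPullback.of_hasPullback _ _

include hL in
/-- Field-valued points with the same image give the same answer. -/
theorem ampAt_field {K : Type u} [Field K] (t : Spec (CommRingCat.of K) ⟶ S) :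
    AmpAt f g L t ↔ AmpAt f g L (S.fromSpecResidueField (t (IsLocalRing.closedPoint K))) := by
  let χ : S.residueField (t (IsLocalRing.closedPoint K)) ⟶ CommRingCat.of K :=
    Scheme.descResidueField (Scheme.stalkClosedPointTo t)
  haveI : Surjective (Spec.map χ) := ⟨fun x => ⟨IsLocalRing.closedPoint K, Subsingleton.elim _ _⟩⟩
  haveI : Flat (Spec.map χ) := by
    rw [HasRingHomProperty.Spec_iff (P := @Flat), RingHom.Flat]
    letI := χ.hom.toAlgebra
    infer_instance
  exact ampAt_iff f g hL _ _ (Spec.map χ)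
    (Scheme.descResidueField_stalkClosedPointTo_fromSpecResidueField K _ t)

variable [QuasiCompact g] [QuasiSeparated g]
  [QuasiSeparated (f ≫ g)]

include hL in
/-- Around every point of the locus there is a constructible set in it. -/
theorem exists_constructible_ampAt (A : CommRingCat.{u}) (σ : Spec A ⟶ S) (p : Spec A)
    (hp : AmpAt f g L (S.fromSpecResidueField (σ p))) :
    ∃ C : Set (Spec A), Topology.IsConstructible C ∧ p ∈ C ∧
      ∀ q ∈ C, AmpAt f g L (S.fromSpecResidueField (σ q)) := by
  let P : Ideal A := p.asIdeal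
  haveI : P.IsPrime := p.isPrime
  let κ := Spec (CommRingCat.of P.ResidueField)
  let q₀ : κ ⟶ S := Spec.map (CommRingCat.ofHom (algebraMap A P.ResidueField)) ≫ σ
  have hq₀ : q₀ (IsLocalRing.closedPoint P.ResidueField) = σ p := by
    refine (Scheme.Hom.comp_apply _ _ _).trans (congrArg σ (PrimeSpectrum.ext ?_))
    show Ideal.comap _ (IsLocalRing.maximalIdeal _) = _
    rw [IsLocalRing.maximalIdeal_eq_bot]
    exact Ideal.ker_algebraMap_residueField P
  have hK : AmpAt f g L q₀ := (ampAt_field f g hL q₀).2 (hq₀ ▸ hp)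
  let D := PointLim.diag A P
  let c := PointLim.cone A P
  let o : (PointLim.Idx A P)ᵒᵖ := op ⟨(∅, ∅), by simp, by simp⟩
  let σ₀ : D.obj o ⟶ S := PointLim.incl A P o ≫ σ
  let g₀ := pullback.snd g σ₀
  let qY₀ := pullback.fst g σ₀
  let f₀ := pullback.snd f qY₀
  let qX₀ := pullback.fst f qY₀
  haveI : IsFiltered (PointLim.Idx A P) := isFiltered_of_directed_le_nonempty _
  haveI : QuasiCompact f₀ := MorphismProperty.pullback_snd _ _ inferInstance
  haveI : QuasiSeparated (f₀ ≫ g₀) :=
    MorphismProperty.of_isPullback (P := @QuasiSeparated)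
      ((IsPullback.of_hasPullback f qY₀).paste_vert (IsPullback.of_hasPullback g σ₀)) inferInstance
  haveI : CompactSpace (D.obj o) := PointLim.compactSpace_obj A P o
  have hw : qY₀ ≫ g = g₀ ≫ σ₀ := pullback.condition
  have hcq : c.π.app o ≫ σ₀ = q₀ := by
    show c.π.app o ≫ PointLim.incl A P o ≫ σ = _
    rw [← Category.assoc, PointLim.cone_incl]
  let Yp := pullback g₀ (c.π.app o)
  let Xp := pullback f₀ (pullback.fst g₀ (c.π.app o))
  have hYp : IsPullback (pullback.fst g₀ (c.π.app o) ≫ qY₀) (pullback.snd g₀ (c.π.app o)) g q₀ := by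
    rw [← hcq]
    exact (IsPullback.of_hasPullback g₀ (c.π.app o)).paste_horiz (IsPullback.of_hasPullback g σ₀)
  have hXp : IsPullback (pullback.fst f₀ (pullback.fst g₀ (c.π.app o)) ≫ qX₀)
      (pullback.snd f₀ (pullback.fst g₀ (c.π.app o))) f (pullback.fst g₀ (c.π.app o) ≫ qY₀) :=
    (IsPullback.of_hasPullback f₀ _).paste_horiz (IsPullback.of_hasPullback f qY₀)
  have hamp : RelAmple.IsRelAmple (pullback.snd f₀ (pullback.fst g₀ (c.π.app o)))
      ((Scheme.Modules.pullback (pullback.fst f₀ (pullback.fst g₀ (c.π.app o)))).obj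
        ((Scheme.Modules.pullback qX₀).obj L)) := by
    haveI : QuasiCompact (pullback.snd f₀ (pullback.fst g₀ (c.π.app o))) :=
      MorphismProperty.pullback_snd _ _ inferInstance
    exact isRelAmple_iso_congr ((Scheme.Modules.pullbackComp _ qX₀).app L).symm
      ((isRelAmple_pt_iff f g hL q₀ q₀ (𝟙 _) (Category.id_comp _) (IsPullback.of_hasPullback _ _)
        (IsPullback.of_hasPullback _ _) hYp hXp).2 hK)
  obtain ⟨j, φ, Xj, Yj, fj, gj, pY, pX, hYj, hXj, hj⟩ := exists_stage_isRelAmple (D := D)
    (PointLim.isLimitCone A P) f₀ g₀ (PicLoc.isInvertible_pullback _ hL) _ _ _ _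
    (IsPullback.of_hasPullback g₀ (c.π.app o)) (IsPullback.of_hasPullback f₀ _) hamp
  refine ⟨Set.range (PointLim.incl A P j), PointLim.isConstructible_range_incl A P j,
    PointLim.mem_range_incl A P j, ?_⟩
  rintro _ ⟨z, rfl⟩
  let σj : D.obj j ⟶ S := PointLim.incl A P j ≫ σ
  have hσj : D.map φ ≫ σ₀ = σj := by
    show D.map φ ≫ PointLim.incl A P o ≫ σ = _
    rw [← Category.assoc, PointLim.map_incl]
  have hYj' : IsPullback (pY ≫ qY₀) gj g σj := hσj ▸ hYj.paste_horiz (IsPullback.of_hasPullback g σ₀)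
  have hXj' : IsPullback (pX ≫ qX₀) fj f (pY ≫ qY₀) := hXj.paste_horiz (IsPullback.of_hasPullback f qY₀)
  haveI : QuasiCompact fj := MorphismProperty.of_isPullback (P := @QuasiCompact) hXj inferInstance
  have hj' : RelAmple.IsRelAmple fj ((Scheme.Modules.pullback (pX ≫ qX₀)).obj L) :=
    isRelAmple_iso_congr ((Scheme.Modules.pullbackComp pX qX₀).app L) hj
  let t : Spec ((D.obj j).residueField z) ⟶ S := (D.obj j).fromSpecResidueField z ≫ σj
  have ht : AmpAt f g L t := by
    let a := pullback.snd gj ((D.obj j).fromSpecResidueField z)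
    let b := pullback.fst gj ((D.obj j).fromSpecResidueField z)
    have h1 : IsPullback (b ≫ pY ≫ qY₀) a g t :=
      (IsPullback.of_hasPullback gj _).paste_horiz hYj'
    have h2 := RA.isRelAmple_of_isPullback (IsPullback.of_hasPullback fj b) hj'
    haveI : QuasiCompact (pullback.snd fj b) := MorphismProperty.pullback_snd _ _ inferInstance
    exact (isRelAmple_pt_iff f g hL t t (𝟙 _) (Category.id_comp _) (IsPullback.of_hasPullback _ _)
      (IsPullback.of_hasPullback _ _) h1 ((IsPullback.of_hasPullback fj b).paste_horiz hXj')).1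
      (isRelAmple_iso_congr ((Scheme.Modules.pullbackComp _ _).app L) h2)
  have hpt : t (IsLocalRing.closedPoint ((D.obj j).residueField z)) = σ (PointLim.incl A P j z) := by
    show σj ((D.obj j).fromSpecResidueField z _) = _
    rw [Scheme.fromSpecResidueField_apply]
    rfl
  exact hpt ▸ (ampAt_field f g hL (K := (D.obj j).residueField z) t).1 ht

end Groth.Agent.AmpleFib
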