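import Groth.Agent.Lib.AmpleFib.PnVA
import Groth.Agent.Lib.CBC10.Rows0
import Groth.Agent.Lib.DPerf.RelAmp
import Groth.Agent.Lib.KFlat.LpullPC
import Groth.Agent.Lib.LimShf14.Pic
import Mathlib.AlgebraicGeometry.FunctionField

/-!
# Lifting sections of an invertible module from a fibre with vanishing first cohomology
-/

universe u

open CategoryTheory Limits AlgebraicGeometry TopologicalSpace Opposite

set_option linter.style.haveILetI false
set_option backward.isDefEq.respectTransparency false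

namespace Groth.Agent.AmpleFib

open Groth.Agent.VA11
open Groth.Agent.M1 (ores mres)
open Groth.Agent.ModLimH13 (res')

variable {X S : Scheme.{u}}

/-- A function on an integral scheme mapping surjectively on stalks is a fraction of functions on the base. -/
theorem exists_frac {T : Scheme.{u}} [IsIntegral T] (φ : T ⟶ S) [SurjectiveOnStalks φ] {V : S.Opens}
    (hV : IsAffineOpen V) (e : (⊤ : T.Opens) ≤ φ ⁻¹ᵁ V) (t : T) (c : Γ(T, ⊤)) :
    ∃ a b : Γ(S, V), φ t ∈ S.basicOpen b ∧ φ.appLE V ⊤ e b * c = φ.appLE V ⊤ e a := by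
  have ht : φ t ∈ V := e (Opens.mem_top t)
  obtain ⟨z, hz⟩ := φ.stalkMap_surjective t (T.presheaf.germ ⊤ t trivial c)
  letI := TopCat.Presheaf.algebra_section_stalk S.presheaf (⟨φ t, ht⟩ : V)
  haveI := hV.isLocalization_stalk ⟨φ t, ht⟩
  obtain ⟨⟨a, b⟩, hab⟩ := IsLocalization.surj
    (hV.primeIdealOf ⟨φ t, ht⟩).asIdeal.primeCompl z
  have hb : IsUnit (S.presheaf.germ V (φ t) ht b.1) :=
    IsLocalization.map_units (S.presheaf.stalk (φ t)) b
  refine ⟨a, b.1, (S.mem_basicOpen b.1 (φ t) ht).2 hb, ?_⟩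
  apply germ_injective_of_isIntegral T t (U := ⊤) trivial
  have key : ∀ d : Γ(S, V), T.presheaf.germ ⊤ t trivial (φ.appLE V ⊤ e d) =
      φ.stalkMap t (S.presheaf.germ V (φ t) ht d) := fun d => by
    rw [Scheme.Hom.germ_stalkMap_apply]
    exact TopCat.Presheaf.germ_res_apply _ (homOfLE e) t trivial (φ.app V d)
  rw [map_mul, key, key, ← hz, ← map_mul, mul_comm]
  exact congrArg _ hab

variable (f : X ⟶ S)

/-- Sections on the fibre are, up to a scalar, restrictions of sections near the point. -/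
theorem exists_lift [IsProper f] [LocallyOfFinitePresentation f] {L : X.Modules} (hL : PicF.IsInvertible L)
    [Flat f] (y : S) (h1 : Subsingleton (CohIII.fiberH f L y 1)) :
    ∃ (V : S.Opens) (hV : IsAffineOpen V) (eW : (⊤ : (Spec (S.residueField y)).Opens) ≤
        S.fromSpecResidueField y ⁻¹ᵁ V), y ∈ V ∧
      ∀ σ : Γ((Scheme.Modules.pullback (f.fiberι y)).obj L, f.fiberToSpecResidueField y ⁻¹ᵁ ⊤),
        ∃ (b : Γ(S, V)) (s : Γ(L, f ⁻¹ᵁ V)) (e : f.fiberToSpecResidueField y ⁻¹ᵁ ⊤ ≤ f.fiberι y ⁻¹ᵁ (f ⁻¹ᵁ V)),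
          y ∈ S.basicOpen b ∧
          (f.fiberToSpecResidueField y).app ⊤ ((S.fromSpecResidueField y).appLE V ⊤ eW b) • σ =
            res' (f.fiberι y) L e s := by
  haveI := CohFound.hasInjectiveResolutions_modules X
  haveI hqL : Coh.IsQCoh L := Twist.isQCoh_of_isInvertible hL
  have hfl : FlatMod.IsFlatOver f L := DPerf.isFlatOver_of_isFlat f (M := L) fun x =>
    KFlat.Sch.isFlat_of_isFinLocFree (M2.isFinLocFree_of_isInvertible hL) x
  obtain ⟨V, M, hyV, hM, -⟩ := CBC10.exists_nhd_H1 (LimShf14.isFP_of_isInvertible hL) hfl y h1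
  let φ := S.fromSpecResidueField y
  let ι := f.fiberι y
  let ζ := f.fiberToSpecResidueField y
  have hφ : ∀ t, φ t = y := fun t => by
    have h := Set.mem_range_self (f := φ) t
    rwa [Scheme.range_fromSpecResidueField] at h
  have eW : (⊤ : (Spec (S.residueField y)).Opens) ≤ φ ⁻¹ᵁ V := fun t _ => by
    show φ t ∈ V
    rw [hφ]; exact hyV
  have hsq : IsPullback ι ζ f φ := IsPullback.of_hasPullback f φ
  haveI := CBC10.isIso_bc0 hsq L fun t => ⟨V, M, (hφ t).symm ▸ hyV, hM⟩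
  let bc := CohBC.bc0 f φ ζ ι hsq.w L
  have e : ζ ⁻¹ᵁ ⊤ ≤ ι ⁻¹ᵁ (f ⁻¹ᵁ V) := CBC10.le_preimage_of_le (w := hsq.w) eW
  refine ⟨V, M.isAffine, eW, hyV, fun σ => ?_⟩
  haveI : ((Scheme.Modules.pushforward f).obj L).IsQuasicoherent := M1.isQCoh_push f hqL
  obtain ⟨z, rfl⟩ : ∃ z, bc.app ⊤ z = σ :=
    (ConcreteCategory.bijective_of_isIso (bc.app ⊤)).2 σ
  suffices h : ∀ z, ∃ (b : Γ(S, V)) (s : Γ(L, f ⁻¹ᵁ V)), y ∈ S.basicOpen b ∧
      φ.appLE V ⊤ eW b • bc.app ⊤ z = res' ι L e s by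
    obtain ⟨b, s, hb, hs⟩ := h z
    exact ⟨b, s, e, hb, hs⟩
  intro z
  have hι : ∀ d : Γ(S, V), ι.appLE (f ⁻¹ᵁ V) (ζ ⁻¹ᵁ ⊤) e (f.app V d) = ζ.app ⊤ (φ.appLE V ⊤ eW d) := fun d => by
    rw [← CommRingCat.comp_apply, ← CommRingCat.comp_apply, Scheme.Hom.app_eq_appLE,
      Scheme.Hom.app_eq_appLE, Scheme.Hom.appLE_comp_appLE, Scheme.Hom.appLE_comp_appLE]
    have hc : ∀ {g g' : f.fiber y ⟶ S} (_ : g = g') (h h'), g.appLE V (ζ ⁻¹ᵁ ⊤) h d = g'.appLE V (ζ ⁻¹ᵁ ⊤) h' d := by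
      rintro g _ rfl h h'; rfl
    exact hc hsq.w _ _
  induction z using ModLimH13.pullback_induction φ ((Scheme.Modules.pushforward f).obj L) eW M.isAffine
      (isAffineOpen_top _) with
  | h0 =>
    refine ⟨1, 0, by rw [Scheme.basicOpen_of_isUnit _ isUnit_one]; exact hyV, ?_⟩
    rw [map_zero, smul_zero]
    refine Eq.symm (add_eq_left.1 ((ModLimH13.res'_add ι L e 0 0).symm.trans ?_))
    rw [add_zero]
  | hadd z₁ z₂ h₁ h₂ =>
    obtain ⟨b₁, s₁, hb₁, hs₁⟩ := h₁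
    obtain ⟨b₂, s₂, hb₂, hs₂⟩ := h₂
    refine ⟨b₁ * b₂, f.app V b₂ • s₁ + f.app V b₁ • s₂, by rw [Scheme.basicOpen_mul]; exact ⟨hb₁, hb₂⟩, ?_⟩
    rw [ModLimH13.res'_add, ModLimH13.res'_smul, ModLimH13.res'_smul, hι, hι, ← hs₁, ← hs₂, map_add, smul_add]
    refine congrArg₂ (· + ·) ?_ ?_
    · exact (congrArg (· • bc.app ⊤ z₁) ((map_mul _ _ _).trans (mul_comm _ _))).trans (mul_smul _ _ _)
    · exact (congrArg (· • bc.app ⊤ z₂) (map_mul _ _ _)).trans (mul_smul _ _ _)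
  | hres c s =>
    obtain ⟨t⟩ : Nonempty (Spec (S.residueField y)) := inferInstance
    obtain ⟨a, b, hb, hab⟩ := exists_frac φ M.isAffine eW t c
    refine ⟨b, f.app V a • (show Γ(L, f ⁻¹ᵁ V) from s), hφ t ▸ hb, ?_⟩
    rw [ModLimH13.res'_smul, hι, ← hab, Scheme.Modules.Hom.app_smul, CBC10.bc0_res']
    exact (mul_smul (φ.appLE V ⊤ eW b) c
      (show Γ((Scheme.Modules.pushforward ζ).obj ((Scheme.Modules.pullback ι).obj L), ⊤) from res' ι L e s)).symm

end Groth.Agent.AmpleFib
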