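import Groth.Agent.Lib.Ample18.Ample
import Groth.Agent.Lib.ModLimH13.Hom2
import Groth.Agent.Lib.LimShf14.Pic

/-!
# Ampleness descends along limits of schemes with affine transition maps
-/

universe u

set_option linter.style.haveILetI false
set_option backward.isDefEq.respectTransparency false

open CategoryTheory CategoryTheory.Limits AlgebraicGeometry

namespace Groth.Agent.AmpleFib

variable {I : Type u} [SmallCategory I] [IsCofiltered I] {D : I ⥤ Scheme.{u}} {c : Cone D}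
  (hc : IsLimit c) [∀ (i j : I) (f : i ⟶ j), IsAffineHom (D.map f)]

include hc in
/-- A section of a power on the limit comes from a section at a stage. -/
theorem exists_hasSec_stage {i₀ : I} [CompactSpace (D.obj i₀)] [QuasiSeparatedSpace (D.obj i₀)]
    {L₀ : (D.obj i₀).Modules} (hL₀ : PicF.IsInvertible L₀) (n : ℕ)
    (s : Coh.structureModule c.pt ⟶ CohB1.tensorPow ((Scheme.Modules.pullback (c.π.app i₀)).obj L₀) n) :
    ∃ (j : I) (φ : j ⟶ i₀) (G : (D.obj j).Opens),
      Amp.HasSec ((Scheme.Modules.pullback (D.map φ)).obj L₀) n G ∧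
        c.π.app j ⁻¹ᵁ G = CohB1.genLocus _ s := by
  let F := Coh.structureModule (D.obj i₀)
  let T := CohB1.tensorPow L₀ n
  have hT : PicF.IsInvertible T := Amp.isInvertible_tensorPow hL₀ n
  haveI : Coh.IsQCoh F := M1.isQCoh_structureModule _
  haveI : Coh.IsQCoh T := Twist.isQCoh_of_isInvertible hT
  let h : (Scheme.Modules.pullback (c.π.app i₀)).obj F ⟶ (Scheme.Modules.pullback (c.π.app i₀)).obj T :=
    (PicLoc.pullbackStructureIso (c.π.app i₀)).hom ≫ s ≫ (M2.pullTensorPowIso (c.π.app i₀) L₀ n).inv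
  obtain ⟨j, φ, hj, hhj⟩ := ModLimH13.exists_hom_descend hc h
    (LimShf14.isFP_of_isInvertible (PicLoc.isInvertible_structureModule _))
  let σ' : Coh.structureModule (D.obj j) ⟶ (Scheme.Modules.pullback (D.map φ)).obj T :=
    (PicLoc.pullbackStructureIso (D.map φ)).inv ≫ hj
  refine ⟨j, φ, CohB1.genLocus _ σ', Amp.hasSec_of_iso (M2.pullTensorPowIso (D.map φ) L₀ n) σ', ?_⟩
  let K := ModLimH13.cmp (c.π.app j) (D.map φ) (c.w φ)
  let e : Coh.structureModule c.pt ≅
      (Scheme.Modules.pullback (c.π.app j)).obj (Coh.structureModule (D.obj j)) :=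
    (PicLoc.pullbackStructureIso (c.π.app i₀)).symm ≪≫ (K.app F).symm ≪≫
      (Scheme.Modules.pullback (c.π.app j)).mapIso (PicLoc.pullbackStructureIso (D.map φ))
  rw [← Amp.genLocus_pullback (c.π.app j) (PicLoc.isInvertible_pullback _ hT) σ' e]
  let E := (M2.pullTensorPowIso (c.π.app i₀) L₀ n).symm ≪≫ (K.app T).symm
  have hEq : e.hom ≫ (Scheme.Modules.pullback (c.π.app j)).map σ' = s ≫ E.hom := by
    have h1 : (K.app F).inv ≫ (Scheme.Modules.pullback (c.π.app j)).map hj = h ≫ (K.app T).inv :=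
      (Iso.eq_comp_inv (K.app T)).2 ((Category.assoc _ _ _).trans hhj)
    simp only [e, E, σ', Iso.trans_hom, Iso.symm_hom, Functor.mapIso_hom, Functor.map_comp,
      Category.assoc]
    rw [← Functor.map_comp_assoc, Iso.hom_inv_id, CategoryTheory.Functor.map_id, Category.id_comp, h1]
    simp only [h, Category.assoc, Iso.inv_hom_id_assoc]
  rw [hEq]
  exact Amp.genLocus_comp_iso E s

theorem isCompact_of_hasSec {X : Scheme.{u}} [CompactSpace X] {L : X.Modules} (hL : PicF.IsInvertible L)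
    {n : ℕ} {G : X.Opens} (h : Amp.HasSec L n G) : IsCompact (G : Set X) := by
  obtain ⟨S, hS⟩ := ModLimH13.exists_finset_affine_cover (⊤ : X.Opens) isCompact_univ
  have : (G : Set X) = ⋃ U ∈ (S : Set X.affineOpens), ((G ⊓ U.1 : X.Opens) : Set X) := by
    ext x
    simp only [Set.mem_iUnion]
    exact ⟨fun hx => by obtain ⟨U, hU, hxU⟩ := hS.2 x trivial; exact ⟨U, hU, hx, hxU⟩,
      fun ⟨U, _, hx⟩ => hx.1⟩
  rw [this]
  exact S.finite_toSet.isCompact_biUnion fun U _ =>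
    (Amp.isAffineOpen_inf_hasSec hL h U.2).isCompact

variable [∀ i, CompactSpace (D.obj i)] [∀ i, QuasiSeparatedSpace (D.obj i)]

include hc in
/-- An affine non-vanishing locus on the limit comes from an affine one at a stage. -/
theorem exists_affine_hasSec_stage {i₀ : I} {L₀ : (D.obj i₀).Modules} (hL₀ : PicF.IsInvertible L₀)
    (n : ℕ) (s : Coh.structureModule c.pt ⟶ CohB1.tensorPow ((Scheme.Modules.pullback (c.π.app i₀)).obj L₀) n)
    (hs : IsAffineOpen (CohB1.genLocus _ s)) :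
    ∃ (k : Over i₀) (G : (D.obj k.left).Opens),
      Amp.HasSec ((Scheme.Modules.pullback (D.map k.hom)).obj L₀) n G ∧ IsAffineOpen G ∧
        c.π.app k.left ⁻¹ᵁ G = CohB1.genLocus _ s := by
  obtain ⟨j, φ, G, hG, hGs⟩ := exists_hasSec_stage hc hL₀ n s
  obtain ⟨i, V, hV, hVs⟩ := exists_isAffineOpen_preimage_eq D c hc _ hs
  let l := IsCofiltered.min i j
  let a : l ⟶ i := IsCofiltered.minToLeft i j
  let b : l ⟶ j := IsCofiltered.minToRight i j
  have hGc : IsCompact (G : Set (D.obj j)) := isCompact_of_hasSec (PicLoc.isInvertible_pullback _ hL₀) hG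
  obtain ⟨m, g, hm⟩ := exists_map_preimage_eq_map_preimage D c hc (i := l)
    (U := D.map a ⁻¹ᵁ V) (V := D.map b ⁻¹ᵁ G) (hV.preimage _).isCompact
    (QuasiCompact.isCompact_preimage (f := D.map b) _ G.isOpen hGc)
    (by rw [← Scheme.Hom.comp_preimage, ← Scheme.Hom.comp_preimage, c.w, c.w, hVs, hGs])
  refine ⟨Over.mk ((g ≫ b) ≫ φ), D.map (g ≫ b) ⁻¹ᵁ G, ?_, ?_, ?_⟩
  · refine Amp.HasSec.map_iso (hG.pullback _ (PicLoc.isInvertible_pullback _ hL₀)) ?_
    exact (ModLimH13.cmp (D.map (g ≫ b)) (D.map φ) (D.map_comp _ _).symm).app L₀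
  · rw [show D.map (g ≫ b) ⁻¹ᵁ G = D.map g ⁻¹ᵁ (D.map b ⁻¹ᵁ G) by
      rw [Functor.map_comp, Scheme.Hom.comp_preimage], ← hm]
    exact (hV.preimage _).preimage _
  · rw [← hGs]
    change c.π.app m ⁻¹ᵁ _ = _
    rw [← Scheme.Hom.comp_preimage, c.w]

include hc in
/-- An invertible module ample on the limit is ample at a stage. -/
theorem exists_isAmple_stage {i₀ : I} {L₀ : (D.obj i₀).Modules} (hL₀ : PicF.IsInvertible L₀)
    (h : CohB1.IsAmple ((Scheme.Modules.pullback (c.π.app i₀)).obj L₀)) :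
    ∃ (i : I) (φ : i ⟶ i₀), CohB1.IsAmple ((Scheme.Modules.pullback (D.map φ)).obj L₀) := by
  classical
  obtain ⟨-, hcs, hsec⟩ := h
  choose n s hxs hsa using hsec
  haveI : CompactSpace c.pt := hcs
  obtain ⟨T, hT⟩ := isCompact_univ.elim_finite_subcover
    (fun x => ((show c.pt.Opens from CohB1.genLocus _ (s x)) : Set c.pt))
    (fun x => (show c.pt.Opens from CohB1.genLocus _ (s x)).isOpen)
    fun x _ => Set.mem_iUnion.2 ⟨x, hxs x⟩
  choose k G hG hGa hGs using fun x => exists_affine_hasSec_stage hc hL₀ (n x + 1) (s x) (hsa x)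
  obtain ⟨K, hK⟩ := IsCofiltered.inf_objs_exists (T.image k)
  let a : ∀ x : T, K ⟶ k x.1 := fun x => (hK (Finset.mem_image_of_mem k x.2)).some
  let G' : T → (D.obj K.left).Opens := fun x => D.map (a x).left ⁻¹ᵁ G x.1
  have hcov : c.π.app K.left ⁻¹ᵁ (⨆ x, G' x) = ⊤ := by
    refine top_le_iff.1 fun y _ => ?_
    obtain ⟨x, hx, hy⟩ := Set.mem_iUnion₂.1 (hT (Set.mem_univ y))
    rw [Scheme.Hom.preimage_iSup, TopologicalSpace.Opens.mem_iSup]
    refine ⟨⟨x, hx⟩, ?_⟩
    rw [← Scheme.Hom.comp_preimage, c.w, hGs]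
    exact hy
  obtain ⟨j, g, hg⟩ := exists_map_eq_top D c hc (⨆ x, G' x) hcov
  refine ⟨j, g ≫ K.hom, Amp.isAmple_iff.2 ⟨PicLoc.isInvertible_pullback _ hL₀, inferInstance, fun y => ?_⟩⟩
  have hy : D.map g y ∈ ⨆ x, G' x := by
    have : y ∈ D.map g ⁻¹ᵁ (⨆ x, G' x) := by rw [hg]; trivial
    exact this
  obtain ⟨x, hx⟩ := TopologicalSpace.Opens.mem_iSup.1 hy
  refine ⟨n x.1, D.map (g ≫ (a x).left) ⁻¹ᵁ G x.1, ?_, ?_, (hGa _).preimage _⟩
  · refine Amp.HasSec.map_iso ((hG x.1).pullback _ (PicLoc.isInvertible_pullback _ hL₀)) ?_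
    exact (ModLimH13.cmp (D.map (g ≫ (a x).left)) (D.map (k x.1).hom)
      (by rw [← D.map_comp, Category.assoc, Over.w (a x)])).app L₀
  · rw [Functor.map_comp, Scheme.Hom.comp_preimage]
    exact hx

end Groth.Agent.AmpleFib
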