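import Groth.Agent.Lib.AmpleFib.Smul
import Groth.Agent.Lib.CohFound.RelVan
import Groth.Agent.Lib.CohFound.ProperFinite
import Groth.Agent.Lib.EffCartier.Comap
import Mathlib.RingTheory.LocalRing.ResidueField.Basic

/-!
# Proper schemes over a local ring: ampleness on the closed fibre implies ampleness
-/

universe u

open CategoryTheory CategoryTheory.Limits AlgebraicGeometry Opposite TopologicalSpace

set_option backward.isDefEq.respectTransparency false
set_option linter.style.haveILetI false

namespace Groth.Agent.AmpleFib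

open Groth.Agent.CohFound

variable {X : Scheme.{u}}

/-- Vanishing of the higher cohomology of all large twists. -/
def Van (L F : X.Modules) : Prop :=
  ∃ n₀ : ℕ, ∀ n, n₀ ≤ n → ∀ p : ℕ, 0 < p →
    Subsingleton (Hc ((abF X).obj (CohB1.tensorMod F (CohB1.tensorPow L n))) p ⊤)

/-- Vanishing for modules killed by the ideal of a closed subscheme on which `L` is ample. -/
theorem van_of_ker_kills {R : Type u} [CommRing R] [IsNoetherianRing R] {Z : Scheme.{u}} (i : Z ⟶ X)
    [IsClosedImmersion i] (q : Z ⟶ Spec (CommRingCat.of R)) [IsProper q]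
    {L : X.Modules} (hL : PicF.IsInvertible L) (ha : CohB1.IsAmple ((Scheme.Modules.pullback i).obj L))
    {F : X.Modules} (hF : Coh.IsCoh F)
    (hk : ∀ (U : X.affineOpens) (a : Γ(X, U.1)), a ∈ i.ker.ideal U → ∀ s : Γ(F, U.1), a • s = 0) :
    Van L F := by
  have := M1.isIso_unit_of_ker_smul i F hF.1 hk
  have hG : Coh.IsCoh ((Scheme.Modules.pullback i).obj F) :=
    ⟨M1.isQCoh_pullback i hF.1, M1.isFT_pullback i hF.2⟩
  let G := (Scheme.Modules.pullback i).obj F
  obtain ⟨n₀, hn₀⟩ := exists_vanishing_all q ha hG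
  refine ⟨n₀, fun n hn p hp => ?_⟩
  let E := CohB1.tensorPow L n
  have hE : Coh.IsQCoh E := Twist.isQCoh_of_isInvertible (Amp.isInvertible_tensorPow hL n)
  obtain ⟨pe⟩ := nonempty_push_tensor_iso i G hG.1 E hE
  haveI : (CohB1.tensorMod G ((Scheme.Modules.pullback i).obj E)).IsQuasicoherent :=
    M2.isQCoh_tensor hG.1 (M1.isQCoh_pullback i hE)
  obtain ⟨ε⟩ := nonempty_hc_push_isAffineHom i (CohB1.tensorMod G ((Scheme.Modules.pullback i).obj E)) p ⊤
  have h1 : Subsingleton (Hc ((abF Z).obj (CohB1.tensorMod G ((Scheme.Modules.pullback i).obj E))) p ⊤) :=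
    subsingleton_hc_of_iso (M2.tensorIso (Iso.refl G) (M2.pullTensorPowIso i L n).symm) p ⊤ (hn₀ n hn p hp)
  refine subsingleton_hc_of_iso (pe ≪≫ M2.tensorIso (asIso
    ((Scheme.Modules.pullbackPushforwardAdjunction i).unit.app F)).symm (Iso.refl E)) p ⊤ ?_
  exact @Equiv.subsingleton _ _ ε.toEquiv h1

variable {A : Type u} [CommRing A] [IsNoetherianRing A] [IsLocalRing A]

omit [IsNoetherianRing A] in
/-- Nakayama: a multiplication by an element of the maximal ideal that is surjective on a finite module. -/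
theorem subsingleton_of_smul_surjective {H : Type u} [AddCommGroup H] [Module A H] [Module.Finite A H]
    {t : A} (ht : t ∈ IsLocalRing.maximalIdeal A) (hs : Function.Surjective fun x : H => t • x) :
    Subsingleton H := by
  rw [← Submodule.subsingleton_iff A, ← subsingleton_iff_bot_eq_top]
  refine (Submodule.eq_bot_of_le_smul_of_le_jacobson_bot _ ⊤ Module.Finite.fg_top ?_
    (IsLocalRing.maximalIdeal_le_jacobson _)).symm
  intro x _
  obtain ⟨y, rfl⟩ := hs x
  exact Submodule.smul_mem_smul ht trivial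

/-- The element of `Γ(X, ⊤)` attached to a scalar kills the kernel of the closed fibre. -/
theorem ker_le_ann (q : X ⟶ Spec (CommRingCat.of A)) (F : X.Modules)
    (hF : ∀ a ∈ IsLocalRing.maximalIdeal A, Coh.toGlobal q a ∈ ann F) (U : X.affineOpens) (a : Γ(X, U.1))
    (ha : a ∈ (pullback.fst q (Spec.map (CommRingCat.ofHom (IsLocalRing.residue A)))).ker.ideal U)
    (s : Γ(F, U.1)) : a • s = 0 := by
  have : IsClosedImmersion (Spec.map (CommRingCat.ofHom (IsLocalRing.residue A))) :=
    IsClosedImmersion.spec_of_surjective _ IsLocalRing.residue_surjective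
  let T : (Spec (CommRingCat.of A)).affineOpens := ⟨⊤, isAffineOpen_top _⟩
  rw [Scheme.IdealSheafData.ker_fst_of_isClosedImmersion,
    EffCartier.comap_ideal _ q T U le_top] at ha
  induction ha using Submodule.span_induction with
  | zero => rw [zero_smul]
  | add x y _ _ hx hy => rw [add_smul, hx, hy, add_zero]
  | smul r x _ hx => rw [smul_eq_mul, mul_smul, hx, smul_zero]
  | mem x hx =>
    obtain ⟨b, hb, rfl⟩ := hx
    let b' : A := (Scheme.ΓSpecIso (CommRingCat.of A)).hom b
    have hb' : b' ∈ IsLocalRing.maximalIdeal A := by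
      rw [← IsLocalRing.residue_eq_zero_iff]
      have h0 : (Spec.map (CommRingCat.ofHom (IsLocalRing.residue A))).appTop b = 0 := by
        rw [Scheme.Hom.ker_apply] at hb
        exact hb
      have := congrArg (fun φ => φ b) (Scheme.ΓSpecIso_naturality (CommRingCat.ofHom (IsLocalRing.residue A)))
      exact this.symm.trans ((congrArg (Scheme.ΓSpecIso (CommRingCat.of (IsLocalRing.ResidueField A))).hom h0).trans
        (map_zero _))
    have h2 := smul_eq_zero_iff.1 (mem_ann.1 (hF b' hb')) U.1 s
    refine Eq.trans ?_ h2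
    congr 1
    show q.appLE ⊤ U.1 le_top b = M1.ores (le_top : U.1 ≤ ⊤) (Coh.toGlobal q b')
    have hb2 : Coh.toGlobal q b' = q.appTop b := by
      show q.appTop ((Scheme.ΓSpecIso (CommRingCat.of A)).inv b') = _
      rw [← CommRingCat.comp_apply (Scheme.ΓSpecIso _).hom, Iso.hom_inv_id]
      rfl
    rw [hb2]
    rfl

/-- Vanishing for all coherent modules over a local base. -/
theorem van_of_fibre (q : X ⟶ Spec (CommRingCat.of A)) [IsProper q]
    {L : X.Modules} (hL : PicF.IsInvertible L)
    (ha : CohB1.IsAmple ((Scheme.Modules.pullback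
      (pullback.fst q (Spec.map (CommRingCat.ofHom (IsLocalRing.residue A))))).obj L))
    (F : X.Modules) (hF : Coh.IsCoh F) : Van L F := by
  let φ : A →+* Γ(X, ⊤) := Coh.toGlobal q
  haveI := isNoetherian_of_isProper q
  suffices H : ∀ (J : Ideal A) (F : X.Modules), Coh.IsCoh F → J ≤ (ann F).comap φ → Van L F from
    H ⊥ F hF bot_le
  intro J
  induction J using WellFoundedGT.induction with
  | ind J IH =>
  intro F hF hJ
  by_cases hm : IsLocalRing.maximalIdeal A ≤ J
  · have : IsClosedImmersion (Spec.map (CommRingCat.ofHom (IsLocalRing.residue A))) :=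
      IsClosedImmersion.spec_of_surjective _ IsLocalRing.residue_surjective
    exact van_of_ker_kills _
      (pullback.fst q (Spec.map (CommRingCat.ofHom (IsLocalRing.residue A))) ≫ q) hL ha hF
      (ker_le_ann q F fun a h => hJ (hm h))
  obtain ⟨t, ht, htJ⟩ := SetLike.not_le_iff_exists.1 hm
  let J' := J ⊔ Ideal.span {t}
  have hJJ' : J < J' := lt_of_le_of_ne le_sup_left fun h => htJ <| by
    rw [h]; exact Submodule.mem_sup_right (Ideal.mem_span_singleton_self t)
  have hJ' : ∀ {G : X.Modules}, J ≤ (ann G).comap φ → smul G (φ t) = 0 → J' ≤ (ann G).comap φ :=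
    fun h1 h2 => sup_le h1 ((Ideal.span_singleton_le_iff_mem _).2 h2)
  let ψ : F ⟶ F := smul F (φ t)
  let K := kernel ψ
  have hK : Coh.IsCoh K := M1.isCoh_kernel hF hF.1 ψ
  let e : F ⟶ cokernel (kernel.ι ψ) := cokernel.π (kernel.ι ψ)
  have hI : Coh.IsCoh (cokernel (kernel.ι ψ)) := M1.isCoh_cokernel hK.1 hF _
  let m : cokernel (kernel.ι ψ) ⟶ F := Abelian.factorThruCoimage ψ
  have hem : e ≫ m = ψ := Abelian.coimage.fac ψ
  haveI : Mono m := inferInstanceAs (Mono (Abelian.factorThruCoimage ψ))
  let C := cokernel m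
  have hC : Coh.IsCoh C := M1.isCoh_cokernel hI.1 hF m
  have hKz : smul K (φ t) = 0 := by
    rw [← cancel_mono (kernel.ι ψ), smul_natural, kernel.condition, zero_comp]
  have hCz : smul C (φ t) = 0 := by
    rw [← cancel_epi (cokernel.π m), ← smul_natural, comp_zero]
    exact (congrArg (· ≫ cokernel.π m) hem.symm).trans
      (by rw [Category.assoc, cokernel.condition, comp_zero])
  have hKann : J ≤ (ann K).comap φ := hJ.trans (Ideal.comap_mono (ann_le_of_mono (kernel.ι ψ)))
  have hCann : J ≤ (ann C).comap φ := hJ.trans (Ideal.comap_mono (ann_le_of_epi (cokernel.π m)))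
  obtain ⟨n₁, h₁⟩ := IH J' hJJ' K hK (hJ' hKann hKz)
  obtain ⟨n₂, h₂⟩ := IH J' hJJ' C hC (hJ' hCann hCz)
  refine ⟨max n₁ n₂, fun n hn p hp => ?_⟩
  let E := CohB1.tensorPow L n
  have hE : PicF.IsInvertible E := Amp.isInvertible_tensorPow hL n
  have hS1 : (ShortComplex.mk (kernel.ι ψ) e (cokernel.condition _)).ShortExact :=
    ShortComplex.ShortExact.mk' (ShortComplex.exact_of_g_is_cokernel _ (cokernelIsCokernel _))
      inferInstance inferInstance
  have hS2 : (ShortComplex.mk m (cokernel.π m) (cokernel.condition _)).ShortExact :=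
    ShortComplex.ShortExact.mk' (ShortComplex.exact_of_g_is_cokernel _ (cokernelIsCokernel _))
      inferInstance inferInstance
  have hT1 := shortExact_abF (shortExact_tensor_invertible hS1 hE)
  have hT2 := shortExact_abF (shortExact_tensor_invertible hS2 hE)
  let H := Hc ((abF X).obj (CohB1.tensorMod F E)) p ⊤
  have hs1 : Function.Surjective (mp ((abF X).map (M2.tensorMap e (𝟙 E))) p ⊤) := fun y => by
    haveI := h₁ n (le_of_max_le_left hn) (p + 1) (Nat.succ_pos _)
    exact exact₃ hT1 p ⊤ y (@Subsingleton.elim _ this _ _)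
  have hs2 : Function.Surjective (mp ((abF X).map (M2.tensorMap m (𝟙 E))) p ⊤) := fun y => by
    haveI := h₂ n (le_of_max_le_right hn) p hp
    exact exact₂ hT2 p ⊤ y (@Subsingleton.elim _ this _ _)
  have hcomp : M2.tensorMap e (𝟙 E) ≫ M2.tensorMap m (𝟙 E) = smul (CohB1.tensorMod F E) (φ t) := by
    rw [← M2.tensorMap_comp, Category.id_comp, hem, tensorMap_smul]
  letI := hMod φ (CohB1.tensorMod F E) p ⊤
  haveI : Module.Finite A H := hFin_proper q _
    (isCoh_tensor hF (isCoh_of_isFinLocFree (M2.isFinLocFree_of_isInvertible hE))) p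
  refine subsingleton_of_smul_surjective (H := H) ht fun x => ?_
  obtain ⟨y, hy⟩ := hs2 x
  obtain ⟨z, hz⟩ := hs1 y
  refine ⟨z, ?_⟩
  show gMul (CohB1.tensorMod F E) (φ t) p ⊤ z = x
  unfold gMul
  rw [← abF_smul, ← hcomp, Functor.map_comp, mp_comp, hz, hy]

/-- Over a Noetherian local ring, ampleness on the closed fibre implies ampleness. -/
theorem isAmple_of_closedFibre (q : X ⟶ Spec (CommRingCat.of A)) [IsProper q]
    {L : X.Modules} (hL : PicF.IsInvertible L)
    (ha : CohB1.IsAmple ((Scheme.Modules.pullback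
      (pullback.fst q (Spec.map (CommRingCat.ofHom (IsLocalRing.residue A))))).obj L)) :
    CohB1.IsAmple L := by
  haveI := isNoetherian_of_isProper q
  refine isAmple_of_vanishing hL fun M hM => ?_
  obtain ⟨n₀, hn₀⟩ := van_of_fibre q hL ha M hM
  exact ⟨n₀, fun n hn => hn₀ n hn 1 Nat.one_pos⟩

end Groth.Agent.AmpleFib
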