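import Mathlib.RingTheory.LocalRing.ResidueField.Ideal
import Mathlib.RingTheory.Spectrum.Prime.Chevalley
import Mathlib.RingTheory.RingHom.FinitePresentation
import Mathlib.AlgebraicGeometry.Limits
import Mathlib.AlgebraicGeometry.AffineTransitionLimit
import Mathlib.CategoryTheory.Limits.Types.Filtered

/-!
# A residue field as the colimit of constructible affine neighbourhoods of the point
-/

universe u

open CategoryTheory CategoryTheory.Limits AlgebraicGeometry Opposite

set_option backward.isDefEq.respectTransparency false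
set_option linter.style.haveILetI false

noncomputable section

namespace Groth.Agent.AmpleFib.PointLim

variable (A : Type u) [CommRing A] (p : Ideal A) [p.IsPrime]

/-- Finitely many equations and inequations satisfied at the point. -/
abbrev Idx : Type u := {x : Finset A × Finset A // (∀ a ∈ x.1, a ∈ p) ∧ ∀ a ∈ x.2, a ∉ p}

instance : Nonempty (Idx A p) := ⟨⟨(∅, ∅), by simp, by simp⟩⟩

instance : IsDirected (Idx A p) (· ≤ ·) := ⟨fun x y => by
  classical
  refine ⟨⟨(x.1.1 ∪ y.1.1, x.1.2 ∪ y.1.2), fun a ha => ?_, fun a ha => ?_⟩,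
    ⟨Finset.subset_union_left, Finset.subset_union_left⟩, ⟨Finset.subset_union_right, Finset.subset_union_right⟩⟩
  · exact (Finset.mem_union.1 ha).elim (x.2.1 a) (y.2.1 a)
  · exact (Finset.mem_union.1 ha).elim (x.2.2 a) (y.2.2 a)⟩

variable {A p}

/-- The product of the inequations. -/
def den (x : Idx A p) : A := ∏ a ∈ x.1.2, a

theorem den_not_mem (x : Idx A p) : den x ∉ p := fun h => by
  obtain ⟨a, ha, hap⟩ := (Ideal.IsPrime.prod_mem_iff).1 h
  exact x.2.2 a ha hap

/-- The equations. -/
def eqs (x : Idx A p) : Ideal A := Ideal.span (x.1.1 : Set A)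

/-- The ring of the locally closed neighbourhood. -/
abbrev Rg (x : Idx A p) : Type u := Localization.Away (Ideal.Quotient.mk (eqs x) (den x))

/-- Its structure map. -/
def str (x : Idx A p) : A →+* Rg x := (algebraMap (A ⧸ eqs x) (Rg x)).comp (Ideal.Quotient.mk (eqs x))

theorem str_eq_zero (x : Idx A p) {a : A} (ha : a ∈ x.1.1) : str x a = 0 := by
  have h : a ∈ eqs x := Ideal.subset_span ha
  rw [str, RingHom.comp_apply, Ideal.Quotient.eq_zero_iff_mem.2 h, map_zero]

theorem isUnit_str_den (x : Idx A p) : IsUnit (str x (den x)) :=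
  IsLocalization.Away.algebraMap_isUnit (Ideal.Quotient.mk (eqs x) (den x))

theorem isUnit_str (x : Idx A p) {a : A} (ha : a ∈ x.1.2) : IsUnit (str x a) :=
  isUnit_of_dvd_unit (map_dvd (str x) (Finset.dvd_prod_of_mem _ ha)) (isUnit_str_den x)

/-- The universal property. -/
def lift (x : Idx A p) {B : Type u} [CommRing B] (φ : A →+* B) (h0 : ∀ a ∈ x.1.1, φ a = 0)
    (h1 : ∀ a ∈ x.1.2, IsUnit (φ a)) : Rg x →+* B :=
  IsLocalization.Away.lift (Ideal.Quotient.mk (eqs x) (den x))
    (g := Ideal.Quotient.lift (eqs x) φ fun a ha =>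
      (Ideal.span_le (I := RingHom.ker φ)).2
        (show (x.1.1 : Set A) ⊆ RingHom.ker φ from fun b hb => h0 b hb) ha)
    (by rw [Ideal.Quotient.lift_mk, den, map_prod]; exact IsUnit.prod_iff.2 h1)

theorem lift_str (x : Idx A p) {B : Type u} [CommRing B] (φ : A →+* B) (h0 : ∀ a ∈ x.1.1, φ a = 0)
    (h1 : ∀ a ∈ x.1.2, IsUnit (φ a)) : (lift x φ h0 h1).comp (str x) = φ := by
  rw [lift, str, ← RingHom.comp_assoc, IsLocalization.Away.lift_comp]
  rfl

theorem hom_ext (x : Idx A p) {B : Type u} [CommRing B] {φ ψ : Rg x →+* B} (h : φ.comp (str x) = ψ.comp (str x)) :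
    φ = ψ :=
  IsLocalization.ringHom_ext (Submonoid.powers (Ideal.Quotient.mk (eqs x) (den x))) (Ideal.Quotient.ringHom_ext h)

/-- Transition maps. -/
def trans {x y : Idx A p} (h : x ≤ y) : Rg x →+* Rg y :=
  lift x (str y) (fun a ha => str_eq_zero y (h.1 ha)) fun a ha => isUnit_str y (h.2 ha)

theorem trans_str {x y : Idx A p} (h : x ≤ y) : (trans h).comp (str x) = str y := lift_str ..

/-- The map to the residue field. -/
def toPt (x : Idx A p) : Rg x →+* p.ResidueField :=
  lift x (algebraMap A p.ResidueField) (fun a ha => Ideal.algebraMap_residueField_eq_zero.2 (x.2.1 a ha))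
    fun a ha => isUnit_iff_ne_zero.2 fun h => x.2.2 a ha (Ideal.algebraMap_residueField_eq_zero.1 h)

theorem toPt_str (x : Idx A p) : (toPt x).comp (str x) = algebraMap A p.ResidueField := lift_str ..

variable (A p)

/-- The system of rings. -/
def ringFun : Idx A p ⥤ CommRingCat.{u} where
  obj x := CommRingCat.of (Rg x)
  map h := CommRingCat.ofHom (trans h.le)
  map_id x := by
    refine CommRingCat.hom_ext (hom_ext x ?_)
    change (trans (le_refl x)).comp (str x) = (RingHom.id _).comp (str x)
    rw [trans_str, RingHom.id_comp]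
  map_comp {x y z} a b := by
    refine CommRingCat.hom_ext (hom_ext x ?_)
    change (trans (a ≫ b).le).comp (str x) = ((trans b.le).comp (trans a.le)).comp (str x)
    rw [RingHom.comp_assoc, trans_str, trans_str, trans_str]

/-- The residue field as a cocone. -/
def cocone : Cocone (ringFun A p) where
  pt := CommRingCat.of p.ResidueField
  ι :=
    { app := fun x => CommRingCat.ofHom (toPt x)
      naturality := fun x y a => by
        refine CommRingCat.hom_ext (hom_ext x ?_)
        change ((toPt y).comp (trans a.le)).comp (str x) = (toPt x).comp (str x)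
        rw [RingHom.comp_assoc, trans_str]
        exact (lift_str ..).trans (lift_str ..).symm }

/-- The residue field is the colimit. -/
def isColimitCocone : IsColimit (cocone A p) := by
  classical
  haveI : IsFiltered (Idx A p) := isFiltered_of_directed_le_nonempty _
  haveI : ReflectsColimit (ringFun A p) (forget CommRingCat.{u}) := reflectsColimit_of_reflectsIsomorphisms _ _
  have hpt : ∀ (x : Idx A p) (a : A), toPt x (str x a) = algebraMap A p.ResidueField a := fun x a =>
    congrArg (fun φ : A →+* p.ResidueField => φ a) (toPt_str x)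
  refine isColimitOfReflects (forget CommRingCat.{u}) (Types.FilteredColimit.isColimitOf' _ _ ?_ ?_)
  · intro (z : p.ResidueField)
    obtain ⟨a, b, hb, rfl⟩ := IsFractionRing.div_surjective (A ⧸ p) z
    obtain ⟨a, rfl⟩ := Ideal.Quotient.mk_surjective a
    obtain ⟨b, rfl⟩ := Ideal.Quotient.mk_surjective b
    have hbp : b ∉ p := fun h => nonZeroDivisors.ne_zero hb (Ideal.Quotient.eq_zero_iff_mem.2 h)
    let x : Idx A p := ⟨(∅, {b}), by simp, by simpa using hbp⟩
    have hu : IsUnit (str x b) := isUnit_str x (Finset.mem_singleton_self b)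
    refine ⟨x, (show Rg x from str x a * ↑hu.unit⁻¹), ?_⟩
    show _ = toPt x (str x a * ↑hu.unit⁻¹)
    have h1 : toPt x ↑hu.unit⁻¹ * algebraMap A p.ResidueField b = 1 := by
      rw [← hpt x b, ← map_mul, IsUnit.val_inv_mul, map_one]
    rw [map_mul, hpt, eq_inv_of_mul_eq_one_left h1, ← div_eq_mul_inv]
    rfl
  · intro x (r : Rg x) (r' : Rg x) (h : toPt x r = toPt x r')
    obtain ⟨n, w, hw⟩ := IsLocalization.Away.surj (Ideal.Quotient.mk (eqs x) (den x)) (r - r')
    obtain ⟨w, rfl⟩ := Ideal.Quotient.mk_surjective w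
    have hw' : (r - r') * str x (den x) ^ n = str x w := hw
    have hwp : w ∈ p := by
      refine Ideal.algebraMap_residueField_eq_zero.1 ?_
      rw [← hpt x w, ← hw', map_mul, map_sub, h, sub_self, zero_mul]
    let y : Idx A p := ⟨(insert w x.1.1, x.1.2),
      fun a ha => (Finset.mem_insert.1 ha).elim (fun e => e ▸ hwp) (x.2.1 a), x.2.2⟩
    have hxy : x ≤ y := ⟨Finset.subset_insert _ _, le_rfl⟩
    have hs : ∀ a, trans hxy (str x a) = str y a := fun a =>
      congrArg (fun φ : A →+* Rg y => φ a) (trans_str hxy)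
    refine ⟨y, homOfLE hxy, ?_⟩
    show trans hxy r = trans hxy r'
    have := congrArg (trans hxy) hw'
    rw [map_mul, map_pow, hs, hs, str_eq_zero y (a := w) (Finset.mem_insert_self w x.1.1)] at this
    exact sub_eq_zero.1 ((map_sub (trans hxy) r r') ▸ ((((isUnit_str_den y).pow n).mul_left_eq_zero).1 this))

/-- The system of neighbourhoods. -/
def diag : (Idx A p)ᵒᵖ ⥤ Scheme.{u} := (ringFun A p).op ⋙ Scheme.Spec

/-- The point as a cone. -/
def cone : Cone (diag A p) := Scheme.Spec.mapCone (cocone A p).op

/-- The point is the limit of its neighbourhoods. -/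
def isLimitCone : IsLimit (cone A p) := isLimitOfPreserves Scheme.Spec (isColimitCocone A p).op

/-- The inclusion of a neighbourhood. -/
def incl (x : (Idx A p)ᵒᵖ) : (diag A p).obj x ⟶ Spec (CommRingCat.of A) := Spec.map (CommRingCat.ofHom (str x.unop))

theorem map_incl {x y : (Idx A p)ᵒᵖ} (a : x ⟶ y) : (diag A p).map a ≫ incl A p y = incl A p x := by
  refine (Spec.map_comp _ _).symm.trans ?_
  exact congrArg Spec.map (CommRingCat.hom_ext (trans_str a.unop.le))

theorem cone_incl (x : (Idx A p)ᵒᵖ) :
    (cone A p).π.app x ≫ incl A p x = Spec.map (CommRingCat.ofHom (algebraMap A p.ResidueField)) := by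
  refine (Spec.map_comp _ _).symm.trans ?_
  exact congrArg Spec.map (CommRingCat.hom_ext (toPt_str x.unop))

instance isAffineHom_map {x y : (Idx A p)ᵒᵖ} (a : x ⟶ y) : IsAffineHom ((diag A p).map a) :=
  inferInstanceAs (IsAffineHom (Spec.map _))

instance compactSpace_obj (x : (Idx A p)ᵒᵖ) : CompactSpace ((diag A p).obj x) :=
  inferInstanceAs (CompactSpace (Spec _))

/-- The neighbourhoods are constructible. -/
theorem isConstructible_range_incl (x : (Idx A p)ᵒᵖ) :
    Topology.IsConstructible (Set.range (incl A p x)) := by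
  refine PrimeSpectrum.isConstructible_range_comap (S := Rg x.unop) (f := (algebraMap (A ⧸ eqs x.unop) (Rg x.unop)).comp
    (Ideal.Quotient.mk (eqs x.unop))) ?_
  refine RingHom.FinitePresentation.comp ?_ ?_
  · haveI := IsLocalization.Away.finitePresentation (S := Rg x.unop) (Ideal.Quotient.mk (eqs x.unop) (den x.unop))
    exact RingHom.finitePresentation_algebraMap.2 inferInstance
  · refine RingHom.FinitePresentation.of_surjective _ Ideal.Quotient.mk_surjective ?_
    rw [Ideal.mk_ker]
    exact ⟨x.unop.1.1, rfl⟩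

/-- The point lies in every neighbourhood. -/
theorem mem_range_incl (x : (Idx A p)ᵒᵖ) :
    (⟨p, inferInstance⟩ : PrimeSpectrum A) ∈ Set.range (incl A p x) := by
  refine ⟨(cone A p).π.app x (⊥ : PrimeSpectrum p.ResidueField), ?_⟩
  show incl A p x ((cone A p).π.app x _) = _
  rw [← Scheme.Hom.comp_apply, cone_incl]
  exact PrimeSpectrum.ext (Ideal.ker_algebraMap_residueField p)

end Groth.Agent.AmpleFib.PointLim
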