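import Groth.Agent.Lib.AmpleFib.IndCons
import Groth.Agent.Lib.RelAmple18.Ops
import Groth.Agent.Lib.LimShf14.Pic
import Groth.Agent.S2074

/-!
# The loci of (quasi-)projective fibres
-/

universe u

open CategoryTheory CategoryTheory.Limits AlgebraicGeometry Opposite Topology

set_option backward.isDefEq.respectTransparency false
set_option linter.style.haveILetI false

namespace Groth.Agent.AmpleFib

/-- Some module is relatively ample. -/
def HasAmple {X Y : Scheme.{u}} (f : X ⟶ Y) : Prop := ∃ L : X.Modules, RelAmple.IsRelAmple f L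

theorem HasAmple.of_isPullback {X Y X' Y' : Scheme.{u}} {f : X ⟶ Y} {f' : X' ⟶ Y'} {w : X' ⟶ X} {v : Y' ⟶ Y}
    (h : IsPullback w f' f v) (hf : HasAmple f) : HasAmple f' :=
  hf.elim fun L hL => ⟨(Scheme.Modules.pullback w).obj L, haveI : QuasiCompact f := hL.1
    RA.isRelAmple_of_isPullback h hL⟩

variable {X Y S : Scheme.{u}} (f : X ⟶ Y) (g : Y ⟶ S)

/-- A property of the base change of `f` over a point of the base, stable under base change, passes to finer points. -/
theorem prop_pt (Pr : ∀ {A B : Scheme.{u}}, (A ⟶ B) → Prop)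
    (hPr : ∀ {A B A' B' : Scheme.{u}} {a : A ⟶ B} {a' : A' ⟶ B'} {w : A' ⟶ A} {v : B' ⟶ B},
      IsPullback w a' a v → Pr a → Pr a')
    {T T' : Scheme.{u}} (t : T ⟶ S) (t' : T' ⟶ S) (u : T' ⟶ T) (hu : u ≫ t = t') {YT XT YT' XT' : Scheme.{u}}
    {pY : YT ⟶ Y} {gT : YT ⟶ T} {fT : XT ⟶ YT} {pX : XT ⟶ X} {pY' : YT' ⟶ Y} {gT' : YT' ⟶ T'} {fT' : XT' ⟶ YT'}
    {pX' : XT' ⟶ X} (hY : IsPullback pY gT g t) (hX : IsPullback pX fT f pY) (hY' : IsPullback pY' gT' g t')
    (hX' : IsPullback pX' fT' f pY') (h : Pr fT) : Pr fT' := by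
  have wY : pY' ≫ g = (gT' ≫ u) ≫ t := by rw [hY'.w, Category.assoc, hu]
  have wX : pX' ≫ f = (fT' ≫ hY.lift pY' (gT' ≫ u) wY) ≫ pY := by rw [hX'.w, Category.assoc, hY.lift_fst]
  refine hPr (w := hX.lift pX' (fT' ≫ hY.lift pY' (gT' ≫ u) wY) wX) (v := hY.lift pY' (gT' ≫ u) wY) ?_ h
  refine IsPullback.of_right ?_ (hX.lift_snd _ _ wX) hX
  rw [hX.lift_fst, hY.lift_fst]
  exact hX'

/-- The fibre of the statement is a base change of `f`. -/
theorem fibre_isPullback (t : Scheme.{u}) (s : t ⟶ S) :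
    IsPullback (pullback.fst (f ≫ g) s)
      (pullback.lift (pullback.fst (f ≫ g) s ≫ f) (pullback.snd (f ≫ g) s) ((Category.assoc _ _ _).trans pullback.condition) :
        pullback (f ≫ g) s ⟶ pullback g s) f (pullback.fst g s) := by
  refine IsPullback.of_bot ?_ (pullback.lift_fst _ _ _).symm (IsPullback.of_hasPullback g _)
  rw [pullback.lift_snd]
  exact IsPullback.of_hasPullback _ _

/-- An immersion does not change residue fields. -/
theorem isIso_residueFieldMap {Z W : Scheme.{u}} (σ : Z ⟶ W) [IsPreimmersion σ] (z : Z) :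
    IsIso (σ.residueFieldMap z) := by
  refine (ConcreteCategory.isIso_iff_bijective _).2 ⟨RingHom.injective _, fun y => ?_⟩
  obtain ⟨x, rfl⟩ := Z.residue_surjective z y
  obtain ⟨x', rfl⟩ := σ.stalkMap_surjective z x
  exact ⟨W.residue (σ z) x', rfl⟩

/-- The neighbourhoods are subschemes. -/
theorem PointLim.isPreimmersion_incl (A : Type u) [CommRing A] (p : Ideal A) [p.IsPrime]
    (x : (PointLim.Idx A p)ᵒᵖ) : IsPreimmersion (PointLim.incl A p x) := by
  haveI : IsClosedImmersion (Spec.map (CommRingCat.ofHom (Ideal.Quotient.mk (PointLim.eqs x.unop)))) :=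
    IsClosedImmersion.spec_of_surjective _ Ideal.Quotient.mk_surjective
  haveI : IsOpenImmersion (Spec.map (CommRingCat.ofHom
      (algebraMap (A ⧸ PointLim.eqs x.unop) (PointLim.Rg x.unop)))) :=
    IsOpenImmersion.of_isLocalization (Ideal.Quotient.mk (PointLim.eqs x.unop) (PointLim.den x.unop))
  rw [show PointLim.incl A p x = Spec.map (CommRingCat.ofHom
      (algebraMap (A ⧸ PointLim.eqs x.unop) (PointLim.Rg x.unop))) ≫
      Spec.map (CommRingCat.ofHom (Ideal.Quotient.mk (PointLim.eqs x.unop))) from by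
    rw [← Spec.map_comp]; rfl]
  infer_instance

variable {I : Type u} [SmallCategory I] [IsCofiltered I] {D : I ⥤ Scheme.{u}} {c : Cone D} {i₀ : I}

/-- Quasi-projectivity over a limit comes from a stage. -/
theorem exists_stage_hasAmple (hc : IsLimit c) [∀ (i j : I) (a : i ⟶ j), IsAffineHom (D.map a)]
    [∀ i, CompactSpace (D.obj i)] [∀ i, QuasiSeparatedSpace (D.obj i)]
    {X₀ Y₀ : Scheme.{u}} (f₀ : X₀ ⟶ Y₀) (g₀ : Y₀ ⟶ D.obj i₀) [QuasiCompact g₀] [QuasiSeparated g₀]
    [QuasiCompact f₀] [QuasiSeparated f₀] {X Y : Scheme.{u}} (f : X ⟶ Y) (g : Y ⟶ c.pt) (qY : Y ⟶ Y₀) (qX : X ⟶ X₀)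
    (hY : IsPullback qY g g₀ (c.π.app i₀)) (hX : IsPullback qX f f₀ qY) (h : HasAmple f) :
    ∃ (j : I) (φ : j ⟶ i₀) (Xj Yj : Scheme.{u}) (fj : Xj ⟶ Yj) (gj : Yj ⟶ D.obj j) (pY : Yj ⟶ Y₀)
      (pX : Xj ⟶ X₀), IsPullback pY gj g₀ (D.map φ) ∧ IsPullback pX fj f₀ pY ∧ HasAmple fj := by
  obtain ⟨L, hL⟩ := h
  haveI : QuasiCompact f := hL.1
  haveI : IsConnected (Over i₀) := IsCofiltered.isConnected _
  let c' : Cone (Over.forget i₀ ⋙ D) := c.whisker (Over.forget i₀)
  have hc' : IsLimit c' := (Functor.Initial.isLimitWhiskerEquiv (Over.forget i₀) c).symm hc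
  let t := Descend.overT D i₀
  have hq : ∀ k, c'.π.app k ≫ t.app k = c.π.app i₀ := fun k => c.w k.hom
  have hP : IsPullback qX (f ≫ g) (f₀ ≫ g₀) (c.π.app i₀) := hX.paste_vert hY
  let DX := Descend.pbDiagram (Over.forget i₀ ⋙ D) t (f₀ ≫ g₀)
  let cX := Descend.pbCone (Over.forget i₀ ⋙ D) t (f₀ ≫ g₀) c' hq hP
  have hcX : IsLimit cX := Descend.pbIsLimit (Over.forget i₀ ⋙ D) t (f₀ ≫ g₀) c' hq hP hc'
  haveI : ∀ i j (a : i ⟶ j), IsAffineHom (DX.map a) := fun i j a => inferInstance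
  haveI : CompactSpace X₀ := QuasiCompact.compactSpace_of_compactSpace (f₀ ≫ g₀)
  haveI : QuasiSeparatedSpace X₀ := quasiSeparatedSpace_of_quasiSeparated (f₀ ≫ g₀)
  haveI : ∀ k, IsAffineHom (t.app k) := fun k => inferInstanceAs (IsAffineHom (D.map k.hom))
  haveI : ∀ k, CompactSpace (DX.obj k) := fun k =>
    QuasiCompact.compactSpace_of_compactSpace (pullback.fst (f₀ ≫ g₀) (t.app k))
  haveI : ∀ k, QuasiSeparatedSpace (DX.obj k) := fun k =>
    quasiSeparatedSpace_of_quasiSeparated (pullback.fst (f₀ ≫ g₀) (t.app k))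
  obtain ⟨k, ⟨m, M, hM, hMinv⟩, hk⟩ := LimShf14.exists_picSet_rep DX cX hcX
    ⟨PicF.cl L, L, rfl, RA.isInvertible_of_isRelAmple f hL⟩
  subst hM
  obtain ⟨eM⟩ := LimShf14.iso_of_cl_eq (L := (Scheme.Modules.pullback (cX.π.app k)).obj M) (M := L) hk
  let gk : pullback g₀ (t.app k) ⟶ D.obj k.left := pullback.snd g₀ (t.app k)
  let fk : DX.obj k ⟶ pullback g₀ (t.app k) :=
    pullback.lift (pullback.fst (f₀ ≫ g₀) (t.app k) ≫ f₀) (pullback.snd _ _)
      ((Category.assoc _ _ _).trans pullback.condition)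
  have hfk : IsPullback (pullback.fst (f₀ ≫ g₀) (t.app k)) fk f₀ (pullback.fst g₀ (t.app k)) :=
    fibre_isPullback f₀ g₀ _ (t.app k)
  haveI : QuasiCompact fk := MorphismProperty.of_isPullback (P := @QuasiCompact) hfk inferInstance
  haveI : QuasiCompact gk := MorphismProperty.pullback_snd _ _ inferInstance
  haveI : QuasiSeparated gk := MorphismProperty.pullback_snd _ _ inferInstance
  haveI : QuasiSeparated fk := MorphismProperty.of_isPullback (P := @QuasiSeparated) hfk inferInstance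
  have wY : qY ≫ g₀ = (g ≫ c.π.app k.left) ≫ t.app k := by
    rw [hY.w, Category.assoc]; exact congrArg _ (hq k).symm
  let qY' : Y ⟶ pullback g₀ (t.app k) := pullback.lift qY (g ≫ c.π.app k.left) wY
  have hY' : IsPullback qY' g gk (c.π.app k.left) := by
    refine IsPullback.of_right ?_ (pullback.lift_snd _ _ _) (IsPullback.of_hasPullback g₀ (t.app k))
    rw [pullback.lift_fst, show c.π.app k.left ≫ t.app k = c.π.app i₀ from hq k]
    exact hY
  have hX' : IsPullback (cX.π.app k) f fk qY' := by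
    have h1 : cX.π.app k ≫ pullback.fst (f₀ ≫ g₀) (t.app k) = qX := pullback.lift_fst _ _ _
    have h2 : cX.π.app k ≫ pullback.snd (f₀ ≫ g₀) (t.app k) = (f ≫ g) ≫ c.π.app k.left := pullback.lift_snd _ _ _
    refine IsPullback.of_right ?_ ?_ hfk
    · rw [h1, pullback.lift_fst]; exact hX
    · refine pullback.hom_ext ?_ ?_
      · simp only [fk, qY', Category.assoc, pullback.lift_fst]
        rw [← Category.assoc, h1]; exact hX.w
      · simp only [fk, qY', Category.assoc, pullback.lift_snd]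
        rw [h2, Category.assoc]
  obtain ⟨j, φ, Xj, Yj, fj, gj, pY, pX, hYj, hXj, hj⟩ := exists_stage_isRelAmple hc fk gk hMinv f g qY' (cX.π.app k)
    hY' hX' (isRelAmple_iso_congr eM.symm hL)
  exact ⟨j, φ ≫ k.hom, Xj, Yj, fj, gj, pY ≫ pullback.fst _ _, pX ≫ pullback.fst _ _,
    by rw [D.map_comp]; exact hYj.paste_horiz (IsPullback.of_hasPullback g₀ (t.app k)),
    hXj.paste_horiz hfk, ⟨_, hj⟩⟩

/-- The fibre property: an ample module and, when asked, properness. -/
def QPProp (b : Prop) {X Y : Scheme.{u}} (f : X ⟶ Y) : Prop := HasAmple f ∧ (b → IsProper f)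

theorem QPProp.of_isPullback {b : Prop} {X Y X' Y' : Scheme.{u}} {f : X ⟶ Y} {f' : X' ⟶ Y'} {w : X' ⟶ X}
    {v : Y' ⟶ Y} (h : IsPullback w f' f v) (hf : QPProp b f) : QPProp b f' :=
  ⟨hf.1.of_isPullback h, fun hb => MorphismProperty.of_isPullback (P := @IsProper) h (hf.2 hb)⟩

/-- A property of fibres stable under base change and coming from stages holds on constructible neighbourhoods. -/
theorem exists_constructible_prop {X Y S : Scheme.{u}} (f : X ⟶ Y) (g : Y ⟶ S) [LocallyOfFiniteType f]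
    [QuasiCompact f] [QuasiSeparated f] [QuasiCompact g] [QuasiSeparated g] (Pr : ∀ {A B : Scheme.{u}}, (A ⟶ B) → Prop)
    (hPr : ∀ {A B A' B' : Scheme.{u}} {a : A ⟶ B} {a' : A' ⟶ B'} {w : A' ⟶ A} {v : B' ⟶ B},
      IsPullback w a' a v → Pr a → Pr a')
    (hstage : ∀ {I : Type u} [SmallCategory I] [IsCofiltered I] {D : I ⥤ Scheme.{u}} {c : Cone D} {i₀ : I},
      IsLimit c → (∀ (i j : I) (a : i ⟶ j), IsAffineHom (D.map a)) → (∀ i, CompactSpace (D.obj i)) →
      (∀ i, QuasiSeparatedSpace (D.obj i)) → ∀ {X₀ Y₀ : Scheme.{u}} (f₀ : X₀ ⟶ Y₀) (g₀ : Y₀ ⟶ D.obj i₀),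
      QuasiCompact g₀ → QuasiSeparated g₀ → QuasiCompact f₀ → QuasiSeparated f₀ → LocallyOfFiniteType f₀ →
      ∀ {X Y : Scheme.{u}} (f : X ⟶ Y) (g : Y ⟶ c.pt) (qY : Y ⟶ Y₀) (qX : X ⟶ X₀),
      IsPullback qY g g₀ (c.π.app i₀) → IsPullback qX f f₀ qY → Pr f →
      ∃ (j : I) (φ : j ⟶ i₀) (Xj Yj : Scheme.{u}) (fj : Xj ⟶ Yj) (gj : Yj ⟶ D.obj j) (pY : Yj ⟶ Y₀)
        (pX : Xj ⟶ X₀), IsPullback pY gj g₀ (D.map φ) ∧ IsPullback pX fj f₀ pY ∧ Pr fj)
    (A : CommRingCat.{u}) (σ : Spec A ⟶ S) [IsOpenImmersion σ] (p : Spec A)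
    (hp : Pr (pullback.snd f (pullback.fst g (S.fromSpecResidueField (σ p))))) :
    ∃ C : Set (Spec A), Topology.IsConstructible C ∧ p ∈ C ∧
      ∀ q ∈ C, Pr (pullback.snd f (pullback.fst g (S.fromSpecResidueField (σ q)))) := by
  let P : Ideal A := p.asIdeal
  haveI : P.IsPrime := p.isPrime
  let κ := Spec (CommRingCat.of P.ResidueField)
  let q₀ : κ ⟶ S := Spec.map (CommRingCat.ofHom (algebraMap A P.ResidueField)) ≫ σ
  have hq₀ : q₀ (IsLocalRing.closedPoint P.ResidueField) = σ p := by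
    refine (Scheme.Hom.comp_apply _ _ _).trans (congrArg σ (PrimeSpectrum.ext ?_))
    show Ideal.comap _ (IsLocalRing.maximalIdeal _) = _
    rw [IsLocalRing.maximalIdeal_eq_bot]
    exact Ideal.ker_algebraMap_residueField P
  let χ : S.residueField (q₀ (IsLocalRing.closedPoint P.ResidueField)) ⟶ CommRingCat.of P.ResidueField :=
    Scheme.descResidueField (Scheme.stalkClosedPointTo q₀)
  have hK : Pr (pullback.snd f (pullback.fst g q₀)) := by
    rw [← hq₀] at hp
    exact prop_pt f g Pr (fun h ha => hPr h ha) _ q₀ (Spec.map χ)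
      (Scheme.descResidueField_stalkClosedPointTo_fromSpecResidueField P.ResidueField _ q₀)
      (IsPullback.of_hasPullback _ _) (IsPullback.of_hasPullback _ _)
      (IsPullback.of_hasPullback _ _) (IsPullback.of_hasPullback _ _) hp
  let D := PointLim.diag A P
  let c := PointLim.cone A P
  let o : (PointLim.Idx A P)ᵒᵖ := op ⟨(∅, ∅), by simp, by simp⟩
  let σ₀ : D.obj o ⟶ S := PointLim.incl A P o ≫ σ
  let g₀ := pullback.snd g σ₀
  let qY₀ := pullback.fst g σ₀
  let f₀ := pullback.snd f qY₀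
  let qX₀ := pullback.fst f qY₀
  haveI : IsFiltered (PointLim.Idx A P) := isFiltered_of_directed_le_nonempty _
  haveI : ∀ i, CompactSpace (D.obj i) := fun i => PointLim.compactSpace_obj A P i
  haveI : ∀ i, QuasiSeparatedSpace (D.obj i) := fun i => inferInstanceAs (QuasiSeparatedSpace (Spec _))
  haveI : ∀ i j (a : i ⟶ j), IsAffineHom (D.map a) := fun i j a => PointLim.isAffineHom_map A P a
  have hcq : c.π.app o ≫ σ₀ = q₀ := by
    show c.π.app o ≫ PointLim.incl A P o ≫ σ = _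
    rw [← Category.assoc, PointLim.cone_incl]
  have hYp : IsPullback (pullback.fst g₀ (c.π.app o) ≫ qY₀) (pullback.snd g₀ (c.π.app o)) g q₀ := by
    rw [← hcq]
    exact (IsPullback.of_hasPullback g₀ (c.π.app o)).paste_horiz (IsPullback.of_hasPullback g σ₀)
  have hXp : IsPullback (pullback.fst f₀ (pullback.fst g₀ (c.π.app o)) ≫ qX₀)
      (pullback.snd f₀ (pullback.fst g₀ (c.π.app o))) f (pullback.fst g₀ (c.π.app o) ≫ qY₀) :=
    (IsPullback.of_hasPullback f₀ _).paste_horiz (IsPullback.of_hasPullback f qY₀)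
  have hlim : Pr (pullback.snd f₀ (pullback.fst g₀ (c.π.app o))) :=
    prop_pt f g Pr (fun h ha => hPr h ha) q₀ q₀ (𝟙 _) (Category.id_comp _)
      (IsPullback.of_hasPullback _ _) (IsPullback.of_hasPullback _ _) hYp hXp hK
  haveI : LocallyOfFiniteType f₀ := MorphismProperty.pullback_snd _ _ inferInstance
  haveI : QuasiCompact f₀ := MorphismProperty.pullback_snd _ _ inferInstance
  haveI : QuasiSeparated f₀ := MorphismProperty.pullback_snd _ _ inferInstance
  haveI : QuasiCompact g₀ := MorphismProperty.pullback_snd _ _ inferInstance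
  haveI : QuasiSeparated g₀ := MorphismProperty.pullback_snd _ _ inferInstance
  obtain ⟨j, φ, Xj, Yj, fj, gj, pY, pX, hYj, hXj, hj⟩ := hstage (PointLim.isLimitCone A P) ‹_› ‹_› ‹_› f₀ g₀
    inferInstance inferInstance inferInstance inferInstance inferInstance _ _ _ _
    (IsPullback.of_hasPullback g₀ (c.π.app o)) (IsPullback.of_hasPullback f₀ _) hlim
  refine ⟨Set.range (PointLim.incl A P j), PointLim.isConstructible_range_incl A P j,
    PointLim.mem_range_incl A P j, ?_⟩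
  rintro _ ⟨z, rfl⟩
  let σj : D.obj j ⟶ S := PointLim.incl A P j ≫ σ
  have hσj : D.map φ ≫ σ₀ = σj := by
    show D.map φ ≫ PointLim.incl A P o ≫ σ = _
    rw [← Category.assoc, PointLim.map_incl]
  have hYj' : IsPullback (pY ≫ qY₀) gj g σj := hσj ▸ hYj.paste_horiz (IsPullback.of_hasPullback g σ₀)
  have hXj' : IsPullback (pX ≫ qX₀) fj f (pY ≫ qY₀) := hXj.paste_horiz (IsPullback.of_hasPullback f qY₀)
  haveI : IsPreimmersion (PointLim.incl A P j) := PointLim.isPreimmersion_incl A P j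
  haveI : IsIso (σj.residueFieldMap z) := isIso_residueFieldMap σj z
  exact prop_pt f g Pr (fun h ha => hPr h ha) σj (S.fromSpecResidueField (σj z))
    (inv (Spec.map (σj.residueFieldMap z)) ≫ (D.obj j).fromSpecResidueField z)
    (by rw [Category.assoc, IsIso.inv_comp_eq]; exact (Scheme.Hom.SpecMap_residueFieldMap_fromSpecResidueField σj z).symm)
    hYj' hXj' (IsPullback.of_hasPullback _ _) (IsPullback.of_hasPullback _ _) hj

/-- Around every point with (quasi-)projective fibre there is a constructible set of such points. -/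
theorem exists_constructible_qp {X Y S : Scheme.{u}} (f : X ⟶ Y) (g : Y ⟶ S) [LocallyOfFiniteType f]
    [QuasiCompact f] [QuasiSeparated f] [QuasiCompact g] [QuasiSeparated g] (b : Prop)
    (A : CommRingCat.{u}) (σ : Spec A ⟶ S) [IsOpenImmersion σ] (p : Spec A)
    (hp : QPProp b (pullback.snd f (pullback.fst g (S.fromSpecResidueField (σ p))))) :
    ∃ C : Set (Spec A), Topology.IsConstructible C ∧ p ∈ C ∧
      ∀ q ∈ C, QPProp b (pullback.snd f (pullback.fst g (S.fromSpecResidueField (σ q)))) := by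
  refine exists_constructible_prop f g (fun a => QPProp b a) (fun h ha => ha.of_isPullback h) ?_ A σ p hp
  intro I _ _ D c i₀ hc _ _ _ X₀ Y₀ f₀ g₀ _ _ _ _ _ X Y f g qY qX hY hX hlim
  by_cases hb : b
  · haveI := hlim.2 hb
    haveI : CompactSpace Y₀ := QuasiCompact.compactSpace_of_compactSpace g₀
    haveI : QuasiSeparatedSpace Y₀ := quasiSeparatedSpace_of_quasiSeparated g₀
    haveI : CompactSpace X₀ := QuasiCompact.compactSpace_of_compactSpace f₀
    haveI : QuasiSeparatedSpace X₀ := quasiSeparatedSpace_of_quasiSeparated f₀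
    obtain ⟨i, φ, Xi, Yi, fi, gi, pY, pX, hYi, hXi, hi⟩ := Groth.Agent.S2074.result D c hc i₀ f₀ g₀ f g qY qX hY hX
    have wY : qY ≫ g₀ = (g ≫ c.π.app i) ≫ D.map φ := by
      rw [hY.w, Category.assoc, c.w]
    let a := hYi.lift _ _ wY
    have ha : IsPullback a g gi (c.π.app i) := by
      refine IsPullback.of_right ?_ (hYi.lift_snd _ _ wY) hYi
      rw [hYi.lift_fst, c.w]
      exact hY
    have wX : qX ≫ f₀ = (f ≫ a) ≫ pY := by
      rw [hX.w, Category.assoc, hYi.lift_fst]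
    let w := hXi.lift _ _ wX
    have hw : IsPullback w f fi a := by
      refine IsPullback.of_right ?_ (hXi.lift_snd _ _ wX) hXi
      rw [hXi.lift_fst, hYi.lift_fst]
      exact hX
    haveI : QuasiCompact gi := MorphismProperty.of_isPullback (P := @QuasiCompact) hYi inferInstance
    haveI : QuasiSeparated gi := MorphismProperty.of_isPullback (P := @QuasiSeparated) hYi inferInstance
    haveI := hi
    obtain ⟨j, ψ, Xj, Yj, fj, gj, pY', pX', hYj, hXj, hj⟩ := exists_stage_hasAmple hc fi gi f g a w ha hw hlim.1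
    exact ⟨j, ψ ≫ φ, Xj, Yj, fj, gj, pY' ≫ pY, pX' ≫ pX,
      by rw [D.map_comp]; exact hYj.paste_horiz hYi, hXj.paste_horiz hXi,
      hj, fun _ => MorphismProperty.of_isPullback (P := @IsProper) hXj hi⟩
  · obtain ⟨j, φ, Xj, Yj, fj, gj, pY, pX, hYj, hXj, hj⟩ := exists_stage_hasAmple hc f₀ g₀ f g qY qX hY hX hlim.1
    exact ⟨j, φ, Xj, Yj, fj, gj, pY, pX, hYj, hXj, hj, fun h => absurd h hb⟩

end Groth.Agent.AmpleFib
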