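import Groth.Agent.Lib.FibreTop.Finite
import Groth.Agent.Lib.Chow13.General
import Groth.Agent.Lib.FpqcDesc.Basic
import Groth.Agent.Lib.ConsH13.Engine
import Groth.Agent.Lib.ConsH13.IndCons
import Groth.Agent.Lib.LimH13.ArrowModel

/-!
# The locus of proper fibres
-/

universe u

open CategoryTheory CategoryTheory.Limits AlgebraicGeometry Topology

set_option backward.isDefEq.respectTransparency false
set_option linter.style.haveILetI false

namespace Groth.Agent.AmpleFib

open Groth.Agent.FibreTop

/-- A fibre locus of a property stable under base change which descends along fpqc morphisms commutes with base change. -/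
theorem fibLocus_baseChange (P : MorphismProperty Scheme.{u}) [P.IsStableUnderBaseChange]
    [P.DescendsAlong (@Surjective ⊓ @Flat ⊓ @QuasiCompact : MorphismProperty Scheme.{u})]
    {X Y S X' Y' T : Scheme.{u}} {f : X ⟶ Y} {g : Y ⟶ S} {f' : X' ⟶ Y'} {g' : Y' ⟶ T} {π : T ⟶ S} {qY : Y' ⟶ Y}
    {qX : X' ⟶ X} (hY : IsPullback qY g' g π) (hX : IsPullback qX f' f qY) :
    π ⁻¹' fibLocus P f g = fibLocus P f' g' := by
  ext t
  let u := Spec.map (π.residueFieldMap t)
  haveI : Surjective u := ⟨fun x => ⟨IsLocalRing.closedPoint (T.residueField t), Subsingleton.elim _ _⟩⟩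
  haveI : Flat u := by
    rw [HasRingHomProperty.Spec_iff (P := @Flat), RingHom.Flat]
    letI := (π.residueFieldMap t).hom.toAlgebra
    infer_instance
  have h1 : IsPullback (g'.fiberι t ≫ qY) (g'.fiberToSpecResidueField t) g (T.fromSpecResidueField t ≫ π) :=
    (IsPullback.of_hasPullback g' (T.fromSpecResidueField t)).paste_horiz hY
  have hu : u ≫ S.fromSpecResidueField (π t) = T.fromSpecResidueField t ≫ π :=
    Scheme.Hom.SpecMap_residueFieldMap_fromSpecResidueField π t
  have wY : (g'.fiberι t ≫ qY) ≫ g = (g'.fiberToSpecResidueField t ≫ u) ≫ S.fromSpecResidueField (π t) := by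
    rw [h1.w, Category.assoc, hu]
  let v : g'.fiber t ⟶ g.fiber (π t) := pullback.lift _ _ wY
  have hv : IsPullback v (g'.fiberToSpecResidueField t) (g.fiberToSpecResidueField (π t)) u := by
    refine IsPullback.of_right ?_ (pullback.lift_snd _ _ _) (IsPullback.of_hasPullback g (S.fromSpecResidueField (π t)))
    rw [pullback.lift_fst, hu]
    exact h1
  haveI : QuasiCompact u := inferInstance
  have hvP : (@Surjective ⊓ @Flat ⊓ @QuasiCompact : MorphismProperty Scheme.{u}) v :=
    ⟨⟨MorphismProperty.of_isPullback (P := @Surjective) hv.flip inferInstance,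
      MorphismProperty.of_isPullback (P := @Flat) hv.flip inferInstance⟩,
      MorphismProperty.of_isPullback (P := @QuasiCompact) hv.flip inferInstance⟩
  have h2 : IsPullback (pullback.fst f' (g'.fiberι t) ≫ qX) (pullback.snd f' (g'.fiberι t)) f (g'.fiberι t ≫ qY) :=
    (IsPullback.of_hasPullback f' (g'.fiberι t)).paste_horiz hX
  have wX : (pullback.fst f' (g'.fiberι t) ≫ qX) ≫ f =
      (pullback.snd f' (g'.fiberι t) ≫ v) ≫ g.fiberι (π t) := by
    rw [h2.w, Category.assoc _ v]
    exact congrArg _ (pullback.lift_fst _ _ _).symm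
  let w : pullback f' (g'.fiberι t) ⟶ pullback f (g.fiberι (π t)) := pullback.lift _ _ wX
  have hw : IsPullback w (pullback.snd f' (g'.fiberι t)) (pullback.snd f (g.fiberι (π t))) v := by
    refine IsPullback.of_right ?_ (pullback.lift_snd _ _ _) (IsPullback.of_hasPullback f (g.fiberι (π t)))
    rw [pullback.lift_fst, show v ≫ g.fiberι (π t) = g'.fiberι t ≫ qY from pullback.lift_fst _ _ _]
    exact h2
  show P (pullback.snd f (g.fiberι (π t))) ↔ P (pullback.snd f' (g'.fiberι t))
  exact ⟨fun h => MorphismProperty.of_isPullback (P := P) hw h,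
    fun h => MorphismProperty.of_isPullback_of_descendsAlong (P := P) hw.flip hvP h⟩

/-- For a separated morphism over a noetherian base the proper locus is locally constructible. -/
theorem isLocallyConstructible_proper_of_separated {X Y S : Scheme.{u}} (f : X ⟶ Y) (g : Y ⟶ S)
    [IsLocallyNoetherian S] [CompactSpace S] [LocallyOfFiniteType g] [QuasiCompact g]
    [IsSeparated f] [LocallyOfFiniteType f] [QuasiCompact f] :
    IsLocallyConstructible (fibLocus @IsProper f g) := by
  haveI : IsLocallyNoetherian Y := LocallyOfFiniteType.isLocallyNoetherian g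
  haveI : CompactSpace Y := QuasiCompact.compactSpace_of_compactSpace g
  obtain ⟨n, X', π, j, hj, hjb, hπ, hπs⟩ := Chow13.chow f
  let b := CohB1.ProjSpaceOver.toBase n Y
  let h := b ≫ g
  haveI : IsLocallyNoetherian (CohB1.ProjSpaceOver n Y) := LocallyOfFiniteType.isLocallyNoetherian b
  haveI : QuasiSeparatedSpace (CohB1.ProjSpaceOver n Y) := quasiSeparatedSpace_of_quasiSeparated b
  haveI : CompactSpace (CohB1.ProjSpaceOver n Y) := QuasiCompact.compactSpace_of_compactSpace b
  haveI : LocallyOfFiniteType (j ≫ b) := hjb.symm ▸ inferInstance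
  haveI : LocallyOfFiniteType j := locallyOfFiniteType_of_comp j b
  haveI : QuasiCompact (j ≫ b) := hjb.symm ▸ inferInstance
  haveI : QuasiCompact j := QuasiCompact.of_comp j b
  haveI : LocallyOfFinitePresentation j := LimH13.locallyOfFinitePresentation_of_noetherian j
  haveI : LocallyOfFinitePresentation g := LimH13.locallyOfFinitePresentation_of_noetherian g
  haveI : LocallyOfFinitePresentation b := LimH13.locallyOfFinitePresentation_of_noetherian b
  haveI : QuasiSeparated g := inferInstance
  have hZ : IsLocallyConstructible (Set.range j) := by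
    rw [← Set.image_univ]
    exact j.isLocallyConstructible_image IsLocallyConstructible.univ
  convert FibreTop.isLocallyConstructible_setOf_isClosed (f := h) hZ using 1
  ext s
  let q := g.fiberι s
  let fs := pullback.snd f q
  let qP := pullback.fst b q
  let bT := pullback.snd b q
  let jT := pullback.snd j qP
  have hW : IsPullback (pullback.fst j qP) (jT ≫ bT) (j ≫ b) q :=
    (IsPullback.of_hasPullback j qP).paste_vert (IsPullback.of_hasPullback b q)
  rw [hjb] at hW
  have hW' : (pullback.fst j qP ≫ π) ≫ f = (jT ≫ bT) ≫ q := by rw [Category.assoc]; exact hW.w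
  let π' : pullback j qP ⟶ pullback f q := pullback.lift _ _ hW'
  have hπ' : π' ≫ fs = jT ≫ bT := pullback.lift_snd _ _ _
  have hpb : IsPullback (pullback.fst j qP) π' π (pullback.fst f q) := by
    refine IsPullback.of_bot ?_ (pullback.lift_fst _ _ _).symm (IsPullback.of_hasPullback f q)
    rw [hπ']
    exact hW
  haveI : IsProper π' := MorphismProperty.of_isPullback (P := @IsProper) hpb inferInstance
  haveI : Surjective π' := MorphismProperty.of_isPullback (P := @Surjective) hpb inferInstance
  haveI : IsProper bT := MorphismProperty.pullback_snd _ _ inferInstance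
  haveI : IsImmersion jT := MorphismProperty.pullback_snd _ _ inferInstance
  haveI : IsSeparated fs := MorphismProperty.pullback_snd _ _ inferInstance
  haveI : LocallyOfFiniteType fs := MorphismProperty.pullback_snd _ _ inferInstance
  have h1 : IsProper fs ↔ IsClosedImmersion jT := by
    constructor
    · intro hp
      haveI : IsProper (jT ≫ bT) := hπ' ▸ inferInstance
      haveI : IsProper jT := IsProper.of_comp jT bT
      exact IsClosedImmersion.of_isPreimmersion jT jT.isClosedMap.isClosed_range
    · intro hc
      haveI : IsProper (π' ≫ fs) := hπ'.symm ▸ inferInstance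
      haveI : UniversallyClosed fs := UniversallyClosed.of_comp_surjective π' fs
      exact {}
  show IsProper fs ↔ _
  rw [h1]
  have hr : Set.range qP = h ⁻¹' {s} := by
    rw [FibreLocus.range_eq_preimage_of_isPullback (IsPullback.of_hasPullback b q), Scheme.Hom.range_fiberι]
    rfl
  haveI : IsPreimmersion qP := MorphismProperty.pullback_fst _ _ inferInstance
  have hjr : Set.range jT = qP ⁻¹' Set.range j :=
    FibreLocus.range_eq_preimage_of_isPullback (IsPullback.of_hasPullback j qP).flip
  let e : ↥(pullback b q) ≃ₜ ↥(h ⁻¹' {s}) := qP.isEmbedding.toHomeomorph.trans (Homeomorph.setCongr hr)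
  refine ⟨fun hc => ?_, fun hc => IsClosedImmersion.of_isPreimmersion jT ?_⟩
  · show IsClosed (Subtype.val ⁻¹' Set.range j)
    refine (e.isClosed_preimage).1 ?_
    show IsClosed (qP ⁻¹' Set.range j)
    rw [← hjr]
    exact jT.isClosedEmbedding.isClosed_range
  · rw [hjr]
    exact (e.isClosed_preimage).2 (show IsClosed (Subtype.val ⁻¹' Set.range j) from hc)

/-- Over a noetherian affine base the proper locus is locally constructible. -/
theorem isLocallyConstructible_proper_noetherian {X Y : Scheme.{u}} {R : CommRingCat.{u}} [IsNoetherianRing R]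
    (f : X ⟶ Y) (g : Y ⟶ Spec R) [LocallyOfFiniteType g] [QuasiCompact g]
    [LocallyOfFiniteType f] [QuasiCompact f] :
    IsLocallyConstructible (fibLocus @IsProper f g) := by
  haveI : IsLocallyNoetherian Y := LocallyOfFiniteType.isLocallyNoetherian g
  haveI : IsLocallyNoetherian X := LocallyOfFiniteType.isLocallyNoetherian f
  haveI : LocallyOfFinitePresentation g := LimH13.locallyOfFinitePresentation_of_noetherian g
  haveI : LocallyOfFinitePresentation f := LimH13.locallyOfFinitePresentation_of_noetherian f
  haveI : QuasiSeparated g := inferInstance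
  haveI : QuasiSeparated (f ≫ g) := inferInstance
  let T₀ : Set (Spec R) := fibLocus @IsSeparated f g
  have hT₀ : IsLocallyConstructible T₀ := isLocallyConstructible_setOf_fibre_isSeparated f g
  refine isLocallyConstructible_of_strata fun A σ hσ p => ?_
  by_cases hp : σ p ∈ T₀
  swap
  · refine ⟨σ ⁻¹' T₀ᶜ, ((AnPtsTop.isLocallyConstructible_compl hT₀).preimage_of_isOpenEmbedding
      σ.isOpenEmbedding).isConstructible, hp, fun B τ _ _ hτ => ?_⟩
    rw [show (τ ≫ σ) ⁻¹' fibLocus @IsProper f g = ∅ from Set.eq_empty_iff_forall_notMem.2 fun t ht =>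
      (show σ (τ t) ∉ T₀ from hτ ⟨t, rfl⟩) (show IsSeparated _ from
        (show IsProper _ from ht).toIsSeparated)]
    exact IsLocallyConstructible.empty
  let g1 := pullback.snd g σ
  let f1 := pullback.snd f (pullback.fst g σ)
  let h1 := pullback.fst f1 f1 ≫ f1 ≫ g1
  haveI : QuasiSeparatedSpace ↥(pullback f1 f1) := quasiSeparatedSpace_of_quasiSeparated h1
  let D := Set.range (pullback.diagonal f1)
  haveI : LocallyOfFinitePresentation (pullback.diagonal f1) :=
    haveI : LocallyOfFinitePresentation (pullback.diagonal f1 ≫ pullback.fst f1 f1) := by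
      rw [pullback.diagonal_fst]; infer_instance
    SchBasic.locallyOfFinitePresentation_of_comp (pullback.diagonal f1) (pullback.fst f1 f1)
  have hD : IsLocallyConstructible D := by
    show IsLocallyConstructible (Set.range (pullback.diagonal f1))
    rw [← Set.image_univ]
    exact (pullback.diagonal f1).isLocallyConstructible_image IsLocallyConstructible.univ
  have hWopen : IsOpen (Subtype.val ⁻¹' Dᶜ : Set ↥(h1 ⁻¹' {p})) := by
    rw [Set.preimage_compl, isOpen_compl_iff, isClosed_fibre_iff]
    refine (isSeparated_fibre_iff f1 g1 p).1 ?_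
    have h2 : p ∈ σ ⁻¹' fibLocus @IsSeparated f g := hp
    rw [fibLocus_preimage] at h2
    exact h2
  obtain ⟨U, hUc, hU⟩ := exists_open_agree h1 p Dᶜ hWopen
  have hUlc : IsLocallyConstructible (U : Set ↥(pullback f1 f1)) :=
    (IsRetrocompact.isConstructible U.2
      (fun V hV hVo => QuasiSeparatedSpace.inter_isCompact _ _ U.2 hUc hVo hV)).isLocallyConstructible
  let G : Set ↥(pullback f1 f1) := {z | z ∈ (U : Set _) → z ∈ Dᶜ} ∩ {z | z ∈ Dᶜ → z ∈ (U : Set _)}
  have hG : IsLocallyConstructible G :=
    (isLocallyConstructible_imp hUlc (AnPtsTop.isLocallyConstructible_compl hD)).inter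
      (isLocallyConstructible_imp (AnPtsTop.isLocallyConstructible_compl hD) hUlc)
  refine ⟨{a | ∀ z, h1 z = a → z ∈ G} ∩ σ ⁻¹' T₀,
    ((isLocallyConstructible_forall_fibre h1 hG).inter
      (hT₀.preimage_of_isOpenEmbedding σ.isOpenEmbedding)).isConstructible,
    ⟨fun z hz => ⟨(hU z hz).1, (hU z hz).2⟩, hp⟩, fun B τ hτ hτf hr => ?_⟩
  let g2 := pullback.snd g1 τ
  let f2 := pullback.snd f1 (pullback.fst g1 τ)
  have hE : (τ ≫ σ) ⁻¹' fibLocus @IsProper f g = fibLocus @IsProper f2 g2 := by
    show τ ⁻¹' (σ ⁻¹' fibLocus @IsProper f g) = _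
    rw [fibLocus_preimage @IsProper f g σ, fibLocus_preimage @IsProper f1 g1 τ]
  rw [hE]
  haveI : IsPreimmersion (pullback.fst g1 τ) := MorphismProperty.pullback_fst _ _ inferInstance
  haveI : IsSeparated f2 := by
    have hsq : IsPullback (pullback.fst f1 (pullback.fst g1 τ)) f2 f1 (pullback.fst g1 τ) :=
      IsPullback.of_hasPullback _ _
    let m := pullback.map f2 f2 f1 f1 _ _ _ hsq.w.symm hsq.w.symm
    refine ⟨.of_isPreimmersion _ ?_⟩
    rw [← preimage_range_diagonal hsq]
    have hmem : ∀ w, (m w ∈ (U : Set _) ↔ m w ∈ Dᶜ) := fun w => by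
      have hw : h1 (m w) = τ ((pullback.fst f2 f2 ≫ f2 ≫ g2) w) := by
        rw [← Scheme.Hom.comp_apply, ← Scheme.Hom.comp_apply]
        congr 2
        simp only [h1, g2, m, f2, pullback.map, Category.assoc, pullback.lift_fst_assoc]
        rw [← pullback.condition (f := g1) (g := τ), ← hsq.w_assoc]
      have := (hr ⟨_, rfl⟩).1 (m w) hw
      exact ⟨this.1, this.2⟩
    show IsClosed (m ⁻¹' D)
    rw [show m ⁻¹' D = m ⁻¹' (U : Set _)ᶜ from Set.ext fun w => by
      simp only [Set.mem_preimage, Set.mem_compl_iff, hmem, not_not]]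
    exact U.2.isClosed_compl.preimage m.continuous
  haveI : IsLocallyNoetherian (Spec A) := LocallyOfFiniteType.isLocallyNoetherian σ
  haveI : IsLocallyNoetherian (Spec B) := LocallyOfFiniteType.isLocallyNoetherian τ
  exact isLocallyConstructible_proper_of_separated f2 g2

/-- The locus of proper fibres is locally constructible. -/
theorem isLocallyConstructible_fibLocus_isProper {X Y S : Scheme.{u}} (f : X ⟶ Y) (g : Y ⟶ S)
    [LocallyOfFinitePresentation g] [QuasiCompact g] [QuasiSeparated g]
    [LocallyOfFinitePresentation (f ≫ g)] [QuasiCompact (f ≫ g)] [QuasiSeparated (f ≫ g)] :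
    IsLocallyConstructible (fibLocus @IsProper f g) := by
  haveI := FpqcDesc.descendsAlong_isProper.{u}
  refine ConsH13.isLocallyConstructible_of_affine _ fun A σ hσ => ?_
  rw [fibLocus_preimage @IsProper f g σ]
  let g1 := pullback.snd g σ
  let f1 := pullback.snd f (pullback.fst g σ)
  have hfg : IsPullback (pullback.fst f (pullback.fst g σ)) (f1 ≫ g1) (f ≫ g) σ :=
    (IsPullback.of_hasPullback f (pullback.fst g σ)).paste_vert (IsPullback.of_hasPullback g σ)
  haveI : LocallyOfFinitePresentation (f1 ≫ g1) := MorphismProperty.of_isPullback hfg inferInstance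
  haveI : QuasiCompact (f1 ≫ g1) := MorphismProperty.of_isPullback hfg inferInstance
  haveI : QuasiSeparated (f1 ≫ g1) := MorphismProperty.of_isPullback hfg inferInstance
  obtain ⟨R, hR, π, X', Y', f', g', qX, qY, i1, i2, i3, i4, hY, hX⟩ :=
    ConsH13.exists_noetherian_model_mor A f1 g1
  haveI := hR; haveI := i1; haveI := i2; haveI := i3; haveI := i4
  haveI : LocallyOfFiniteType f' := locallyOfFiniteType_of_comp f' g'
  haveI : QuasiSeparated g' := by
    haveI : IsLocallyNoetherian Y' := LocallyOfFiniteType.isLocallyNoetherian g'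
    infer_instance
  haveI : QuasiCompact f' := QuasiCompact.of_comp f' g'
  rw [← fibLocus_baseChange @IsProper hY hX]
  exact (ConsH13.isLocallyConstructible_preimage π (isLocallyConstructible_proper_noetherian f' g')).isConstructible

end Groth.Agent.AmpleFib
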