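import Groth.Agent.Lib.AmpleFib.IndCons
import Groth.Agent.Lib.AmpleFib.Proper
import Groth.Agent.Lib.CBC10.ModelExists
import Groth.Agent.Lib.ConsH13.IndCons

/-!
# The locus of ample fibres of a proper morphism of finite presentation is constructible
-/

universe u

open CategoryTheory CategoryTheory.Limits AlgebraicGeometry Opposite Topology

set_option backward.isDefEq.respectTransparency false
set_option linter.style.haveILetI false

namespace Groth.Agent.AmpleFib

open Groth.Agent.RA

variable {X Y : Scheme.{u}} (f : X ⟶ Y) [QuasiCompact f] {L : X.Modules}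

/-- The fibre property over the identity, computed on any fibre product. -/
theorem ampAt_id_iff (hL : PicF.IsInvertible L) {T : Scheme.{u}} [IsAffine T] (t : T ⟶ Y) {P : Scheme.{u}}
    {p : P ⟶ X} {p' : P ⟶ T} (hP : IsPullback p p' f t) :
    AmpAt f (𝟙 Y) L t ↔ CohB1.IsAmple ((Scheme.Modules.pullback p).obj L) := by
  haveI : QuasiCompact p' := MorphismProperty.of_isPullback (P := @QuasiCompact) hP inferInstance
  rw [← isRelAmple_iff_isAmple p']
  exact (isRelAmple_pt_iff f (𝟙 Y) hL t t (𝟙 _) (Category.id_comp _) (IsPullback.of_hasPullback _ _)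
    (IsPullback.of_hasPullback _ _) (IsPullback.of_vert_isIso ⟨by simp⟩ : IsPullback t (𝟙 T) (𝟙 Y) t) hP).symm

/-- Over a neighbourhood with ample restriction every fibre is ample. -/
theorem fibre_isAmple_of_mem [IsProper f] {V : Y.Opens} (hA : CohB1.IsAmple (L.restrict (f ⁻¹ᵁ V).ι)) {s : Y}
    (hs : s ∈ V) : CohB1.IsAmple ((Scheme.Modules.pullback (f.fiberι s)).obj L) := by
  let ι' : f.fiber s ⟶ (f ⁻¹ᵁ V : X.Opens).toScheme := IsOpenImmersion.lift (f ⁻¹ᵁ V).ι (f.fiberι s) (by
    rw [Scheme.Hom.range_fiberι, Scheme.Opens.range_ι]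
    intro x hx
    show f x ∈ V
    rw [show f x = s from hx]
    exact hs)
  have hι' : ι' ≫ (f ⁻¹ᵁ V).ι = f.fiberι s := IsOpenImmersion.lift_fac _ _ _
  haveI : IsPreimmersion (ι' ≫ (f ⁻¹ᵁ V).ι) := hι'.symm ▸ inferInstance
  haveI : IsPreimmersion ι' := IsPreimmersion.of_comp ι' (f ⁻¹ᵁ V).ι
  haveI : IsProper (f.fiberToSpecResidueField s) :=
    MorphismProperty.pullback_snd (P := @IsProper) _ _ inferInstance
  haveI : CompactSpace (f.fiber s) := QuasiCompact.compactSpace_of_compactSpace (f.fiberToSpecResidueField s)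
  rw [isAmple_pullback_congr hι'.symm, ← isAmple_pullback_comp_iff]
  exact Amp.isAmple_pullback_of_isInducing ι' ι'.isEmbedding.isInducing ((isAmple_restrict_iff_pullback _).1 hA)

/-- For a proper morphism the locus of ample fibres is open. -/
theorem isOpen_ampleLocus [IsProper f] (hL : PicF.IsInvertible L) :
    IsOpen {y : Y | CohB1.IsAmple ((Scheme.Modules.pullback (f.fiberι y)).obj L)} := by
  refine isOpen_iff_forall_mem_open.2 fun y hy => ?_
  obtain ⟨V, -, hyV, hA⟩ := exists_nhd_isAmple_proper f hL y hy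
  exact ⟨V, fun s hs => fibre_isAmple_of_mem f hA hs, V.2, hyV⟩

/-- The ample fibres after base change. -/
theorem fibre_isAmple_iff_of_isPullback (hL : PicF.IsInvertible L) {X' Y' : Scheme.{u}} {p : X' ⟶ X}
    {f' : X' ⟶ Y'} {q : Y' ⟶ Y} (h : IsPullback p f' f q) (z : Y') :
    CohB1.IsAmple ((Scheme.Modules.pullback (f'.fiberι z)).obj ((Scheme.Modules.pullback p).obj L)) ↔
      CohB1.IsAmple ((Scheme.Modules.pullback (f.fiberι (q z))).obj L) := by
  have h1 : IsPullback (f'.fiberι z ≫ p) (f'.fiberToSpecResidueField z) f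
      (Y'.fromSpecResidueField z ≫ q) :=
    (IsPullback.of_hasPullback f' _).paste_horiz h
  rw [isAmple_pullback_comp_iff, ← ampAt_id_iff f hL _ h1]
  refine ((ampAt_field f (𝟙 _) hL (K := Y'.residueField z) _).trans ?_).trans
    (ampAt_id_iff f hL _ (IsPullback.of_hasPullback f _))
  rw [Scheme.Hom.comp_apply]
  erw [Scheme.fromSpecResidueField_apply]

/-- For a proper morphism of finite presentation over an affine scheme it is constructible. -/
theorem isLocallyConstructible_ampleLocus_affine {A : CommRingCat.{u}} {X : Scheme.{u}} (u : X ⟶ Spec A)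
    [IsProper u] [LocallyOfFinitePresentation u] {L : X.Modules} (hL : PicF.IsInvertible L) :
    IsLocallyConstructible {y : Spec A | CohB1.IsAmple ((Scheme.Modules.pullback (u.fiberι y)).obj L)} := by
  haveI : Coh.IsQCoh L := Twist.isQCoh_of_isInvertible hL
  obtain ⟨R, hR, π, X', u', q, F', i1, i2, sq, hF', ⟨e⟩⟩ :=
    ConsH13.exists_noetherian_model_mod A u L (LimShf14.isFP_of_isInvertible hL)
  haveI := hR; haveI := i1; haveI := i2
  haveI : IsLocallyNoetherian X' := LocallyOfFiniteType.isLocallyNoetherian u'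
  obtain ⟨N, hN⟩ := CBC10.exists_nmodel_proper
    (⟨R, hR, π, X', u', q, F', i1, i2, inferInstance, sq, hF', e⟩ : CBC10.NModel u L)
  haveI := hN
  letI := (Spec.preimage N.π).hom.toAlgebra
  let D := ConsH13.Over.approxDiagram N.R A
  let c := ConsH13.Over.approxCone N.R A
  let t := CBC10.approxTo N.R A
  have hq : ∀ j, c.π.app j ≫ t.app j = N.π := fun j =>
    (CBC10.approxCone_to N.R A j).trans (Spec.map_preimage N.π)
  have hc := ConsH13.Over.isLimitApproxCone N.R A
  let DX := Descend.pbDiagram D t N.u'
  let cX := Descend.pbCone D t N.u' c hq N.sq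
  have hX : IsLimit cX := Descend.pbIsLimit D t N.u' c hq N.sq hc
  haveI : CompactSpace N.X' := QuasiCompact.compactSpace_of_compactSpace N.u'
  haveI : QuasiSeparatedSpace N.X' := quasiSeparatedSpace_of_quasiSeparated N.u'
  haveI : ∀ i j (a : i ⟶ j), IsAffineHom (DX.map a) := fun i j a => inferInstance
  obtain ⟨j, ⟨c₀, M, hM, hMinv⟩, hj⟩ := LimShf14.exists_picSet_rep DX cX hX
    ⟨PicF.cl L, L, rfl, hL⟩
  subst hM
  obtain ⟨eM⟩ := LimShf14.iso_of_cl_eq (L := (Scheme.Modules.pullback (cX.π.app j)).obj M) (M := L) hj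
  let u'' : DX.obj j ⟶ D.obj j := pullback.snd N.u' (t.app j)
  haveI : IsProper u'' := MorphismProperty.pullback_snd (P := @IsProper) _ _ inferInstance
  have hsq : IsPullback (cX.π.app j) u u'' (c.π.app j) := by
    refine IsPullback.of_right ?_ (pullback.lift_snd _ _ _) (IsPullback.of_hasPullback N.u' (t.app j))
    rw [hq, show cX.π.app j ≫ pullback.fst N.u' (t.app j) = N.q from pullback.lift_fst _ _ _]
    exact N.sq
  have key : ∀ y : Spec A, CohB1.IsAmple ((Scheme.Modules.pullback (u.fiberι y)).obj L) ↔
      CohB1.IsAmple ((Scheme.Modules.pullback (u''.fiberι (c.π.app j y))).obj M) := fun y => by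
    rw [← isAmple_iso_iff ((Scheme.Modules.pullback (u.fiberι y)).mapIso eM)]
    exact fibre_isAmple_iff_of_isPullback u'' hMinv hsq y
  have hopen := isOpen_ampleLocus u'' hMinv
  haveI : AlgebraicGeometry.IsNoetherian (D.obj j) := inferInstance
  have hloc : IsLocallyConstructible {z : D.obj j | CohB1.IsAmple ((Scheme.Modules.pullback (u''.fiberι z)).obj M)} :=
    (IsRetrocompact.isConstructible hopen
      (fun U hU hUc => TopologicalSpace.NoetherianSpace.isCompact _)).isLocallyConstructible
  rw [show {y : Spec A | CohB1.IsAmple ((Scheme.Modules.pullback (u.fiberι y)).obj L)} =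
    c.π.app j ⁻¹' {z : D.obj j | CohB1.IsAmple ((Scheme.Modules.pullback (u''.fiberι z)).obj M)} from
      Set.ext key]
  exact ConsH13.isLocallyConstructible_preimage _ hloc

/-- For a proper morphism of finite presentation the locus of ample fibres is locally constructible. -/
theorem isLocallyConstructible_ampleLocus {X Y : Scheme.{u}} (f : X ⟶ Y) [IsProper f]
    [LocallyOfFinitePresentation f] {L : X.Modules} (hL : PicF.IsInvertible L) :
    IsLocallyConstructible {y : Y | CohB1.IsAmple ((Scheme.Modules.pullback (f.fiberι y)).obj L)} := by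
  refine ConsH13.isLocallyConstructible_of_affine _ fun A σ hσ => ?_
  haveI : IsProper (pullback.snd f σ) := MorphismProperty.pullback_snd _ _ inferInstance
  haveI : LocallyOfFinitePresentation (pullback.snd f σ) := MorphismProperty.pullback_snd _ _ inferInstance
  have h := isLocallyConstructible_ampleLocus_affine (pullback.snd f σ)
    (PicLoc.isInvertible_pullback (pullback.fst f σ) hL)
  convert h.isConstructible using 1
  exact Set.ext fun z => (fibre_isAmple_iff_of_isPullback f hL (IsPullback.of_hasPullback f σ) z).symm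

/-- The points of the base over which a proper morphism has relatively ample fibre. -/
theorem ampAt_iff_fibres {X Y S : Scheme.{u}} (f : X ⟶ Y) (g : Y ⟶ S) [IsProper f] {L : X.Modules}
    (hL : PicF.IsInvertible L) (s : S) :
    AmpAt f g L (S.fromSpecResidueField s) ↔
      ∀ y : Y, g y = s → CohB1.IsAmple ((Scheme.Modules.pullback (f.fiberι y)).obj L) := by
  haveI : IsProper (pullback.snd f (pullback.fst g (S.fromSpecResidueField s))) :=
    MorphismProperty.pullback_snd _ _ inferInstance
  rw [AmpAt, isRelAmple_iff_fibres _ (PicLoc.isInvertible_pullback _ hL)]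
  constructor
  · intro h y hy
    obtain ⟨z, rfl⟩ : y ∈ Set.range (pullback.fst g (S.fromSpecResidueField s)) := by
      show y ∈ Set.range (g.fiberι s)
      rw [Scheme.Hom.range_fiberι]
      exact hy
    exact (fibre_isAmple_iff_of_isPullback f hL (IsPullback.of_hasPullback f _) z).1 (h z)
  · intro h z
    refine (fibre_isAmple_iff_of_isPullback f hL (IsPullback.of_hasPullback f _) z).2 (h _ ?_)
    have hz : pullback.fst g (S.fromSpecResidueField s) z ∈ Set.range (g.fiberι s) := ⟨z, rfl⟩
    rw [Scheme.Hom.range_fiberι] at hz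
    exact hz

end Groth.Agent.AmpleFib
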