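import Groth.Agent.Lib.CohFound.AmpleCrit
import Groth.Agent.Lib.CohFound.SerreVan

/-!
# Multiplication by global functions on modules
-/

universe u

open CategoryTheory CategoryTheory.Limits AlgebraicGeometry Opposite TopologicalSpace TensorProduct

set_option backward.isDefEq.respectTransparency false

noncomputable section

namespace Groth.Agent.AmpleFib

open Groth.Agent.M1 (ores mres)

variable {X : Scheme.{u}}

/-- Multiplication by a global function. -/
def smul (M : X.Modules) (c : Γ(X, ⊤)) : M ⟶ M :=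
  ⟨PresheafOfModules.homMk
    { app := fun V => AddCommGrpCat.ofHom
        (AddMonoidHom.mk' (fun s : Γ(M, V.unop) => ores (le_top : V.unop ≤ ⊤) c • s) (fun s t => smul_add _ s t))
      naturality := fun V V' i => by
        refine ConcreteCategory.hom_ext _ _ fun (s : Γ(M, V.unop)) => ?_
        show ores (le_top : V'.unop ≤ ⊤) c • mres M (leOfHom i.unop) s =
          mres M (leOfHom i.unop) (ores (le_top : V.unop ≤ ⊤) c • s)
        rw [M1.mres_smul, M1.ores_ores] }
    (fun V (r : Γ(X, V.unop)) (s : Γ(M, V.unop)) => by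
      show ores (le_top : V.unop ≤ ⊤) c • r • s = r • (ores (le_top : V.unop ≤ ⊤) c • s)
      rw [← mul_smul, ← mul_smul, mul_comm])⟩

theorem smul_app (M : X.Modules) (c : Γ(X, ⊤)) (V : X.Opens) (s : Γ(M, V)) :
    (smul M c).app V s = ores (le_top : V ≤ ⊤) c • s := rfl

theorem smul_natural {M N : X.Modules} (φ : M ⟶ N) (c : Γ(X, ⊤)) : smul M c ≫ φ = φ ≫ smul N c :=
  Scheme.Modules.hom_ext _ _ fun V => by
    ext s
    show φ.app V ((smul M c).app V s) = (smul N c).app V (φ.app V s)
    rw [smul_app, smul_app, Scheme.Modules.Hom.app_smul]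

theorem smul_eq_zero_iff {M : X.Modules} {c : Γ(X, ⊤)} :
    smul M c = 0 ↔ ∀ (V : X.Opens) (s : Γ(M, V)), ores (le_top : V ≤ ⊤) c • s = 0 :=
  ⟨fun h V s => (smul_app M c V s).symm.trans (congrArg (fun φ : M ⟶ M => φ.app V s) h),
    fun h => Scheme.Modules.hom_ext _ _ fun V => by ext s; exact (smul_app M c V s).trans (h V s)⟩

theorem abF_smul (M : X.Modules) (c : Γ(X, ⊤)) :
    (CohFound.abF X).map (smul M c) = CohFound.gEnd M c := by
  apply CategoryTheory.Sheaf.hom_ext
  refine NatTrans.ext (funext fun V => AddCommGrpCat.ext fun x => ?_)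
  rfl

theorem stalkLin_smul (M : X.Modules) (c : Γ(X, ⊤)) (x : X) (a : M.presheaf.stalk x) :
    CurveCoh17.stalkLin (smul M c) x a = X.presheaf.germ ⊤ x trivial c • a := by
  obtain ⟨U, hU, s, rfl⟩ := M.presheaf.exists_germ_eq a
  refine (M1.germ_naturality (smul M c) U x hU s).trans ?_
  rw [smul_app, M1.germ_smul]
  congr 1
  exact X.presheaf.germ_res_apply _ x hU c

/-- Tensoring a multiplication gives a multiplication. -/
theorem tensorMap_smul (M E : X.Modules) (c : Γ(X, ⊤)) :
    M2.tensorMap (smul M c) (𝟙 E) = smul (CohB1.tensorMod M E) c :=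
  Scheme.Modules.hom_ext _ _ fun V => by
    ext s
    refine M1.section_ext _ _ fun x hx => ?_
    have h : ∀ a, CurveCoh17.stalkLin (M2.tensorMap (smul M c) (𝟙 E)) x a =
        X.presheaf.germ ⊤ x trivial c • a := fun a => by
      apply (M2.stalkEquiv M E x).injective
      rw [CurveCoh17.stalkEquiv_natural, map_smul]
      induction M2.stalkEquiv M E x a using TensorProduct.induction_on with
      | zero => rw [map_zero, smul_zero]
      | tmul p q => rw [LinearMap.rTensor_tmul, stalkLin_smul, TensorProduct.smul_tmul']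
      | add p q hp hq => rw [map_add, smul_add, hp, hq]
    refine (M1.germ_naturality (M2.tensorMap (smul M c) (𝟙 E)) V x hx s).symm.trans ?_
    refine (h _).trans ?_
    rw [smul_app, M1.germ_smul]
    congr 1
    exact (X.presheaf.germ_res_apply _ x hx c).symm

/-- The global functions killing a module. -/
def ann (M : X.Modules) : Ideal Γ(X, ⊤) where
  carrier := {c | smul M c = 0}
  zero_mem' := smul_eq_zero_iff.2 fun V s => by rw [map_zero, zero_smul]
  add_mem' {a b} ha hb := smul_eq_zero_iff.2 fun V s => by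
    rw [map_add, add_smul, smul_eq_zero_iff.1 ha, smul_eq_zero_iff.1 hb, add_zero]
  smul_mem' r a ha := smul_eq_zero_iff.2 fun V s => by
    rw [smul_eq_mul, map_mul, mul_smul, smul_eq_zero_iff.1 ha, smul_zero]

theorem mem_ann {M : X.Modules} {c : Γ(X, ⊤)} : c ∈ ann M ↔ smul M c = 0 := Iff.rfl

theorem ann_le_of_mono {M N : X.Modules} (i : N ⟶ M) [Mono i] : ann M ≤ ann N := fun c hc => by
  rw [mem_ann, ← cancel_mono i, smul_natural, mem_ann.1 hc, comp_zero, zero_comp]

theorem ann_le_of_epi {M N : X.Modules} (p : M ⟶ N) [Epi p] : ann M ≤ ann N := fun c hc => by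
  rw [mem_ann, ← cancel_epi p, ← smul_natural, mem_ann.1 hc, comp_zero, zero_comp]

end Groth.Agent.AmpleFib
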