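import Groth.Agent.Lib.AmpleFib.Local
import Groth.Agent.Lib.AmpleFib.Limit
import Groth.Agent.Lib.RelAmple18.Basic
import Groth.Agent.Lib.LimH13.NhdLimit
import Groth.Agent.Lib.Descend.Basic
import Mathlib.AlgebraicGeometry.Morphisms.Proper

/-!
# Ampleness on a fibre spreads to a neighbourhood of the base point
-/

universe u

open CategoryTheory CategoryTheory.Limits AlgebraicGeometry Opposite TopologicalSpace

set_option backward.isDefEq.respectTransparency false
set_option linter.style.haveILetI false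

namespace Groth.Agent.AmpleFib

open Groth.Agent.RA

variable {X Y : Scheme.{u}}

/-- Ampleness of a pullback does not depend on the chosen fibre product. -/
theorem isAmple_pullback_of_iso {P Q : Scheme.{u}} (L : X.Modules) (a : P ⟶ X) (b : Q ⟶ X) (e : P ≅ Q)
    (he : e.hom ≫ b = a) (h : CohB1.IsAmple ((Scheme.Modules.pullback b).obj L)) :
    CohB1.IsAmple ((Scheme.Modules.pullback a).obj L) := by
  subst he
  rw [← isAmple_pullback_comp_iff]
  exact Amp.isAmple_pullback_of_isAffineHom e.hom h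

/-- Over a Noetherian base, ampleness on a fibre gives ampleness over the local ring. -/
theorem isAmple_fromSpecStalk [IsLocallyNoetherian Y] (f : X ⟶ Y) [IsProper f] {L : X.Modules}
    (hL : PicF.IsInvertible L) (y : Y) (hy : CohB1.IsAmple ((Scheme.Modules.pullback (f.fiberι y)).obj L)) :
    CohB1.IsAmple ((Scheme.Modules.pullback (pullback.fst f (Y.fromSpecStalk y))).obj L) := by
  let qA : pullback f (Y.fromSpecStalk y) ⟶ Spec (CommRingCat.of (Y.presheaf.stalk y)) :=
    pullback.snd f (Y.fromSpecStalk y)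
  haveI : IsProper qA := MorphismProperty.pullback_snd (P := @IsProper) _ _ inferInstance
  have h0 : CohB1.IsAmple ((Scheme.Modules.pullback
      (pullback.fst qA (Spec.map (Y.residue y)) ≫ pullback.fst f (Y.fromSpecStalk y))).obj L) :=
    isAmple_pullback_of_iso L _ (pullback.fst f (Spec.map (Y.residue y) ≫ Y.fromSpecStalk y))
      (pullbackLeftPullbackSndIso f (Y.fromSpecStalk y) (Y.residue y |> Spec.map))
      (pullbackLeftPullbackSndIso_hom_fst f (Y.fromSpecStalk y) _) hy
  rw [← isAmple_pullback_comp_iff] at h0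
  exact isAmple_of_closedFibre (A := Y.presheaf.stalk y) qA (PicLoc.isInvertible_pullback _ hL) h0

variable (f : X ⟶ Y) (L : X.Modules)

/-- Ampleness over the local ring spreads to a basic open neighbourhood. -/
theorem exists_isAmple_preimage [QuasiCompact f] [QuasiSeparated f] (hL : PicF.IsInvertible L)
    (V : Y.affineOpens) (y : Y) (hyV : y ∈ V.1)
    (hy : CohB1.IsAmple ((Scheme.Modules.pullback (pullback.fst f (Y.fromSpecStalk y))).obj L)) :
    ∃ g : Γ(Y, V.1), y ∈ Y.basicOpen g ∧ CohB1.IsAmple (L.restrict (f ⁻¹ᵁ Y.basicOpen g).ι) := by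
  haveI : IsAffine V.1.toScheme := V.2
  haveI := LimH13.Nhd.isDirected y V
  haveI : Nonempty (LimH13.Nhd.Idx y V) :=
    ⟨⟨1, by rw [Scheme.basicOpen_of_isUnit _ isUnit_one]; exact hyV⟩⟩
  haveI : IsFiltered (LimH13.Nhd.Idx y V) := isFiltered_of_directed_le_nonempty _
  let D := LimH13.Nhd.diag y V
  let t : D ⟶ (Functor.const _).obj V.1.toScheme :=
    { app := fun h => Y.homOfLE (Y.basicOpen_le h.unop.1)
      naturality := fun h h' a => by
        change Y.homOfLE ((LimH13.Nhd.le_iff y V).1 a.unop.le) ≫ Y.homOfLE _ = Y.homOfLE _ ≫ 𝟙 _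
        simp }
  haveI : ∀ h, IsAffineHom (t.app h) := fun h =>
    haveI : IsAffine (Y.basicOpen h.unop.1).toScheme := V.2.basicOpen _
    inferInstanceAs (IsAffineHom (Y.homOfLE (Y.basicOpen_le h.unop.1)))
  let c := LimH13.Nhd.cone y V
  let q : Spec (Y.presheaf.stalk y) ⟶ V.1.toScheme := V.1.fromSpecStalkOfMem y hyV
  have hq : ∀ h, c.π.app h ≫ t.app h = q := fun h => by
    rw [← cancel_mono V.1.ι, Category.assoc]
    change (Y.basicOpen h.unop.1).fromSpecStalkOfMem y h.unop.2 ≫ Y.homOfLE (Y.basicOpen_le h.unop.1) ≫ V.1.ι = q ≫ _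
    simp [q]
  let f' := pullback.snd f V.1.ι
  haveI : QuasiCompact f' := inferInstance
  haveI : CompactSpace ↥(pullback f V.1.ι) := QuasiCompact.compactSpace_of_compactSpace f'
  haveI : QuasiSeparatedSpace ↥(pullback f V.1.ι) := quasiSeparatedSpace_of_quasiSeparated f'
  let hP := IsPullback.of_hasPullback f' q
  let cE := Descend.pbCone D t f' c hq hP
  have hcE : IsLimit cE := Descend.pbIsLimit D t f' c hq hP (LimH13.Nhd.isLimit y V hyV)
  let i₀ : (LimH13.Nhd.Idx y V)ᵒᵖ := op (Classical.arbitrary _)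
  let a : ∀ h, (Descend.pbDiagram D t f').obj h ⟶ X := fun h =>
    pullback.fst f' (t.app h) ≫ pullback.fst f V.1.ι
  have hamp : CohB1.IsAmple ((Scheme.Modules.pullback (cE.π.app i₀)).obj
      ((Scheme.Modules.pullback (a i₀)).obj L)) := by
    rw [isAmple_pullback_comp_iff]
    refine isAmple_pullback_of_iso L _ _ (pullbackLeftPullbackSndIso f V.1.ι q ≪≫
      pullback.congrHom rfl (Scheme.Opens.fromSpecStalkOfMem_ι _ _ _)) ?_ hy
    simp only [cE, a, f', Iso.trans_hom, Category.assoc, pullback.congrHom_hom, pullback.lift_fst,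
      Category.comp_id]
    rw [pullbackLeftPullbackSndIso_hom_fst, Descend.pbCone_fst_assoc]
  obtain ⟨j, φ, hj⟩ := exists_isAmple_stage hcE (PicLoc.isInvertible_pullback _ hL) hamp
  rw [isAmple_pullback_comp_iff] at hj
  refine ⟨j.unop.1, j.unop.2, ?_⟩
  rw [isAmple_restrict_iff_pullback]
  refine isAmple_pullback_of_iso L _ _ ((pullbackRestrictIsoRestrict f _).symm ≪≫
    (pullback.congrHom rfl (Y.homOfLE_ι (Y.basicOpen_le j.unop.1))).symm ≪≫
      (pullbackLeftPullbackSndIso f V.1.ι (t.app j)).symm) ?_ hj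
  simp [a, f', Descend.pbDiagram, t]

/-- Ampleness on a fibre spreads to a neighbourhood of the base point. -/
theorem exists_nhd_isAmple [IsNoetherian Y] [IsProper f] (hL : PicF.IsInvertible L) (y : Y)
    (hy : CohB1.IsAmple ((Scheme.Modules.pullback (f.fiberι y)).obj L)) :
    ∃ V : Y.Opens, IsAffineOpen V ∧ y ∈ V ∧ CohB1.IsAmple (L.restrict (f ⁻¹ᵁ V).ι) ∧
      ∀ W : Y.Opens, W ≤ V → IsAffineOpen W → CohB1.IsAmple (L.restrict (f ⁻¹ᵁ W).ι) := by
  obtain ⟨V, hV, hyV, -⟩ := exists_isAffineOpen_mem_and_subset (x := y) (U := ⊤) trivial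
  obtain ⟨g, hg, hgA⟩ := exists_isAmple_preimage f L hL ⟨V, hV⟩ y hyV (isAmple_fromSpecStalk f hL y hy)
  refine ⟨Y.basicOpen g, hV.basicOpen g, hg, hgA, fun W hW hWa => ?_⟩
  rw [isAmple_restrict_iff_pullback]
  let j := X.homOfLE (f.preimage_mono hW)
  haveI : CompactSpace (f ⁻¹ᵁ W : X.Opens) :=
    isCompact_iff_compactSpace.mp (QuasiCompact.isCompact_preimage _ W.isOpen hWa.isCompact)
  have h := Amp.isAmple_pullback_of_isInducing j
    j.isOpenEmbedding.isInducing hgA
  rw [isAmple_iso_iff ((Scheme.Modules.pullback j).mapIso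
    ((Scheme.Modules.restrictFunctorIsoPullback _).app L)), isAmple_pullback_comp_iff] at h
  exact (isAmple_pullback_congr (X.homOfLE_ι _)).1 h

end Groth.Agent.AmpleFib
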