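import Groth.Agent.Lib.AmpleFib.Spread

/-!
# Ampleness on a fibre kills higher direct image stalks
-/

universe u

open CategoryTheory CategoryTheory.Limits AlgebraicGeometry Opposite TopologicalSpace

set_option backward.isDefEq.respectTransparency false
set_option linter.style.haveILetI false

namespace Groth.Agent.AmpleFib

open Groth.Agent.CohFound

variable {X Y : Scheme.{u}}

/-- A stalk vanishes when the sections over the members of a neighbourhood basis vanish. -/
theorem isZero_stalk_of_basis {T : TopCat.{u}} (A : CohTop.Ab T) (y : T) (P : Opens T → Prop)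
    (hP : ∀ U : Opens T, y ∈ U → ∃ V, P V ∧ y ∈ V ∧ V ≤ U)
    (h : ∀ V, P V → Subsingleton (A.obj.obj (op V))) :
    IsZero (TopCat.Presheaf.stalk (C := AddCommGrpCat.{u}) A.obj y) := by
  have h0 : ∀ a : (TopCat.Presheaf.stalk (C := AddCommGrpCat.{u}) A.obj y : Type u), a = 0 := fun a => by
    obtain ⟨U, hU, s, rfl⟩ := TopCat.Presheaf.exists_germ_eq A.obj a
    obtain ⟨V, hV, hyV, hVU⟩ := hP U hU
    rw [← TopCat.Presheaf.germ_res_apply A.obj (homOfLE hVU) y hyV s,
      @Subsingleton.elim _ (h V hV) (A.obj.map (homOfLE hVU).op s) 0, map_zero]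
  haveI : Subsingleton (TopCat.Presheaf.stalk (C := AddCommGrpCat.{u}) A.obj y : Type u) :=
    subsingleton_of_forall_eq 0 h0
  exact AddCommGrpCat.isZero_of_subsingleton _

/-- Higher direct images of large twists have zero stalks where the fibre is ample. -/
theorem exists_isZero_stalk [IsNoetherian Y] (f : X ⟶ Y) [IsProper f] (L : X.Modules)
    (hL : PicF.IsInvertible L) (M : X.Modules) (hM : Coh.IsCoh M) (y : Y)
    (hy : CohB1.IsAmple ((Scheme.Modules.pullback (f.fiberι y)).obj L)) :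
    ∃ d₀ : ℕ, ∀ d : ℕ, d₀ ≤ d → ∀ p : ℕ, 0 < p →
      IsZero (TopCat.Presheaf.stalk
        ((Coh.RpushAb f p).obj (Coh.toAb (CohB1.tensorMod M (CohB1.tensorPow L d)))).obj y) := by
  obtain ⟨V, hV, hyV, hA, -⟩ := exists_nhd_isAmple f L hL y hy
  haveI : IsNoetherianRing Γ(Y, V) := IsLocallyNoetherian.component_noetherian ⟨_, hV⟩
  haveI : IsAffine V.toScheme := hV
  let W := f ⁻¹ᵁ V
  haveI : IsProper (f ∣_ V) := inferInstance
  let q : (W : Scheme.{u}) ⟶ Spec (CommRingCat.of Γ(Y, V)) := (f ∣_ V) ≫ hV.isoSpec.hom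
  haveI : IsProper q := inferInstance
  obtain ⟨n₀, hn₀⟩ := exists_vanishing_all q hA (M := M.restrict W.ι)
    ⟨M1.isQCoh_restrict hM.1 W.ι, M1.isFT_restrict hM.2 W.ι⟩
  refine ⟨n₀, fun d hd p hp => ?_⟩
  let N := CohB1.tensorMod M (CohB1.tensorPow L d)
  have hN : Coh.IsQCoh N :=
    M2.isQCoh_tensor hM.1 (Twist.isQCoh_of_isInvertible (Amp.isInvertible_tensorPow hL d))
  refine isZero_stalk_of_basis _ y (fun U => ∃ g : Γ(Y, V), Y.basicOpen g = U)
    (fun U hU => ?_) ?_
  · obtain ⟨g, hg, hyg⟩ := hV.exists_basicOpen_le (V := U) ⟨y, hU⟩ hyV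
    exact ⟨_, ⟨g, rfl⟩, hyg, hg⟩
  · rintro U ⟨g, rfl⟩
    haveI : CompactSpace (W : Scheme.{u}) := QuasiCompact.compactSpace_of_compactSpace (f ∣_ V)
    haveI : QuasiSeparatedSpace (W : Scheme.{u}) := quasiSeparatedSpace_of_quasiSeparated (f ∣_ V)
    have h0 : Subsingleton (Hc ((abF (W : Scheme.{u})).obj (N.restrict W.ι)) p ⊤) := by
      refine subsingleton_hc_of_iso ?_ p ⊤ (hn₀ d hd p hp)
      exact M2.tensorIso ((Scheme.Modules.restrictFunctorIsoPullback W.ι).app M)
          (M2.tensorPowIso ((Scheme.Modules.restrictFunctorIsoPullback W.ι).app L) d ≪≫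
            (M2.pullTensorPowIso W.ι L d).symm) ≪≫
        (M2.pullTensorIso W.ι M (CohB1.tensorPow L d)).symm ≪≫
          ((Scheme.Modules.restrictFunctorIsoPullback W.ι).app _).symm
    have hv := subsingleton_hc_basicOpen N hN W (f.app V g) p h0
    rw [← Scheme.preimage_basicOpen] at hv
    obtain ⟨e⟩ := nonempty_sections_rpushAb f hN p (hV.basicOpen g)
    exact @Equiv.subsingleton _ _ e.toEquiv hv

end Groth.Agent.AmpleFib
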