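import Groth.Agent.Lib.AmpleImm18.Over
import Groth.Agent.Lib.VeryAmple11.FT
import Groth.Agent.Lib.VeryAmple11.Tools
import Groth.Agent.Lib.VeryAmple11.Ops
import Groth.Agent.Lib.VeryAmple11.Locality

/-!
# The separation criterion over an affine base gives immersions into projective space
-/

universe u

open CategoryTheory Limits AlgebraicGeometry TopologicalSpace Opposite

set_option linter.style.haveILetI false
set_option backward.isDefEq.respectTransparency false

namespace Groth.Agent.AmpleFib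

open Groth.Agent.VA11
open Groth.Agent.M1 (ores mres)

variable {X S : Scheme.{u}} [IsAffine S] (f : X ⟶ S) {L : X.Modules}

/-- Scalars acting through `f ≫ isoSpec` act as through `f`. -/
theorem toGlobal_isoSpec (c : Γ(S, ⊤)) :
    ProjUP.toGlobal (f ≫ S.isoSpec.hom) c = f.app ⊤ c := by
  show (f ≫ S.isoSpec.hom).appTop ((Scheme.ΓSpecIso (CommRingCat.of Γ(S, ⊤))).inv c) = _
  have h : S.isoSpec.hom.appTop = (Scheme.ΓSpecIso Γ(S, ⊤)).hom := Scheme.toSpecΓ_appTop S
  rw [Scheme.Hom.comp_appTop, h, CommRingCat.comp_apply]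
  congr 1
  exact congrArg (fun φ : Γ(S, ⊤) ⟶ Γ(S, ⊤) => φ c) (Scheme.ΓSpecIso Γ(S, ⊤)).inv_hom_id

/-- Finitely many separating sections give an immersion into projective space. -/
theorem isRelVeryAmplePn_of_vaat (hL : PicF.IsInvertible L) {κ : Type u} [Fintype κ]
    (σ : κ → Γ(L, f ⁻¹ᵁ ⊤)) (hva : ∀ x, VAat (f.app ⊤).hom σ x) :
    RelAmple.IsRelVeryAmplePn f L := by
  classical
  let q := f ≫ S.isoSpec.hom
  let G : κ → X.Opens := fun e => gl (σ e)
  have hcov : ⨆ e, G e = ⊤ := top_le_iff.1 fun x _ => by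
    obtain ⟨e, b, hb, hxb, -⟩ := hva x
    exact Opens.mem_iSup.2 ⟨e, X.basicOpen_le b hxb⟩
  obtain ⟨n, j, D, hjq, ⟨τ⟩, hD, hch⟩ := AmpleImm18.exists_map_of_sections q hL G hcov σ
    (fun e y => (mem_gl_iff hL (W := f ⁻¹ᵁ ⊤) (s := σ e) trivial).symm)
    (fun e => Finset.univ.image fun k => cf (σ e) (σ k))
    (fun e a ha => by
      obtain ⟨k, -, rfl⟩ := Finset.mem_image.1 ha
      exact ⟨σ k, (cf_smul (σ e) (σ k)).symm⟩)
  choose hpre hmem hc using hch
  have hrat : ∀ e, ratSub (f.app ⊤).hom σ e ≤ (j.appLE (D e) (G e) (hpre e).ge).hom.range := fun e => by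
    rw [ratSub, Subring.closure_le]
    rintro _ (⟨c, rfl⟩ | ⟨k, rfl⟩)
    · have h := hc e c
      rw [toGlobal_isoSpec] at h
      exact h
    · exact hmem e _ (Finset.mem_image.2 ⟨k, Finset.mem_univ k, rfl⟩)
  choose e b hb hxb hA hfr using hva
  choose b' hb' using fun x => hrat (e x) (hb x)
  let W : X → (CohB1.ProjSpace n Γ(S, ⊤)).Opens := fun x => (CohB1.ProjSpace n Γ(S, ⊤)).basicOpen (b' x)
  have hW : ∀ x, j ⁻¹ᵁ W x = X.basicOpen (b x) := fun x => by
    rw [← hb' x]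
    show j ⁻¹ᵁ (CohB1.ProjSpace n Γ(S, ⊤)).basicOpen (b' x) =
      X.basicOpen (X.presheaf.map (homOfLE (hpre (e x)).ge).op (j.app (D (e x)) (b' x)))
    rw [Scheme.preimage_basicOpen, Scheme.basicOpen_res, eq_comm, inf_eq_right]
    exact (X.basicOpen_le _).trans (hpre (e x)).le
  have himm : IsImmersion j := by
    refine AmpleImm18.isImmersion_of_charts j W (fun x => (hD _).basicOpen _) (fun x => X.basicOpen (b x))
      (fun x => hA x) (top_le_iff.1 fun x _ => Opens.mem_iSup.2 ⟨x, hxb x⟩) hW fun x => ?_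
    rw [eq_top_iff]
    intro c _
    obtain ⟨k, a, ha, hk⟩ : c ∈ fracs (ores (X.basicOpen_le (b x))).hom (ratSub (f.app ⊤).hom σ (e x)) (b x) (hb x) :=
      (hfr x) ▸ Subring.mem_top c
    obtain ⟨a', ha'⟩ := hrat (e x) ha
    let P := CohB1.ProjSpace n Γ(S, ⊤)
    let ψ := j.appLE (W x) (X.basicOpen (b x)) (hW x).ge
    let r := (ores (P.basicOpen_le (b' x))).hom
    have hu : IsUnit (r (b' x)) := P.toRingedSpace.isUnit_res_basicOpen (b' x)
    have hnat : ∀ z, ψ (r z) = ores (X.basicOpen_le (b x)) (j.appLE (D (e x)) (G (e x)) (hpre (e x)).ge z) := fun z => by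
      show ψ (P.presheaf.map (homOfLE (P.basicOpen_le (b' x))).op z) =
        X.presheaf.map (homOfLE (X.basicOpen_le (b x))).op (j.appLE (D (e x)) (G (e x)) _ z)
      rw [← CommRingCat.comp_apply, ← CommRingCat.comp_apply, Scheme.Hom.map_appLE, Scheme.Hom.appLE_map]
    refine ⟨r a' * ↑(hu.unit⁻¹) ^ k, ?_⟩
    show ψ (r a' * ↑(hu.unit⁻¹) ^ k) = c
    have h1 : ψ (r a') = c * ψ (r (b' x)) ^ k := by
      rw [hnat, hnat, hb' x, ha']
      exact hk.symm
    rw [map_mul, h1, map_pow, mul_assoc, ← mul_pow, ← map_mul, IsUnit.mul_val_inv, map_one, one_pow, mul_one]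
  obtain ⟨σ'⟩ := AmpleImm18.nonempty_pullback_map_twist n Γ(S, ⊤)
  let o := ProjSpace.overMap n S.isoSpec.inv
  haveI : IsIso o := by
    have h := ProjSpace.isPullback_overMap n S.isoSpec.inv
    exact h.isIso_fst_of_isIso
  haveI := himm
  refine ⟨n, j ≫ (ProjSpace.overSpecIso n Γ(S, ⊤)).hom ≫ o, inferInstance, ?_, ⟨?_⟩⟩
  · rw [Category.assoc, Category.assoc]
    change j ≫ _ ≫ o ≫ CohB1.ProjSpaceOver.toBase n S = f
    rw [(ProjSpace.isPullback_overMap n S.isoSpec.inv).w]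
    refine (congrArg (j ≫ ·) (ProjSpace.overSpecIso_hom_toBase_assoc n _ _)).trans ?_
    refine ((Category.assoc _ _ _).symm.trans (congrArg (· ≫ S.isoSpec.inv) hjq)).trans ?_
    simp [q]
  · let fY := pullback.fst (CohB1.ProjSpace.toSpec n (ULift.{u} ℤ)) (specULiftZIsTerminal.from S)
    have e : j ≫ ProjSpace.map n (ProjSpace.fromZ Γ(S, ⊤)) =
        (j ≫ (ProjSpace.overSpecIso n Γ(S, ⊤)).hom ≫ o) ≫ fY := by
      rw [← ProjSpace.overSpecIso_hom_fst]
      simp [o, fY, ProjSpace.overMap]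
    exact τ.symm ≪≫ (Scheme.Modules.pullback j).mapIso σ'.symm ≪≫
      (Scheme.Modules.pullbackComp j (ProjSpace.map n (ProjSpace.fromZ Γ(S, ⊤)))).app _ ≪≫
      eqToIso (congrArg (fun g => (Scheme.Modules.pullback g).obj _) e) ≪≫
      ((Scheme.Modules.pullbackComp _ fY).app _).symm

/-- Over an affine base, very ample for a morphism of finite type gives an immersion into projective space. -/
theorem isRelVeryAmplePn_of_isRelVeryAmple [LocallyOfFiniteType f] [QuasiCompact f]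
    (hL : PicF.IsInvertible L) (h : RelProj.IsRelVeryAmple f L) : RelAmple.IsRelVeryAmplePn f L := by
  classical
  haveI : CompactSpace X := QuasiCompact.compactSpace_of_compactSpace f
  obtain ⟨E, φ, -, hva⟩ := exists_va_of_isRelVeryAmple h
  choose T O hxO hO using fun x => exists_finset_vaat_self (isAffineOpen_top S) (hva ⊤ (isAffineOpen_top S) x trivial)
  obtain ⟨s, hs⟩ := isCompact_univ.elim_finite_subcover (fun x => (O x : Set X)) (fun x => (O x).isOpen)
    fun x _ => Set.mem_iUnion.2 ⟨x, hxO x⟩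
  refine isRelVeryAmplePn_of_vaat f hL (κ := (s.biUnion T : Finset Γ(E, ⊤)))
    (fun m => secs φ ⊤ m.1) fun y => ?_
  obtain ⟨x, hx, hy⟩ := Set.mem_iUnion₂.1 (hs (Set.mem_univ y))
  refine (hO x y hy).mono fun m hm =>
    ⟨⟨m.1, Finset.mem_biUnion.2 ⟨x, hx, m.2⟩⟩, le_rfl, hm, fun r => ?_, fun k => ?_⟩
  · rw [M1.ores_id]
    exact base_mem_ratSub (σ := fun m : (s.biUnion T : Finset Γ(E, ⊤)) => secs φ ⊤ m.1) r
  · rw [M1.ores_id]
    exact cf_mem_ratSub (σ := fun m : (s.biUnion T : Finset Γ(E, ⊤)) => secs φ ⊤ m.1)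
      ⟨k.1, Finset.mem_biUnion.2 ⟨x, hx, k.2⟩⟩

end Groth.Agent.AmpleFib
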